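import Cfsg.Agent.Lib.CITExt.L34

/-!
`PSL₃` over four elements: centralisers and normalisers of the elements of order five and seven.
-/

set_option autoImplicit false
set_option linter.unusedSectionVars false
set_option linter.unusedVariables false

universe u

namespace CfsgLib.SuzType.L34

open Subgroup

/-- Two elements of the same prime order `p` generate conjugate subgroups, if `p` divides the order of the group once. -/
theorem conj_zpowers {H : Type u} [Group H] [Finite H] {p : ℕ} [Fact p.Prime] (hp : ¬ p ^ 2 ∣ Nat.card H) {a b : H}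
    (ha : orderOf a = p) (hb : orderOf b = p) : ∃ m : H, m * b * m⁻¹ ∈ zpowers a := by
  have hP : ∀ c : H, orderOf c = p → ∀ P : Sylow p H, c ∈ P → (P : Subgroup H) = zpowers c := by
    intro c hc P hcP
    refine (eq_of_le_of_card_ge (zpowers_le.mpr hcP) ?_).symm
    obtain ⟨k, hk⟩ := IsPGroup.iff_card.mp P.isPGroup'
    rw [Nat.card_zpowers, hc, hk]
    have hk1 : k ≤ 1 := by
      by_contra hh
      exact hp ((pow_dvd_pow p (by omega : 2 ≤ k)).trans (hk ▸ card_subgroup_dvd_card (P : Subgroup H)))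
    calc p ^ k ≤ p ^ 1 := Nat.pow_le_pow_right (Fact.out : p.Prime).pos hk1
      _ = p := pow_one p
  have hsyl : ∀ c : H, orderOf c = p → ∃ P : Sylow p H, c ∈ P := fun c hc => by
    obtain ⟨P, hle⟩ := (IsPGroup.of_card (G := zpowers c) (n := 1) (by rw [Nat.card_zpowers, hc, pow_one])).exists_le_sylow
    exact ⟨P, hle (mem_zpowers c)⟩
  obtain ⟨P, haP⟩ := hsyl a ha
  obtain ⟨R, hbR⟩ := hsyl b hb
  obtain ⟨m, hm⟩ := MulAction.exists_smul_eq H R P
  refine ⟨m, ?_⟩
  rw [← hP a ha P haP, ← hm, Sylow.coe_subgroup_smul]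
  exact smul_mem_pointwise_smul _ (MulAut.conj m) _ hbR

variable {M : Type u} [Group M] [Finite M] {F : Type} [Field F] [Fintype F]

theorem card (e : M ≃* Matrix.ProjectiveSpecialLinearGroup (Fin 3) F) (h4 : Fintype.card F = 4) :
    Nat.card M = 20160 := by rw [Nat.card_congr e.toEquiv, EppoAlmost.card_psl_three_four h4]

theorem cent_eq (e : M ≃* Matrix.ProjectiveSpecialLinearGroup (Fin 3) F) (h4 : Fintype.card F = 4) {s : ℕ}
    (hs : s = 5 ∨ s = 7) {b c : M} (hb : orderOf b = s) (hc : c * b = b * c) : c ∈ zpowers b := by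
  have hsp : s.Prime := by rcases hs with rfl | rfl <;> norm_num
  haveI : Fact s.Prime := ⟨hsp⟩
  have hle : zpowers b ≤ centralizer ({b} : Set M) := zpowers_le.mpr (mem_centralizer_singleton_iff.mpr rfl)
  have hcard : Nat.card (centralizer ({b} : Set M) : Subgroup M) ≤ s := by
    set C := centralizer ({b} : Set M)
    have hu : ∀ t : ℕ, t.Prime → t ∣ Nat.card C → t = s := by
      intro t ht htC
      haveI : Fact t.Prime := ⟨ht⟩
      obtain ⟨⟨x, hx⟩, hxo⟩ := exists_prime_orderOf_dvd_card' (G := C) t htC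
      rw [Subgroup.orderOf_mk] at hxo
      exact (CITExt.prime_eq e h4 hsp (by rcases hs with rfl | rfl <;> norm_num) ht hb hxo
        (mem_centralizer_singleton_iff.mp hx).symm).symm
    rw [Nat.eq_prime_pow_of_unique_prime_dvd Nat.card_pos.ne' fun {t} ht htC => hu t ht htC]
    have hd : s ^ (Nat.card C).primeFactorsList.length ∣ 20160 := by
      rw [← Nat.eq_prime_pow_of_unique_prime_dvd Nat.card_pos.ne' fun {t} ht htC => hu t ht htC, ← card e h4]
      exact card_subgroup_dvd_card C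
    have hl : (Nat.card C).primeFactorsList.length ≤ 1 := by
      by_contra hh
      have := (pow_dvd_pow s (show 2 ≤ (Nat.card C).primeFactorsList.length by omega)).trans hd
      rcases hs with rfl | rfl <;> norm_num at this
    calc s ^ (Nat.card C).primeFactorsList.length ≤ s ^ 1 := Nat.pow_le_pow_right hsp.pos hl
      _ = s := pow_one s
  have heq := eq_of_le_of_card_ge hle (by rw [Nat.card_zpowers, hb]; exact hcard)
  rw [heq]
  exact mem_centralizer_singleton_iff.mpr hc

theorem index_eq (e : M ≃* Matrix.ProjectiveSpecialLinearGroup (Fin 3) F) (h4 : Fintype.card F = 4) {b : M} {s d : ℕ}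
    (hsd : (s = 5 ∧ d = 2) ∨ (s = 7 ∧ d = 3)) (hb : orderOf b = s) :
    ((zpowers b).subgroupOf (normalizer ((zpowers b : Subgroup M) : Set M))).index = d ∧
      s * d = Nat.card (normalizer ((zpowers b : Subgroup M) : Set M)) := by
  have hs : s = 5 ∨ s = 7 := hsd.imp And.left And.left
  have hsp : s.Prime := by rcases hs with rfl | rfl <;> norm_num
  haveI : Fact s.Prime := ⟨hsp⟩
  obtain ⟨P, hle⟩ := (IsPGroup.of_card (G := zpowers b) (n := 1) (by rw [Nat.card_zpowers, hb, pow_one])).exists_le_sylow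
  obtain ⟨k, hk⟩ := IsPGroup.iff_card.mp P.isPGroup'
  have hP : (P : Subgroup M) = zpowers b := by
    refine (eq_of_le_of_card_ge hle ?_).symm
    rw [Nat.card_zpowers, hb, hk]
    have hk1 : k ≤ 1 := by
      by_contra hh
      have := ((pow_dvd_pow s (by omega : 2 ≤ k)).trans (hk ▸ card_subgroup_dvd_card (P : Subgroup M))).trans
        (card e h4).dvd
      rcases hs with rfl | rfl <;> norm_num at this
    calc s ^ k ≤ s ^ 1 := Nat.pow_le_pow_right hsp.pos hk1
      _ = s := pow_one s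
  have hn1 := card_sylow_modEq_one s M
  rw [Sylow.card_eq_index_normalizer P, ← P.coe_coe, hP] at hn1
  haveI : IsCyclic (zpowers b) := inferInstance
  have key := Subgroup.card_dvd_of_injective _ (QuotientGroup.kerLift_injective (zpowers b).normalizerMonoidHom)
  rw [Subgroup.normalizerMonoidHom_ker, ← Subgroup.index, (inferInstance : IsCyclic (zpowers b)).card_mulAut,
    Nat.card_zpowers, hb, Nat.totient_prime hsp] at key
  have hm := ((centralizer ((zpowers b : Subgroup M) : Set M)).subgroupOf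
    (normalizer ((zpowers b : Subgroup M) : Set M))).card_mul_index
  have hC : centralizer ((zpowers b : Subgroup M) : Set M) = zpowers b := le_antisymm
    (fun c hc => cent_eq e h4 hs hb (mem_centralizer_iff.mp hc b (mem_zpowers b)).symm)
    (fun c hc => mem_centralizer_iff.mpr fun q hq => by
      obtain ⟨i, rfl⟩ := mem_zpowers_iff.mp hc
      obtain ⟨j, rfl⟩ := mem_zpowers_iff.mp hq
      exact ((Commute.refl b).zpow_zpow j i).eq)
  rw [Nat.card_congr (Subgroup.subgroupOfEquivOfLe (Subgroup.centralizer_le_normalizer _)).toEquiv, hC,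
    Nat.card_zpowers, hb] at hm
  rw [hC] at key
  have hN := (normalizer ((zpowers b : Subgroup M) : Set M)).card_mul_index
  rw [card e h4, ← hm] at hN
  generalize ((zpowers b).subgroupOf (normalizer ((zpowers b : Subgroup M) : Set M))).index = δ at key hm hN
  generalize (normalizer ((zpowers b : Subgroup M) : Set M)).index = n at hn1 hN
  have hδ : δ = d := by
    rw [Nat.ModEq] at hn1
    rcases hsd with ⟨rfl, rfl⟩ | ⟨rfl, rfl⟩
    · have := Nat.le_of_dvd (by norm_num) key
      interval_cases δ <;> omega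
    · have := Nat.le_of_dvd (by norm_num) key
      interval_cases δ <;> omega
  exact ⟨hδ, hδ ▸ hm⟩

/-- The automisers of the subgroups of order five and seven. -/
theorem norm_pow (e : M ≃* Matrix.ProjectiveSpecialLinearGroup (Fin 3) F) (h4 : Fintype.card F = 4) {b n : M}
    {s d : ℕ} (hsd : (s = 5 ∧ d = 2) ∨ (s = 7 ∧ d = 3)) (hb : orderOf b = s) (hn : n * b * n⁻¹ ∈ zpowers b) :
    n ^ d * b = b * n ^ d := by
  have hinv : ∀ a ∈ zpowers b, n * a * n⁻¹ ∈ zpowers b := by
    intro a ha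
    obtain ⟨i, rfl⟩ := mem_zpowers_iff.mp ha
    rw [← conj_zpow]
    exact zpow_mem hn i
  have hnN : n ∈ normalizer ((zpowers b : Subgroup M) : Set M) := by
    refine mem_normalizer_iff.mpr fun a => ⟨hinv a, fun hna => ?_⟩
    obtain ⟨⟨c, hc⟩, e'⟩ := Finite.surjective_of_injective
      (f := fun q : zpowers b => (⟨n * q * n⁻¹, hinv q q.2⟩ : zpowers b))
      (fun p q e => Subtype.ext (mul_left_cancel (mul_right_cancel (congrArg Subtype.val e)))) ⟨_, hna⟩
    exact (mul_left_cancel (mul_right_cancel (congrArg Subtype.val e')) : c = a) ▸ hc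
  haveI : ((zpowers b).subgroupOf (normalizer ((zpowers b : Subgroup M) : Set M))).Normal := normal_in_normalizer
  have h := Subgroup.pow_index_mem ((zpowers b).subgroupOf (normalizer ((zpowers b : Subgroup M) : Set M))) ⟨n, hnN⟩
  rw [(index_eq e h4 hsd hb).1, mem_subgroupOf] at h
  obtain ⟨i, hi⟩ := mem_zpowers_iff.mp h
  have hi' : b ^ i = n ^ d := by simpa using hi
  rw [← hi']
  exact ((Commute.refl b).zpow_left i).eq

theorem exists_normalizing (e : M ≃* Matrix.ProjectiveSpecialLinearGroup (Fin 3) F) (h4 : Fintype.card F = 4) {b : M} :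
    (orderOf b = 5 → ∃ n : M, orderOf n = 2 ∧ n * b * n⁻¹ = b⁻¹) ∧ (orderOf b = 7 → ∃ n : M, n * b * n⁻¹ = b ^ 2) := by
  have main : ∀ s d : ℕ, (s = 5 ∧ d = 2) ∨ (s = 7 ∧ d = 3) → orderOf b = s →
      ∃ n : M, orderOf n = d ∧ ∃ k, k < s ∧ n * b * n⁻¹ = b ^ k ∧ k ≠ 1 := by
    intro s d hsd hb
    classical
    have hs : s = 5 ∨ s = 7 := hsd.imp And.left And.left
    have hsp : s.Prime := by rcases hs with rfl | rfl <;> norm_num
    haveI : Fact s.Prime := ⟨hsp⟩
    haveI : Fact d.Prime := ⟨by rcases hsd with ⟨-, rfl⟩ | ⟨-, rfl⟩ <;> norm_num⟩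
    obtain ⟨hm1, hm⟩ := index_eq e h4 hsd hb
    obtain ⟨⟨m, hmN⟩, hmo⟩ := exists_prime_orderOf_dvd_card' (G := normalizer ((zpowers b : Subgroup M) : Set M)) d
      (by rw [← hm]; exact Dvd.intro_left _ rfl)
    rw [Subgroup.orderOf_mk] at hmo
    have hmem : m * b * m⁻¹ ∈ zpowers b := (mem_normalizer_iff.mp hmN b).mp (mem_zpowers b)
    rw [mem_zpowers_iff_mem_range_orderOf, Finset.mem_image] at hmem
    obtain ⟨j, hj, hje⟩ := hmem
    refine ⟨m, hmo, j, hb ▸ Finset.mem_range.mp hj, hje.symm, fun h1 => ?_⟩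
    rw [h1, pow_one] at hje
    have h2 := Subgroup.orderOf_dvd_natCard _ (cent_eq e h4 hs hb (mul_inv_eq_iff_eq_mul.mp hje.symm))
    rw [Nat.card_zpowers, hb, hmo] at h2
    rcases hsd with ⟨rfl, rfl⟩ | ⟨rfl, rfl⟩ <;> norm_num at h2
  refine ⟨fun hb => ?_, fun hb => ?_⟩
  · obtain ⟨n, hno, k, hk, hnk, hk1⟩ := main 5 2 (Or.inl ⟨rfl, rfl⟩) hb
    have h2 : n * n = 1 := by rw [← pow_two, ← hno, pow_orderOf_eq_one]
    have h : b ^ (k * k) = b ^ 1 := by
      rw [pow_mul, ← hnk, conj_pow, ← hnk, show n * (n * b * n⁻¹) * n⁻¹ = n * n * b * (n * n)⁻¹ by group, h2,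
        one_mul, inv_one, mul_one, pow_one]
    rw [pow_eq_pow_iff_modEq, hb, Nat.ModEq] at h
    refine ⟨n, hno, ?_⟩
    interval_cases k <;> (first | omega | skip)
    rw [hnk, eq_inv_iff_mul_eq_one, ← pow_succ]
    rw [show 4 + 1 = orderOf b from hb.symm, pow_orderOf_eq_one]
  · obtain ⟨n, hno, k, hk, hnk, hk1⟩ := main 7 3 (Or.inr ⟨rfl, rfl⟩) hb
    have h2 : n * n * b * (n * n)⁻¹ = b ^ (k * k) := by
      rw [pow_mul, ← hnk, conj_pow, ← hnk]; group
    have h3 : n * n * n = 1 := by rw [← pow_two, ← pow_succ, show 2 + 1 = orderOf n from hno.symm, pow_orderOf_eq_one]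
    have h : b ^ (k * k * k) = b ^ 1 := by
      rw [pow_mul, ← h2, conj_pow, ← hnk, show n * n * (n * b * n⁻¹) * (n * n)⁻¹ = n * n * n * b * (n * n * n)⁻¹ by group,
        h3, one_mul, inv_one, mul_one, pow_one]
    rw [pow_eq_pow_iff_modEq, hb, Nat.ModEq] at h
    interval_cases k <;> (first | omega | skip)
    · exact ⟨n, hnk⟩
    · refine ⟨n * n, h2.trans ?_⟩
      rw [show 4 * 4 = 2 + 7 * 2 from rfl, pow_add, pow_mul, ← hb, pow_orderOf_eq_one, one_pow, mul_one]

end CfsgLib.SuzType.L34
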