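import Cfsg.Agent.Lib.SuzType.Second.Cfg

/-!
Groups of Suzuki sporadic type: Sylow two-subgroups of `C(t)` and `C(t, w)`, fusion of the conjugates of `z`.
-/

set_option autoImplicit false
set_option linter.unusedSectionVars false
set_option linter.unusedVariables false

universe u

namespace CfsgLib.SuzType

open CfsgLargeExtra
open CfsgLib.HallJankoType (mem_cent conj_fix_iff)

variable {G : Type u} [Group G] [Finite G]

/-- The centraliser of the four group `{1, t, w, t w}`. -/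
def Kg (t w : G) : Subgroup G := Subgroup.centralizer ({t} : Set G) ⊓ Subgroup.centralizer ({w} : Set G)

/-- The centraliser of a frame. -/
def Sg (z x t : G) : Subgroup G :=
  Subgroup.centralizer ({z} : Set G) ⊓ Subgroup.centralizer ({x} : Set G) ⊓ Subgroup.centralizer ({t} : Set G)

theorem mem_Kg {t w g : G} : g ∈ Kg t w ↔ g * t = t * g ∧ g * w = w * g := by
  rw [Kg, Subgroup.mem_inf, mem_cent, mem_cent]

theorem mem_Sg {z x t g : G} : g ∈ Sg z x t ↔ g * z = z * g ∧ g * x = x * g ∧ g * t = t * g := by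
  rw [Sg, Subgroup.mem_inf, Subgroup.mem_inf, mem_cent, mem_cent, mem_cent, and_assoc]

theorem two_element {P : Subgroup G} (hP : IsPGroup 2 P) {p : G} (hp : p ∈ P) : ∃ k : ℕ, p ^ 2 ^ k = 1 := by
  obtain ⟨k, hk⟩ := hP ⟨p, hp⟩
  exact ⟨k, congrArg Subtype.val hk⟩

/-- A subgroup is a maximal two-subgroup if it contains the two-elements of its normaliser. -/
theorem max_of_norm {S H : Subgroup G} (hS : IsPGroup 2 S)
    (hn : ∀ n ∈ H, (∀ a ∈ S, n * a * n⁻¹ ∈ S) → (∃ k : ℕ, n ^ 2 ^ k = 1) → n ∈ S) (P : Subgroup G)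
    (hP : IsPGroup 2 P) (hPH : P ≤ H) (hSP : S ≤ P) : P ≤ S := by
  by_contra hle
  haveI : Fact (Nat.Prime 2) := ⟨Nat.prime_two⟩
  haveI := hP.isNilpotent
  have hlt : S.subgroupOf P < ⊤ := by
    refine lt_top_iff_ne_top.mpr fun e => hle fun p hp => ?_
    have : (⟨p, hp⟩ : P) ∈ S.subgroupOf P := by rw [e]; trivial
    exact this
  obtain ⟨⟨n, hnP⟩, hnN, hnS⟩ := SetLike.exists_of_lt (normalizerCondition_of_isNilpotent _ hlt)
  refine hnS (hn n (hPH hnP) (fun a ha => ?_) (two_element hP hnP))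
  exact (Subgroup.mem_normalizer_iff.mp hnN ⟨a, hSP ha⟩).mp ha

/-- A maximal two-subgroup of `K` receives conjugates of all two-subgroups of `K`. -/
theorem conj_into {S K : Subgroup G} (hS : IsPGroup 2 S) (hSK : S ≤ K)
    (hmax : ∀ P : Subgroup G, IsPGroup 2 P → P ≤ K → S ≤ P → P ≤ S) (P : Subgroup G) (hP : IsPGroup 2 P)
    (hPK : P ≤ K) : ∃ k ∈ K, ∀ p ∈ P, k * p * k⁻¹ ∈ S := by
  haveI : Fact (Nat.Prime 2) := ⟨Nat.prime_two⟩
  have h1 : IsPGroup 2 (S.subgroupOf K) := hS.of_equiv (Subgroup.subgroupOfEquivOfLe hSK).symm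
  have h2 : IsPGroup 2 (P.subgroupOf K) := hP.of_equiv (Subgroup.subgroupOfEquivOfLe hPK).symm
  obtain ⟨R, hR⟩ := h1.exists_le_sylow
  obtain ⟨R', hR'⟩ := h2.exists_le_sylow
  obtain ⟨k, hk⟩ := MulAction.exists_smul_eq K R' R
  refine ⟨k, k.2, fun p hp => ?_⟩
  have hmem : k * ⟨p, hPK hp⟩ * k⁻¹ ∈ (R : Subgroup K) := by
    rw [← hk, Sylow.coe_subgroup_smul]
    exact Subgroup.smul_mem_pointwise_smul _ (MulAut.conj k) _ (hR' hp)
  have hmap : (R : Subgroup K).map K.subtype ≤ S :=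
    hmax _ (R.isPGroup'.map _) (Subgroup.map_subtype_le _) fun q hq => ⟨⟨q, hSK hq⟩, hR hq, rfl⟩
  exact hmap ⟨_, hmem, rfl⟩

theorem isPGroup_of_pow {S : Subgroup G} (k : ℕ) (h : ∀ g ∈ S, g ^ 2 ^ k = 1) : IsPGroup 2 S :=
  fun g => ⟨k, Subtype.ext (h g g.2)⟩

theorem mem_of_cube {S : Subgroup G} {n : G} (h3 : n ^ 3 ∈ S) (h2 : ∃ k : ℕ, n ^ 2 ^ k = 1) : n ∈ S := by
  obtain ⟨k, hk⟩ := h2
  have hcop : Nat.Coprime 3 (2 ^ k) := Nat.Coprime.pow_right _ (by norm_num)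
  have e : n ^ (((3 : ℕ) : ℤ) * Nat.gcdA 3 (2 ^ k) + ((2 ^ k : ℕ) : ℤ) * Nat.gcdB 3 (2 ^ k)) = n ^ (1 : ℤ) := by
    rw [← Nat.gcd_eq_gcd_ab, hcop]; rfl
  rw [zpow_add, zpow_mul, zpow_mul, zpow_natCast, zpow_natCast, hk, one_zpow, mul_one, zpow_one] at e
  rw [← e]
  exact zpow_mem h3 _

namespace Cfg

variable {z x t w : G} (C : Cfg z x t w)
include C

theorem Sg_pgroup : IsPGroup 2 (Sg z x t) := by
  refine isPGroup_of_pow 2 fun g hg => ?_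
  obtain ⟨hz, hx, ht⟩ := mem_Sg.mp hg
  exact C.pow_four hz hx ht

theorem Sg_le : Sg z x t ≤ Kg t w := fun g hg => by
  obtain ⟨hz, hx, ht⟩ := mem_Sg.mp hg
  exact mem_Kg.mpr ⟨ht, C.comm_w hz hx ht⟩

theorem mem_Sg_of_K {g : G} (hg : g ∈ Kg t w) (hz : g * z = z * g) : g ∈ Sg z x t := by
  obtain ⟨ht, hw⟩ := mem_Kg.mp hg
  exact mem_Sg.mpr ⟨hz, C.comm_x hz ht hw, ht⟩

theorem mem_Sg_of_x {g : G} (hg : g ∈ Kg t w) (hx : g * x = x * g) : g ∈ Sg z x t := by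
  obtain ⟨ht, hw⟩ := mem_Kg.mp hg
  exact mem_Sg.mpr ⟨C.symm.comm_x hx ht hw, hx, ht⟩

theorem mem_Sg_of_xz {g : G} (hg : g ∈ Kg t w) (hx : g * (x * z) = x * z * g) : g ∈ Sg z x t :=
  C.mem_Sg_of_K hg (C.shift.symm.comm_x hx (mem_Kg.mp hg).1 (mem_Kg.mp hg).2)

theorem z_mem : z ∈ Sg z x t := by
  obtain ⟨-, -, -, -, -, hzx, -, -, -, -, -, -, htz, -⟩ := C.rels
  exact mem_Sg.mpr ⟨rfl, hzx, htz.symm⟩

theorem x_mem : x ∈ Sg z x t := by
  obtain ⟨-, -, -, -, -, hzx, -, -, -, -, -, -, -, htx, -⟩ := C.rels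
  exact mem_Sg.mpr ⟨hzx.symm, rfl, htx.symm⟩

theorem t_mem : t ∈ Sg z x t := by
  obtain ⟨-, -, -, -, -, -, -, -, -, -, -, -, htz, htx, -⟩ := C.rels
  exact mem_Sg.mpr ⟨htz, htx, rfl⟩

theorem w_mem : w ∈ Sg z x t := by
  obtain ⟨-, -, -, -, -, -, -, -, -, htw, -, -, -, -, hwz, hwx⟩ := C.rels
  exact mem_Sg.mpr ⟨hwz, hwx, htw.symm⟩

/-- The images of `z` under the normaliser of the frame centraliser. -/
theorem norm_z {n : G} (hnt : n * t = t * n) (hn : ∀ a ∈ Sg z x t, n * a * n⁻¹ ∈ Sg z x t) {y : G}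
    (hy : y ∈ Sg z x t) (hyc : IsConj z y) (hcen : ∀ c, c ∈ Sg z x t → c * y = y * c) :
    n * y * n⁻¹ = z ∨ n * y * n⁻¹ = x ∨ n * y * n⁻¹ = x * z := by
  obtain ⟨h1, h2, h3⟩ := mem_Sg.mp (hn y hy)
  refine C.center_cases h1 h2 h3 (hyc.trans (isConj_iff.mpr ⟨n, rfl⟩)) fun c a b d => ?_
  have hfin : ∀ a ∈ Sg z x t, ∃ a' ∈ Sg z x t, n * a' * n⁻¹ = a := by
    intro a ha
    obtain ⟨⟨a', ha'⟩, e⟩ := Finite.surjective_of_injective
      (f := fun u : Sg z x t => (⟨n * u * n⁻¹, hn u u.2⟩ : Sg z x t))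
      (fun p q h => Subtype.ext (mul_left_cancel (mul_right_cancel (congrArg Subtype.val h)))) ⟨a, ha⟩
    exact ⟨a', ha', congrArg Subtype.val e⟩
  obtain ⟨c', hc', rfl⟩ := hfin c (mem_Sg.mpr ⟨a, b, d⟩)
  rw [show n * c' * n⁻¹ * (n * y * n⁻¹) = n * (c' * y) * n⁻¹ by group, hcen c' hc']
  group

theorem Sg_max (P : Subgroup G) (hP : IsPGroup 2 P) (hPK : P ≤ Kg t w) (hSP : Sg z x t ≤ P) : P ≤ Sg z x t := by
  refine max_of_norm C.Sg_pgroup (fun n hn hnorm h2 => ?_) P hP hPK hSP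
  obtain ⟨hzz, hxx, hz1, hx1, hne, hzx, -⟩ := C.rels
  obtain ⟨cx, cxz, -⟩ := C.types
  have hcen : ∀ {y : G}, y = z ∨ y = x ∨ y = x * z → ∀ c, c ∈ Sg z x t → c * y = y * c := fun {y} hy c hc => by
    obtain ⟨a, b, -⟩ := mem_Sg.mp hc
    rcases hy with rfl | rfl | rfl
    exacts [a, b, Commute.mul_right b a]
  have img := fun {y : G} (hy : y ∈ Sg z x t) (hyc : IsConj z y) hc => C.norm_z (y := y) (mem_Kg.mp hn).1 hnorm hy hyc hc
  have nmul : n * (x * z) * n⁻¹ = n * x * n⁻¹ * (n * z * n⁻¹) := by group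
  have inj : ∀ {p q : G}, n * p * n⁻¹ = n * q * n⁻¹ → p = q := fun h => mul_left_cancel (mul_right_cancel h)
  rcases img C.z_mem (IsConj.refl z) (hcen (Or.inl rfl)) with e | e | e
  · exact C.mem_Sg_of_K hn (conj_fix_iff.mp e)
  · rcases img C.x_mem cx (hcen (Or.inr (Or.inl rfl))) with e' | e' | e'
    · refine C.mem_Sg_of_xz hn (conj_fix_iff.mp ?_)
      rw [nmul, e, e', hzx]
    · exact C.mem_Sg_of_x hn (conj_fix_iff.mp e')
    · refine mem_of_cube (C.mem_Sg_of_K (pow_mem hn 3) (conj_fix_iff.mp ?_)) h2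
      rw [show n ^ 3 * z * (n ^ 3)⁻¹ = n * (n * (n * z * n⁻¹) * n⁻¹) * n⁻¹ by simp [pow_succ, mul_assoc], e, e',
        nmul, e, e', mul_assoc, hzx, ← mul_assoc, hxx, one_mul]
  · rcases img C.x_mem cx (hcen (Or.inr (Or.inl rfl))) with e' | e' | e'
    · refine mem_of_cube (C.mem_Sg_of_K (pow_mem hn 3) (conj_fix_iff.mp ?_)) h2
      rw [show n ^ 3 * z * (n ^ 3)⁻¹ = n * (n * (n * z * n⁻¹) * n⁻¹) * n⁻¹ by simp [pow_succ, mul_assoc], e, nmul, e', e,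
        show z * (x * z) = x by rw [← mul_assoc, hzx, mul_assoc, hzz, mul_one], e']
    · exact C.mem_Sg_of_x hn (conj_fix_iff.mp e')
    · exact absurd (inj (e'.trans e.symm)) hne

/-- An element of `K` permuting `z`, `x`, `x z` cyclically. -/
theorem exists_cycle : ∃ n ∈ Kg t w, n * z * n⁻¹ = z * x ∧ n * x * n⁻¹ = z := by
  obtain ⟨hzz, hxx, -, -, -, hzx, htt, -, -, -⟩ := C.rels
  obtain ⟨c, hcz, hct, hcx, hcw⟩ := C.exists_outer
  obtain ⟨d, hdx, hdt, hdz, hdw⟩ := C.symm.exists_outer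
  refine ⟨d * c, mem_Kg.mpr ⟨Commute.mul_left hdt hct, conj_fix_iff.mp ?_⟩, ?_, ?_⟩
  · rw [show d * c * w * (d * c)⁻¹ = d * (c * w * c⁻¹) * d⁻¹ by group, hcw,
      show d * (t * w) * d⁻¹ = d * t * d⁻¹ * (d * w * d⁻¹) by group, conj_fix_iff.mpr hdt, hdw, ← mul_assoc, htt,
      one_mul]
  · rw [show d * c * z * (d * c)⁻¹ = d * (c * z * c⁻¹) * d⁻¹ by group, conj_fix_iff.mpr hcz, hdz]
  · rw [show d * c * x * (d * c)⁻¹ = d * (c * x * c⁻¹) * d⁻¹ by group, hcx,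
      show d * (x * z) * d⁻¹ = d * x * d⁻¹ * (d * z * d⁻¹) by group, conj_fix_iff.mpr hdx, hdz, hzx, ← mul_assoc,
      hxx, one_mul]

theorem conj_Sg {P : Subgroup G} (hP : IsPGroup 2 P) (hPK : P ≤ Kg t w) : ∃ k ∈ Kg t w, ∀ p ∈ P, k * p * k⁻¹ ∈ Sg z x t :=
  conj_into C.Sg_pgroup C.Sg_le C.Sg_max P hP hPK

/-- The centraliser in `C(t)` of `z`. -/
theorem Sz_pgroup : IsPGroup 2 (Subgroup.centralizer ({z} : Set G) ⊓ Subgroup.centralizer ({t} : Set G) : Subgroup G) :=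
  isPGroup_of_pow 3 fun g hg => C.pow_eight (mem_cent.mp hg.1) (mem_cent.mp hg.2)

theorem Sz_max (P : Subgroup G) (hP : IsPGroup 2 P) (hPt : P ≤ Subgroup.centralizer ({t} : Set G))
    (hSP : Subgroup.centralizer ({z} : Set G) ⊓ Subgroup.centralizer ({t} : Set G) ≤ P) :
    P ≤ Subgroup.centralizer ({z} : Set G) ⊓ Subgroup.centralizer ({t} : Set G) := by
  refine max_of_norm C.Sz_pgroup (fun n hn hnorm _ => ?_) P hP hPt hSP
  obtain ⟨hzz, hxx, hz1, hx1, hne, hzx, -, -, -, -, -, -, htz, -⟩ := C.rels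
  obtain ⟨c, hcz, hct, hcx, hcw⟩ := C.exists_outer
  have hzm : z ∈ Subgroup.centralizer ({z} : Set G) ⊓ Subgroup.centralizer ({t} : Set G) :=
    ⟨mem_cent.mpr rfl, mem_cent.mpr htz.symm⟩
  obtain ⟨hyz, hyt⟩ := hnorm z hzm
  refine ⟨mem_cent.mpr (conj_fix_iff.mp ?_), hn⟩
  have hcom : ∀ a, a ∈ Subgroup.centralizer ({z} : Set G) ⊓ Subgroup.centralizer ({t} : Set G) →
      a * (n * z * n⁻¹) = n * z * n⁻¹ * a := by
    intro a ha
    obtain ⟨⟨a', ha'⟩, e⟩ := Finite.surjective_of_injective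
      (f := fun u : (Subgroup.centralizer ({z} : Set G) ⊓ Subgroup.centralizer ({t} : Set G) : Subgroup G) =>
        (⟨n * u * n⁻¹, hnorm u u.2⟩ : (Subgroup.centralizer ({z} : Set G) ⊓ Subgroup.centralizer ({t} : Set G) : Subgroup G)))
      (fun p q h => Subtype.ext (mul_left_cancel (mul_right_cancel (congrArg Subtype.val h)))) ⟨a, ha⟩
    rw [← show n * a' * n⁻¹ = a from congrArg Subtype.val e]
    rw [show n * a' * n⁻¹ * (n * z * n⁻¹) = n * (a' * z) * n⁻¹ by group, mem_cent.mp ha'.1]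
    group
  have hyx : n * z * n⁻¹ * x = x * (n * z * n⁻¹) :=
    (hcom x ⟨mem_cent.mpr hzx.symm, mem_cent.mpr (mem_Sg.mp C.x_mem).2.2⟩).symm
  have hcc := hcom c ⟨mem_cent.mpr hcz, mem_cent.mpr hct⟩
  rcases C.center_cases (mem_cent.mp hyz) hyx (mem_cent.mp hyt) (isConj_iff.mpr ⟨n, rfl⟩)
      (fun a h1 h2 h3 => hcom a ⟨mem_cent.mpr h1, mem_cent.mpr h3⟩) with e | e | e
  · exact e
  · rw [e, ← conj_fix_iff, hcx] at hcc
    exact absurd (mul_eq_left.mp hcc) hz1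
  · rw [e, ← conj_fix_iff, show c * (x * z) * c⁻¹ = c * x * c⁻¹ * (c * z * c⁻¹) by group, hcx,
      conj_fix_iff.mpr hcz] at hcc
    exact absurd (mul_eq_left.mp hcc) hz1

end Cfg

namespace Base

variable {z x t w : G} {Q : Subgroup G} (B : Base z x t w Q)
include B

/-- Every conjugate of `z` in `K` reads the same four group, and is conjugate to `z` in `K`. -/
theorem hasW_K {y : G} (hy : y ∈ Kg t w) (hyc : IsConj z y) :
    HasW z Q y t w ∧ ∃ k ∈ Kg t w, k * z * k⁻¹ = y := by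
  haveI : Fact (Nat.Prime 2) := ⟨Nat.prime_two⟩
  obtain ⟨g, hg⟩ := isConj_iff.mp hyc
  have hyy : y ^ 2 ^ 1 = 1 := by rw [pow_one, pow_two, ← hg]; exact (B.es.cj g).zz
  have hP : IsPGroup 2 (Subgroup.zpowers y) := fun ⟨q, hq⟩ => ⟨1, Subtype.ext (by
    obtain ⟨i, rfl⟩ := Subgroup.mem_zpowers_iff.mp hq
    show (y ^ i) ^ 2 ^ 1 = 1
    rw [← zpow_natCast, ← zpow_mul, mul_comm, zpow_mul, zpow_natCast, hyy, one_zpow])⟩
  obtain ⟨k, hk, hkS⟩ := B.cfg.conj_Sg hP (Subgroup.zpowers_le.mpr hy)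
  obtain ⟨h1, h2, h3⟩ := mem_Sg.mp (hkS y (Subgroup.mem_zpowers y))
  obtain ⟨hkt, hkw⟩ := mem_Kg.mp hk
  have hW := (B.all _ h1 h2 h3 (hyc.trans (isConj_iff.mpr ⟨k, rfl⟩))).conjBy k⁻¹
  rw [show k⁻¹ * (k * y * k⁻¹) * k⁻¹⁻¹ = y by group, conj_fix_iff.mpr (Commute.inv_left hkt),
    conj_fix_iff.mpr (Commute.inv_left hkw)] at hW
  refine ⟨hW, ?_⟩
  obtain ⟨p, Cy⟩ := hW.cfg
  obtain ⟨j, hj, hjS⟩ := Cy.conj_Sg B.cfg.Sg_pgroup B.cfg.Sg_le
  obtain ⟨i, hi, hiS⟩ := B.cfg.conj_Sg Cy.Sg_pgroup Cy.Sg_le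
  have hsurj : ∀ a ∈ Sg z x t, ∃ b ∈ Sg y p t, i * b * i⁻¹ = a := by
    intro a ha
    obtain ⟨⟨b, hb⟩, e⟩ := Finite.surjective_of_injective
      (f := fun u : Sg z x t => (⟨i * (j * u * j⁻¹) * i⁻¹, hiS _ (hjS u u.2)⟩ : Sg z x t))
      (fun p q h => Subtype.ext (mul_left_cancel (mul_right_cancel (mul_left_cancel (mul_right_cancel
        (congrArg Subtype.val h)))))) ⟨a, ha⟩
    exact ⟨j * b * j⁻¹, hjS b hb, congrArg Subtype.val e⟩
  obtain ⟨a1, a2, a3⟩ := mem_Sg.mp (hiS y Cy.z_mem)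
  have hcen := B.cfg.center_cases a1 a2 a3 (hyc.trans (isConj_iff.mpr ⟨i, rfl⟩)) fun c c1 c2 c3 => by
    obtain ⟨b, hb, rfl⟩ := hsurj c (mem_Sg.mpr ⟨c1, c2, c3⟩)
    rw [show i * b * i⁻¹ * (i * y * i⁻¹) = i * (b * y) * i⁻¹ by group, (mem_Sg.mp hb).1]
    group
  obtain ⟨n, hn, n1, n2⟩ := B.cfg.exists_cycle
  rcases hcen with e | e | e
  · refine ⟨i⁻¹, inv_mem hi, ?_⟩
    rw [← e]; group
  · refine ⟨i⁻¹ * n⁻¹, mul_mem (inv_mem hi) (inv_mem hn), ?_⟩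
    rw [show y = i⁻¹ * x * i by rw [← e]; group, ← n2]
    group
  · refine ⟨i⁻¹ * n, mul_mem (inv_mem hi) hn, ?_⟩
    obtain ⟨-, -, -, -, -, hzx, -⟩ := B.cfg.rels
    rw [show i⁻¹ * n * z * (i⁻¹ * n)⁻¹ = i⁻¹ * (n * z * n⁻¹) * i by group, n1, hzx, ← e]
    group

/-- The centraliser in `K` of a conjugate of `z` is a two-group. -/
theorem pow_four_K {y c : G} (hy : y ∈ Kg t w) (hyc : IsConj z y) (hc : c ∈ Kg t w) (h : c * y = y * c) :
    c ^ 4 = 1 :=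
  (B.hasW_K hy hyc).1.pow_four h (mem_Kg.mp hc).1 (mem_Kg.mp hc).2

end Base

end CfsgLib.SuzType
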