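import Cfsg.Agent.Lib.SuzType.Second.FiveElt
import Cfsg.Agent.Lib.SuzType.Second.Sylow
import Cfsg.Agent.Lib.SuzType.Second.L34Local

/-!
Groups of Suzuki sporadic type: the elements of order five of `C(z)`.
-/

set_option autoImplicit false
set_option linter.unusedSectionVars false
set_option linter.unusedVariables false

universe u

namespace CfsgLib.SuzType

open QuadraticMap CfsgLargeExtra
open CfsgLib.HallJankoType (mem_cent conj_fix_iff)

theorem dbl_forms : qf (e0 + (d0 + d1)) = 1 ∧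
    (∀ v : V, tf d1 (tf d0 (tf (e1 + f1) (tf (e0 + (d0 + d1)) (sfun v)))) =
      sfun (sfun (tf d1 (tf d0 (tf (e1 + f1) (tf (e0 + (d0 + d1)) v)))))) := by decide +kernel

/-- An element squaring the element of order five. -/
noncomputable def db : O6 :=
  tr d1 five_forms.1 * tr d0 five_forms.2.1 * (tr (e1 + f1) sfun_facts.2.2.2.1 * tr (e0 + (d0 + d1)) dbl_forms.1)

theorem db_mem : db ∈ Om := mul_mem (tr_mul_mem _ _ _ _) (tr_mul_mem _ _ _ _)

theorem db_sg : db * sg * db⁻¹ = sg ^ 2 := by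
  rw [mul_inv_eq_iff_eq_mul]
  refine Subtype.ext (LinearEquiv.ext fun v => ?_)
  simp only [O6_mul, db, tr_apply, sg_apply, pow_two]
  exact dbl_forms.2 v

theorem mul_two_pow {G : Type u} [Group G] {a b : G} (hab : Commute a b) (ha : a ^ 4 = 1) {k : ℕ}
    (h : (a * b) ^ 2 ^ k = 1) : b ^ 2 ^ (k + 2) = 1 := by
  have := congrArg (· ^ 4) h
  simp only [one_pow] at this
  rwa [← pow_mul, hab.mul_pow, mul_comm (2 ^ k) 4, pow_mul a, ha, one_pow, one_mul,
    show 4 * 2 ^ k = 2 ^ (k + 2) by ring] at this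

theorem dihedral_center : ∀ a : DihedralGroup 4, (∀ b, b * a = a * b) → a = 1 ∨ a = DihedralGroup.r 2 := by
  decide +kernel

variable {G : Type u} [Group G] [Finite G] {z : G} {Q : Subgroup G} {π : G → V} {M : G → O6}

/-- What is known of an element of order five of `C(z)`. -/
def FiveShape (z : G) (Q : Subgroup G) (f : G) : Prop :=
  ∃ δ : DihedralGroup 4 →* G, Function.Injective δ ∧ δ (DihedralGroup.r 2) = z ∧
    (∀ a, δ a ∈ Q ∧ δ a * f = f * δ a) ∧
    ∀ c : G, c * z = z * c → c * f = f * c → ∃ a, ∃ i : ℤ, c = δ a * f ^ i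

namespace ST

variable (h : ST z Q π M)
include h

/-- The action as a homomorphism. -/
noncomputable def Mhom : Subgroup.centralizer ({z} : Set G) →* O6 :=
  MonoidHom.mk' (fun c => M c) fun a b => h.M_mul a b (mem_cent.mp a.2) (mem_cent.mp b.2)

theorem Mhom_ker : h.Mhom.ker = Q.subgroupOf (Subgroup.centralizer ({z} : Set G)) :=
  SetLike.ext fun c => MonoidHom.mem_ker.trans ((h.M_ker c (mem_cent.mp c.2)).trans Subgroup.mem_subgroupOf.symm)

theorem Mhom_range : h.Mhom.range = Om := by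
  refine SetLike.ext fun g => ⟨?_, fun hg => ?_⟩
  · rintro ⟨c, rfl⟩
    exact h.M_mem c (mem_cent.mp c.2)
  · obtain ⟨c, hc, e⟩ := h.M_surj g hg
    exact ⟨⟨c, mem_cent.mpr hc⟩, e⟩

theorem card_Cz : Nat.card (Subgroup.centralizer ({z} : Set G)) = 128 * 25920 := by
  rw [← h.Mhom.ker.card_mul_index, Subgroup.index_ker, h.Mhom_range, card_Om, h.Mhom_ker,
    Nat.card_congr (Subgroup.subgroupOfEquivOfLe fun q hq => mem_cent.mpr (h.es.comm q hq)).toEquiv, h.card]

theorem M_pow {c : G} (hc : c * z = z * c) : ∀ n : ℕ, M (c ^ n) = M c ^ n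
  | 0 => by rw [pow_zero, pow_zero, h.M_one]
  | n + 1 => by rw [pow_succ, pow_succ, h.M_mul _ _ (Commute.pow_left hc n) hc, M_pow hc n]

theorem Q_pow_four {q : G} (hq : q ∈ Q) : q ^ 4 = 1 := by
  rw [show (4 : ℕ) = 2 * 2 from rfl, pow_mul, pow_two, pow_two]
  rcases h.es.sq q hq with e | e <;> rw [e]
  · exact one_mul 1
  · exact h.zz

theorem exists_five : ∃ f, f * z = z * f ∧ orderOf f = 5 ∧ M f = sg := by
  haveI : Fact (Nat.Prime 5) := ⟨by norm_num⟩
  obtain ⟨c, hc, hM⟩ := h.M_surj sg sg_mem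
  have h5 : c ^ 5 ∈ Q := (h.M_ker _ (Commute.pow_left hc 5)).mp (by rw [h.M_pow hc, hM, sg_pow_five])
  refine ⟨c ^ 16, Commute.pow_left hc 16, orderOf_eq_prime ?_ fun e => sg_ne_one ?_, ?_⟩
  · rw [← pow_mul, show 16 * 5 = 5 * 4 * 4 from rfl, pow_mul, pow_mul, h.Q_pow_four h5, one_pow]
  · have := congrArg M e
    rwa [h.M_pow hc, hM, h.M_one, show (16 : ℕ) = 5 * 3 + 1 from rfl, pow_add, pow_mul, sg_pow_five, one_pow, one_mul,
      pow_one] at this
  · rw [h.M_pow hc, hM, show (16 : ℕ) = 5 * 3 + 1 from rfl, pow_add, pow_mul, sg_pow_five, one_pow, one_mul, pow_one]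

theorem commute_iff_fixed {f q : G} (hf : f * z = z * f) (hfo : orderOf f = 5) (hM : M f = sg) (hq : q ∈ Q) :
    q * f = f * q ↔ sfun (π q) = π q := by
  constructor
  · intro e
    rw [← sg_apply, ← hM, ← h.M_act f hf q hq, conj_fix_iff.mpr e.symm]
  · intro e
    rw [← sg_apply, ← hM, ← h.M_act f hf q hq] at e
    refine (conj_fix_iff.mp ?_).symm
    rcases h.π_eq hq (h.nor_mem hf hq) e.symm with e' | e'
    · exact e'
    · exfalso
      have key : ∀ n : ℕ, f ^ n * q * (f ^ n)⁻¹ = q * z ^ n := by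
        intro n
        induction n with
        | zero => simp
        | succ n ih =>
          rw [show f ^ (n + 1) * q * (f ^ (n + 1))⁻¹ = f * (f ^ n * q * (f ^ n)⁻¹) * f⁻¹ by rw [pow_succ']; group, ih,
            show f * (q * z ^ n) * f⁻¹ = f * q * f⁻¹ * (f * z ^ n * f⁻¹) by group, e',
            conj_fix_iff.mpr (Commute.pow_right hf n), mul_assoc, ← pow_succ']
      have := key 5
      rw [← hfo, pow_orderOf_eq_one, hfo, show z ^ 5 = z * z * (z * z) * z by simp [pow_succ, mul_assoc], h.zz,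
        one_mul, one_mul, inv_one, mul_one, one_mul, left_eq_mul] at this
      exact h.es.ne this

theorem shape_std {f : G} (hf : f * z = z * f) (hfo : orderOf f = 5) (hM : M f = sg) : FiveShape z Q f := by
  classical
  obtain ⟨p, hp, hπp⟩ := h.π_surj e1
  obtain ⟨q, hq, hπq⟩ := h.π_surj f1
  have hpp : p * p = 1 := (h.sq p hp).mpr (by rw [hπp]; exact std_facts.2.1)
  have hqq : q * q = 1 := (h.sq q hq).mpr (by rw [hπq]; exact f1_facts.1)
  have hpq : p * q ≠ q * p := fun e => one_ne_zero (f1_facts.2.2.1.symm.trans (by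
    have := (h.comm p hp q hq).mp e
    rwa [hπp, hπq] at this))
  obtain ⟨δ0, hz0, hx0, hy0, -⟩ := CfsgLib.ExtraTwo.exists_dihedral_hom h.es.toExt (x := ⟨p, hp⟩) (y := ⟨q, hq⟩)
    (Subtype.ext hpp) (Subtype.ext hqq) fun e => hpq (congrArg Subtype.val e)
  set δ : DihedralGroup 4 →* G := Q.subtype.comp δ0 with hδ
  have hzr : δ (DihedralGroup.r 2) = z := congrArg Subtype.val hz0
  have hinj : Function.Injective δ := by
    rw [← MonoidHom.ker_eq_bot_iff, Subgroup.eq_bot_iff_forall]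
    intro a ha
    rw [MonoidHom.mem_ker] at ha
    by_contra ha1
    have mono : ∀ a : DihedralGroup 4, a ≠ 1 → a = DihedralGroup.r 2 ∨
        ∃ b, b * a * b⁻¹ * a⁻¹ = DihedralGroup.r 2 := by decide
    rcases mono a ha1 with e | ⟨b, e⟩
    · exact h.es.ne (hzr ▸ e ▸ ha)
    · refine h.es.ne (hzr ▸ ?_)
      rw [← e, map_mul, map_mul, map_mul, ha, map_inv, map_inv, ha]
      simp
  have hfix : ∀ a ∈ Q, π a = e1 ∨ π a = f1 → a * f = f * a := fun a ha e =>
    (h.commute_iff_fixed hf hfo hM ha).mpr (by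
      rcases e with e | e <;> rw [e]
      exacts [sfun_facts.1, sfun_facts.2.1])
  have hgen : ∀ a, δ a * f = f * δ a := by
    have h0 : Commute (δ (DihedralGroup.sr 0)) f := by
      rw [show δ (DihedralGroup.sr 0) = p from congrArg Subtype.val hx0]; exact hfix p hp (Or.inl hπp)
    have h1 : Commute (δ (DihedralGroup.sr 1)) f := by
      rw [show δ (DihedralGroup.sr 1) = q from congrArg Subtype.val hy0]; exact hfix q hq (Or.inr hπq)
    have hr : ∀ n : ℕ, Commute (δ (DihedralGroup.r (n : ZMod 4))) f := fun n => by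
      rw [← DihedralGroup.r_one_pow, map_pow,
        show (DihedralGroup.r 1 : DihedralGroup 4) = DihedralGroup.sr 0 * DihedralGroup.sr 1 by decide, map_mul]
      exact (h0.mul_left h1).pow_left n
    intro a
    rcases a with i | i
    · have := hr i.val; rwa [ZMod.natCast_zmod_val] at this
    · have := h0.mul_left (hr i.val)
      rw [← map_mul, DihedralGroup.sr_mul_r, zero_add, ZMod.natCast_zmod_val] at this
      exact this
  have hmem : ∀ a, δ a ∈ Q := fun a => (δ0 a).2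
  refine ⟨δ, hinj, hzr, fun a => ⟨hmem a, hgen a⟩, fun c hc hcf => ?_⟩
  obtain ⟨i, hi⟩ := cent_sg (h.M_mem c hc) (by rw [← hM, ← h.M_mul _ _ hc hf, ← h.M_mul _ _ hf hc, hcf])
  have hfi : (f ^ i)⁻¹ * z = z * (f ^ i)⁻¹ := Commute.inv_left (Commute.pow_left hf i)
  set y := c * (f ^ i)⁻¹ with hy
  have hyQ : y ∈ Q := (h.M_ker y (Commute.mul_left hc hfi)).mp (by
    rw [hy, h.M_mul _ _ hc hfi, h.M_inv (Commute.pow_left hf i), h.M_pow hf, hM, hi, mul_inv_cancel])
  have hyf : y * f = f * y := Commute.mul_left hcf ((Commute.self_pow f i).symm.inv_left)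
  suffices hy' : ∃ a, δ a = y by
    obtain ⟨a, ha⟩ := hy'
    exact ⟨a, i, by rw [ha, hy, zpow_natCast, inv_mul_cancel_right]⟩
  have hv := sfun_fixed _ ((h.commute_iff_fixed hf hfo hM hyQ).mp hyf)
  have up : ∀ a, π (δ a) = π y → ∃ a, δ a = y := by
    intro a e
    rcases h.π_eq (hmem a) hyQ e with e' | e'
    · exact ⟨a, e'.symm⟩
    · exact ⟨a * DihedralGroup.r 2, by rw [map_mul, hzr, e']⟩
  have hs0 : δ (DihedralGroup.sr 0) = p := congrArg Subtype.val hx0
  have hs1 : δ (DihedralGroup.sr 1) = q := congrArg Subtype.val hy0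
  rcases hv with e | e | e | e
  · exact up 1 (by rw [map_one, h.π_one, e])
  · exact up (DihedralGroup.sr 0) (by rw [hs0, hπp, e])
  · exact up (DihedralGroup.sr 1) (by rw [hs1, hπq, e])
  · exact up (DihedralGroup.sr 0 * DihedralGroup.sr 1) (by rw [map_mul, hs0, hs1, h.π_mul p hp q hq, hπp, hπq, e])

theorem conj_five {f f' : G} (hf : f * z = z * f) (hfo : orderOf f = 5) (hf' : f' * z = z * f')
    (hfo' : orderOf f' = 5) : ∃ c, c * z = z * c ∧ c * f' * c⁻¹ ∈ Subgroup.zpowers f := by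
  haveI : Fact (Nat.Prime 5) := ⟨by norm_num⟩
  obtain ⟨m, hm⟩ := L34.conj_zpowers (H := Subgroup.centralizer ({z} : Set G)) (p := 5) (by rw [h.card_Cz]; norm_num)
    (a := ⟨f, mem_cent.mpr hf⟩) (b := ⟨f', mem_cent.mpr hf'⟩) (by rw [Subgroup.orderOf_mk, hfo])
    (by rw [Subgroup.orderOf_mk, hfo'])
  obtain ⟨i, hi⟩ := Subgroup.mem_zpowers_iff.mp hm
  exact ⟨m, mem_cent.mp m.2, Subgroup.mem_zpowers_iff.mpr ⟨i, congrArg Subtype.val hi⟩⟩

/-- The shape holds for every element of order five of `C(z)`. -/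
theorem shape {f : G} (hf : f * z = z * f) (hfo : orderOf f = 5) : FiveShape z Q f := by
  haveI : Fact (Nat.Prime 5) := ⟨by norm_num⟩
  obtain ⟨g, hg, hgo, hgM⟩ := h.exists_five
  obtain ⟨c, hc, hcf⟩ := h.conj_five hg hgo hf hfo
  set f' := c * f * c⁻¹ with hf'
  have hf'o : orderOf f' = 5 := by rw [hf', show c * f * c⁻¹ = MulAut.conj c f from rfl, MulEquiv.orderOf_eq, hfo]
  have hzp : Subgroup.zpowers f' = Subgroup.zpowers g := Subgroup.eq_of_le_of_card_ge (Subgroup.zpowers_le.mpr hcf)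
    (by rw [Nat.card_zpowers, Nat.card_zpowers, hgo, hf'o])
  obtain ⟨δ, hinj, hzr, hδ, hC⟩ := h.shape_std hg hgo hgM
  refine ⟨(MulAut.conj c⁻¹).toMonoidHom.comp δ, (MulAut.conj c⁻¹).injective.comp hinj, ?_, fun a => ⟨?_, ?_⟩, ?_⟩
  · show c⁻¹ * δ (DihedralGroup.r 2) * c⁻¹⁻¹ = z
    rw [hzr]; exact conj_fix_iff.mpr (Commute.inv_left hc)
  · exact h.nor_mem (Commute.inv_left hc) (hδ a).1
  · obtain ⟨i, hi⟩ := Subgroup.mem_zpowers_iff.mp hcf
    have h2 : δ a * f' = f' * δ a := by rw [← hi]; exact Commute.zpow_right (hδ a).2 i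
    show c⁻¹ * δ a * c⁻¹⁻¹ * f = f * (c⁻¹ * δ a * c⁻¹⁻¹)
    rw [show c⁻¹ * δ a * c⁻¹⁻¹ * f = c⁻¹ * (δ a * f') * c⁻¹⁻¹ by rw [hf']; group, h2, hf']
    group
  · intro b hb hbf
    obtain ⟨j, hj⟩ := Subgroup.mem_zpowers_iff.mp (hzp.symm ▸ Subgroup.mem_zpowers g : g ∈ Subgroup.zpowers f')
    have h3 : c * b * c⁻¹ * f' = f' * (c * b * c⁻¹) := by
      rw [hf', show c * b * c⁻¹ * (c * f * c⁻¹) = c * (b * f) * c⁻¹ by group, hbf]; group
    obtain ⟨a, i, e⟩ := hC (c * b * c⁻¹) (Commute.mul_left (Commute.mul_left hc hb) (Commute.inv_left hc))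
      (by rw [← hj]; exact Commute.zpow_right h3 j)
    refine ⟨a, j * i, ?_⟩
    show b = c⁻¹ * δ a * c⁻¹⁻¹ * f ^ (j * i)
    rw [show b = c⁻¹ * (c * b * c⁻¹) * c by group, e, ← hj, ← zpow_mul, hf', conj_zpow]
    group

/-- Some element of `C(z)` squares an element of order five. -/
theorem doubled_z {f : G} (hf : f * z = z * f) (hfo : orderOf f = 5) :
    ∃ c, c * z = z * c ∧ c * f * c⁻¹ = f ^ 2 := by
  haveI : Fact (Nat.Prime 5) := ⟨by norm_num⟩
  obtain ⟨g, hg, hgo, hgM⟩ := h.exists_five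
  obtain ⟨d, hd, hdM⟩ := h.M_surj db db_mem
  -- inside the preimage of `⟨sg⟩`
  set L := (Subgroup.zpowers sg).comap h.Mhom with hL
  have hLc : Nat.card L = 128 * 5 := by
    set φ := h.Mhom.comp L.subtype
    have hr : φ.range = Subgroup.zpowers sg := by
      refine SetLike.ext fun q => ⟨?_, fun hq => ?_⟩
      · rintro ⟨a, rfl⟩; exact a.2
      · obtain ⟨a, ha⟩ : q ∈ h.Mhom.range := h.Mhom_range.symm ▸ (Subgroup.zpowers_le.mpr sg_mem hq)
        exact ⟨⟨a, by rw [hL, Subgroup.mem_comap, ha]; exact hq⟩, ha⟩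
    rw [← φ.ker.card_mul_index, Subgroup.index_ker, hr, Nat.card_zpowers, orderOf_sg]
    congr 1
    have hk : φ.ker = h.Mhom.ker.subgroupOf L := rfl
    rw [hk, Nat.card_congr (Subgroup.subgroupOfEquivOfLe fun a ha => (by
      rw [hL, Subgroup.mem_comap, MonoidHom.mem_ker.mp ha]; exact one_mem _)).toEquiv, h.Mhom_ker,
      Nat.card_congr (Subgroup.subgroupOfEquivOfLe fun q hq => mem_cent.mpr (h.es.comm q hq)).toEquiv, h.card]
  have hgg : d * g * d⁻¹ * z = z * (d * g * d⁻¹) :=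
    Commute.mul_left (Commute.mul_left hd hg) (Commute.inv_left hd)
  have hdg : M (d * g * d⁻¹) = sg ^ 2 := by
    rw [h.M_mul _ _ (Commute.mul_left hd hg) (Commute.inv_left hd), h.M_mul _ _ hd hg, h.M_inv hd, hdM, hgM, db_sg]
  obtain ⟨m, hm⟩ := L34.conj_zpowers (H := L) (p := 5) (by rw [hLc]; norm_num)
    (a := ⟨⟨g, mem_cent.mpr hg⟩, by rw [hL, Subgroup.mem_comap]; exact hgM ▸ Subgroup.mem_zpowers sg⟩)
    (b := ⟨⟨d * g * d⁻¹, mem_cent.mpr hgg⟩, by
      rw [hL, Subgroup.mem_comap]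
      show M (d * g * d⁻¹) ∈ _
      rw [hdg]; exact pow_mem (Subgroup.mem_zpowers sg) 2⟩)
    (by rw [Subgroup.orderOf_mk, Subgroup.orderOf_mk, hgo])
    (by rw [Subgroup.orderOf_mk, Subgroup.orderOf_mk, show d * g * d⁻¹ = MulAut.conj d g from rfl, MulEquiv.orderOf_eq,
      hgo])
  obtain ⟨i, hi⟩ := Subgroup.mem_zpowers_iff.mp hm
  have hi' : g ^ i = (m : G) * (d * g * d⁻¹) * (m : G)⁻¹ := congrArg (fun a : L => ((a : _) : G)) hi
  have hmz : (m : G) * z = z * m := mem_cent.mp m.1.2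
  obtain ⟨l, hl⟩ := Subgroup.mem_zpowers_iff.mp (Subgroup.mem_comap.mp m.2)
  have hml : M (m : G) = sg ^ l := hl.symm
  have hgi : M (g ^ i) = sg ^ 2 := by
    rw [hi', h.M_mul _ _ (Commute.mul_left hmz hgg) (Commute.inv_left hmz), h.M_mul _ _ hmz hgg, h.M_inv hmz, hml, hdg]
    group
  have hgi2 : g ^ i = g ^ 2 := by
    have hz' : M (g ^ i) = sg ^ i := map_zpow h.Mhom ⟨g, mem_cent.mpr hg⟩ i |>.trans (congrArg (· ^ i) hgM)
    rw [hgi, ← zpow_natCast, zpow_eq_zpow_iff_modEq, orderOf_sg] at hz'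
    rw [← zpow_natCast g 2, zpow_eq_zpow_iff_modEq, hgo]
    exact hz'.symm
  obtain ⟨c, hc, hcf⟩ := h.conj_five hg hgo hf hfo
  obtain ⟨j, hj⟩ := Subgroup.mem_zpowers_iff.mp hcf
  refine ⟨c⁻¹ * ((m : G) * d) * c, Commute.mul_left (Commute.mul_left (Commute.inv_left hc)
    (Commute.mul_left hmz hd)) hc, ?_⟩
  have hfj : c * f * c⁻¹ = g ^ j := hj.symm
  calc c⁻¹ * ((m : G) * d) * c * f * (c⁻¹ * ((m : G) * d) * c)⁻¹
      = c⁻¹ * ((m : G) * (d * (c * f * c⁻¹) * d⁻¹) * (m : G)⁻¹) * c := by group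
    _ = c⁻¹ * (g ^ i) ^ j * c := by rw [hfj, ← conj_zpow, ← conj_zpow, hi']
    _ = c⁻¹ * (c * f * c⁻¹) ^ 2 * c := by rw [hgi2, hfj, ← zpow_natCast g 2, ← zpow_mul, mul_comm, zpow_mul, zpow_natCast]
    _ = f ^ 2 := by rw [conj_pow]; group

end ST

namespace FiveShape

variable {f : G}

theorem pow_mem_cent (h : FiveShape z Q f) (hfo : orderOf f = 5) {c : G} (hc : c * z = z * c) (hcf : c * f = f * c)
    {k : ℕ} (h2 : c ^ 2 ^ k = 1) : ∃ δ : DihedralGroup 4 →* G, (∀ a, δ a ∈ Q) ∧ ∃ a, c = δ a := by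
  obtain ⟨δ, -, -, hδ, hC⟩ := h
  obtain ⟨a, i, e⟩ := hC c hc hcf
  refine ⟨δ, fun a => (hδ a).1, a, ?_⟩
  have hcomm : Commute (δ a) (f ^ i) := Commute.zpow_right (hδ a).2 i
  have ha4 : δ a ^ 4 = 1 := by
    rw [← map_pow, (show ∀ a : DihedralGroup 4, a ^ 4 = 1 by decide +kernel) a, map_one]
  have h4 : (f ^ i) ^ 2 ^ (k + 2) = 1 := mul_two_pow hcomm ha4 (e ▸ h2)
  have hodd : Odd (orderOf (f ^ i)) := (show Odd 5 by decide).of_dvd_nat (by
    have := Subgroup.orderOf_dvd_natCard _ (zpow_mem (Subgroup.mem_zpowers f) i)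
    rwa [Nat.card_zpowers, hfo] at this)
  rw [e, CIT.eq_one_of_odd_pow_two hodd h4, mul_one]

/-- Every involution centralising `f` is conjugate to `z`. -/
theorem invol_conj {π : G → V} {M : G → O6} (hST : ST z Q π M) (h : FiveShape z Q f) (hfo : orderOf f = 5) {y : G}
    (hyy : y * y = 1) (hy1 : y ≠ 1) (hyf : y * f = f * y) : IsConj z y := by
  haveI : Fact (Nat.Prime 2) := ⟨Nat.prime_two⟩
  obtain ⟨δ, hinj, hzr, hδ, hC⟩ := id h
  have hcom : ∀ a, δ a * z = z * δ a := fun a => hST.es.comm _ (hδ a).1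
  have h8 : IsPGroup 2 δ.range := isPGroup_of_pow 2 (by
    rintro _ ⟨a, rfl⟩
    rw [← map_pow, show (2 : ℕ) ^ 2 = 4 from rfl, (show ∀ a : DihedralGroup 4, a ^ 4 = 1 by decide +kernel) a, map_one])
  have hle : δ.range ≤ Subgroup.centralizer ({f} : Set G) := by
    rintro _ ⟨a, rfl⟩; exact mem_cent.mpr (hδ a).2
  have hmax : ∀ P : Subgroup G, IsPGroup 2 P → P ≤ Subgroup.centralizer ({f} : Set G) → δ.range ≤ P → P ≤ δ.range := by
    refine max_of_norm h8 fun n hn hnorm h2 => ?_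
    have hcn : n * z * n⁻¹ = z := by
      obtain ⟨a, ha⟩ := hnorm z ⟨_, hzr⟩
      have hcen : ∀ b, b * a = a * b := by
        intro b
        obtain ⟨⟨b', hb'⟩, e⟩ := Finite.surjective_of_injective
          (f := fun q : δ.range => (⟨n * q * n⁻¹, hnorm q q.2⟩ : δ.range))
          (fun p q e => Subtype.ext (mul_left_cancel (mul_right_cancel (congrArg Subtype.val e)))) ⟨δ b, b, rfl⟩
        refine hinj ?_
        obtain ⟨b'', rfl⟩ := hb'
        rw [map_mul, map_mul, ha, ← show n * δ b'' * n⁻¹ = δ b from congrArg Subtype.val e,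
          show n * δ b'' * n⁻¹ * (n * z * n⁻¹) = n * (δ b'' * z) * n⁻¹ by group, hcom b'']
        group
      rcases dihedral_center a hcen with e | e
      · rw [e, map_one, eq_comm, conj_eq_one_iff] at ha
        exact absurd ha hST.es.ne
      · rw [← ha, e, hzr]
    obtain ⟨k, hk⟩ := h2
    obtain ⟨a, i, e⟩ := hC n (conj_fix_iff.mp hcn) (mem_cent.mp hn)
    have hcomm : Commute (δ a) (f ^ i) := Commute.zpow_right (hδ a).2 i
    have hodd : Odd (orderOf (f ^ i)) := (show Odd 5 by decide).of_dvd_nat (by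
      have := Subgroup.orderOf_dvd_natCard _ (zpow_mem (Subgroup.mem_zpowers f) i)
      rwa [Nat.card_zpowers, hfo] at this)
    have h4 : (f ^ i) ^ 2 ^ (k + 2) = 1 := mul_two_pow hcomm
      (by rw [← map_pow, (show ∀ a : DihedralGroup 4, a ^ 4 = 1 by decide +kernel) a, map_one]) (e ▸ hk)
    rw [e, CIT.eq_one_of_odd_pow_two hodd h4, mul_one]
    exact ⟨a, rfl⟩
  have hP : IsPGroup 2 (Subgroup.zpowers y) := fun ⟨q, hq⟩ => ⟨1, Subtype.ext (by
    obtain ⟨i, rfl⟩ := Subgroup.mem_zpowers_iff.mp hq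
    show (y ^ i) ^ 2 ^ 1 = 1
    rw [← zpow_natCast, ← zpow_mul, mul_comm, zpow_mul, zpow_natCast, pow_one, pow_two, hyy, one_zpow])⟩
  obtain ⟨k, hk, hkS⟩ := conj_into h8 hle hmax _ hP (Subgroup.zpowers_le.mpr (mem_cent.mpr hyf))
  obtain ⟨a, ha⟩ := hkS y (Subgroup.mem_zpowers y)
  have hQ : k * y * k⁻¹ ∈ Q := ha ▸ (hδ a).1
  refine (hST.isConj_Q hQ ?_ fun e => hy1 (conj_eq_one_iff.mp e)).trans (isConj_iff.mpr ⟨k⁻¹, by group⟩)
  rw [show k * y * k⁻¹ * (k * y * k⁻¹) = k * (y * y) * k⁻¹ by group, hyy, mul_one, mul_inv_cancel]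

end FiveShape

end CfsgLib.SuzType
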