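import Cfsg.Agent.Lib.SuzType.Second.Sylow
import Cfsg.Agent.Lib.ZStar.Main
import Cfsg.Agent.Lib.InvolutionDihedralEight

/-!
Groups of Suzuki sporadic type: `C(t)` normalises the four group `{1, t, w, t w}`.
-/

set_option autoImplicit false
set_option linter.unusedSectionVars false
set_option linter.unusedVariables false

universe u

namespace CfsgLib.SuzType

open Cfsg CfsgLargeExtra
open CfsgLib.HallJankoType (mem_cent conj_fix_iff)

variable {G : Type u} [Group G] [Finite G] {z x t w : G} {Q : Subgroup G}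

/-- Fixed elements of odd order in `C(t) / ⟨t⟩` of a conjugate of `z` are trivial. -/
theorem Cfg.fixed_mod_t (C : Cfg z x t w) {g : G} (hg : g * t = t * g)
    (h : g * z * g⁻¹ = z ∨ g * z * g⁻¹ = z * t) : g ^ 8 = 1 := by
  rcases h with e | e
  · exact C.pow_eight (conj_fix_iff.mp e) hg
  · exact absurd (isConj_iff.mpr ⟨g, e⟩) C.types.2.2.2.2.2

theorem Base.norm_w (B : Base z x t w Q) {g : G} (hg : g * t = t * g) : g * w * g⁻¹ = w ∨ g * w * g⁻¹ = t * w := by
  classical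
  haveI : Fact (Nat.Prime 2) := ⟨Nat.prime_two⟩
  obtain ⟨hzz, hxx, hz1, hx1, hne, hzx, htt, ht1, hww, htw, hw1, hwt, htz, htx, hwz, hwx⟩ := B.cfg.rels
  let Gt : Subgroup G := Subgroup.centralizer ({t} : Set G)
  have hwt' : w ∈ Gt := mem_cent.mpr htw.symm
  have hzt' : z ∈ Gt := mem_cent.mpr htz.symm
  have hxt' : x ∈ Gt := mem_cent.mpr htx.symm
  let tt : Gt := ⟨t, mem_cent.mpr rfl⟩
  let T : Subgroup Gt := Subgroup.zpowers tt
  haveI hT : T.Normal := ⟨fun n hn k => by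
    obtain ⟨i, rfl⟩ := Subgroup.mem_zpowers_iff.mp hn
    rw [conj_fix_iff.mpr ((show Commute k tt from Subtype.ext (mem_cent.mp k.2)).zpow_right i)]
    exact hn⟩
  have htwo : ∀ a : Gt, a ∈ T → (a : G) = 1 ∨ (a : G) = t := by
    intro a ha
    obtain ⟨i, rfl⟩ := Subgroup.mem_zpowers_iff.mp ha
    rcases Int.even_or_odd' i with ⟨j, rfl | rfl⟩
    · left; rw [Subgroup.coe_zpow, zpow_mul, zpow_two, show (tt : G) * tt = 1 from htt, one_zpow]
    · right; rw [Subgroup.coe_zpow, zpow_add, zpow_mul, zpow_two, show (tt : G) * tt = 1 from htt, one_zpow, one_mul,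
        zpow_one]
  let π := QuotientGroup.mk' T
  have heq : ∀ a b : Gt, π a = π b → (b : G) = a ∨ (b : G) = a * t := by
    intro a b h
    rcases htwo _ (QuotientGroup.eq.mp h) with e | e
    · left
      rw [Subgroup.coe_mul, Subgroup.coe_inv] at e
      rw [← mul_one (a : G), ← e]; group
    · right
      rw [Subgroup.coe_mul, Subgroup.coe_inv] at e
      rw [← e]; group
  -- the Sylow subgroup
  let S0 : Subgroup G := Subgroup.centralizer ({z} : Set G) ⊓ Subgroup.centralizer ({t} : Set G)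
  obtain ⟨P1, hP1⟩ := (B.cfg.Sz_pgroup.of_equiv
    (Subgroup.subgroupOfEquivOfLe (show S0 ≤ Gt from inf_le_right)).symm).exists_le_sylow
  have hP1S : ∀ a : Gt, a ∈ P1 → (a : G) ∈ S0 := fun a ha =>
    B.cfg.Sz_max ((P1 : Subgroup Gt).map Gt.subtype) (P1.isPGroup'.map _) (Subgroup.map_subtype_le _)
      (fun q hq => ⟨⟨q, hq.2⟩, hP1 hq, rfl⟩) ⟨a, ha, rfl⟩
  let P0 : Sylow 2 (Gt ⧸ T) := P1.mapSurjective (QuotientGroup.mk'_surjective T)
  let u : Gt := ⟨w, hwt'⟩
  have hu : orderOf (π u) = 2 := by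
    refine orderOf_eq_prime ?_ fun e => ?_
    · rw [pow_two, ← map_mul, show u * u = 1 from Subtype.ext hww, map_one]
    · rcases htwo u ((QuotientGroup.eq_one_iff u).mp e) with e' | e'
      · exact hw1 e'
      · exact hwt e'
  have huP : π u ∈ P0 := by
    show π u ∈ (P0 : Subgroup (Gt ⧸ T))
    rw [Sylow.coe_mapSurjective]
    exact ⟨u, hP1 ⟨mem_cent.mpr hwz, mem_cent.mpr htw.symm⟩, rfl⟩
  have hiso : IsIsolated (π u) := by
    refine CfsgLib.ZStar.isolated_of_sylow P0 hu huP fun q hq => ?_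
    obtain ⟨k, rfl⟩ := QuotientGroup.mk'_surjective T q
    change _ ∈ ((P0 : Subgroup (Gt ⧸ T))) at hq
    rw [Sylow.coe_mapSurjective] at hq
    obtain ⟨p, hp, e⟩ := hq
    rw [← map_inv, ← map_mul, ← map_mul] at e
    have hpS := hP1S p hp
    have hvS : (k : G) * w * (k : G)⁻¹ ∈ S0 := by
      rcases heq _ _ e with e' | e' <;>
        rw [show (k : G) * w * (k : G)⁻¹ = ((k * u * k⁻¹ : Gt) : G) from rfl, e']
      · exact hpS
      · exact mul_mem hpS ⟨mem_cent.mpr htz, mem_cent.mpr rfl⟩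
    have hkt := mem_cent.mp k.2
    have hvz := mem_cent.mp hvS.1
    have hyK : (k : G)⁻¹ * z * k ∈ Kg t w := by
      refine mem_Kg.mpr ⟨Commute.mul_left (Commute.mul_left (Commute.inv_left hkt) htz.symm) hkt, ?_⟩
      calc (k : G)⁻¹ * z * k * w = (k : G)⁻¹ * (z * (k * w * (k : G)⁻¹)) * k := by group
        _ = (k : G)⁻¹ * (k * w * (k : G)⁻¹ * z) * k := by rw [hvz]
        _ = w * ((k : G)⁻¹ * z * k) := by group
    have hW := (B.hasW_K hyK (isConj_iff.mpr ⟨(k : G)⁻¹, by group⟩)).1.conjBy (k : G)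
    rw [show (k : G) * ((k : G)⁻¹ * z * k) * (k : G)⁻¹ = z by group, conj_fix_iff.mpr hkt] at hW
    rw [← map_inv, ← map_mul, ← map_mul]
    rcases B.self.unique B.es hW with e' | e'
    · exact congrArg π (Subtype.ext e')
    · refine (QuotientGroup.eq.mpr ?_)
      have : ((k * u * k⁻¹)⁻¹ * u : Gt) = tt := Subtype.ext (by
        show ((k : G) * w * (k : G)⁻¹)⁻¹ * w = t
        rw [e', mul_inv_rev, inv_eq_of_mul_eq_one_right htt, inv_eq_of_mul_eq_one_right hww, ← htw, mul_assoc, hww,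
          mul_one])
      rw [this]
      exact Subgroup.mem_zpowers tt
  -- the core
  have hcore : ∀ o ∈ pPrimeCore 2 (Gt ⧸ T), o = 1 := by
    haveI := (show (pPrimeCore 2 (Gt ⧸ T)).Normal from inferInstance)
    have hodd : ∀ o ∈ pPrimeCore 2 (Gt ⧸ T), Odd (orderOf o) := fun o ho => by
      rw [← Nat.not_even_iff_odd, even_iff_two_dvd]
      intro hd
      have := (hd.trans (Subgroup.orderOf_dvd_natCard _ ho))
      exact (Nat.prime_two.coprime_iff_not_dvd.mp (CfsgLib.card_pPrimeCore_coprime 2).symm) this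
    have inv : ∀ (y p : G) (hy : y ∈ Gt), Cfg y p t w → ∀ o ∈ pPrimeCore 2 (Gt ⧸ T),
        π ⟨y, hy⟩ * o * (π ⟨y, hy⟩)⁻¹ = o⁻¹ := by
      intro y p hy Cy
      refine CfsgLib.InvolutionDihedralEight.inverts_of_fpf ?_
        (fun o ho => Subgroup.Normal.conj_mem inferInstance o ho _) fun o ho e => ?_
      · rw [← map_mul, show (⟨y, hy⟩ * ⟨y, hy⟩ : Gt) = 1 from Subtype.ext Cy.rels.1, map_one]
      · obtain ⟨g', rfl⟩ := QuotientGroup.mk'_surjective T o
        have e2 : π (g' * ⟨y, hy⟩ * g'⁻¹) = π ⟨y, hy⟩ := by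
          rw [map_mul, map_mul, map_inv]
          exact conj_fix_iff.mpr (conj_fix_iff.mp e).symm
        have h8 : (g' : G) ^ 8 = 1 := Cy.fixed_mod_t (mem_cent.mp g'.2) (heq _ _ e2.symm)
        have hd : orderOf (π g') ∣ 8 := orderOf_dvd_of_pow_eq_one (by
          rw [← map_pow, show g' ^ 8 = 1 from Subtype.ext h8, map_one])
        refine orderOf_eq_one_iff.mp (Nat.eq_one_of_dvd_coprimes ?_ (dvd_refl _) hd)
        exact (Nat.coprime_two_right.mpr (hodd _ ho)).pow_right 3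
    intro o ho
    have h1 := inv z x hzt' B.cfg o ho
    have h2 := inv x z hxt' B.cfg.symm o ho
    have h3 := inv (x * z) z (mul_mem hxt' hzt') B.cfg.shift.symm o ho
    rw [show (⟨x * z, mul_mem hxt' hzt'⟩ : Gt) = ⟨x, hxt'⟩ * ⟨z, hzt'⟩ from rfl, map_mul,
      show π ⟨x, hxt'⟩ * π ⟨z, hzt'⟩ * o * (π ⟨x, hxt'⟩ * π ⟨z, hzt'⟩)⁻¹ =
        π ⟨x, hxt'⟩ * (π ⟨z, hzt'⟩ * o * (π ⟨z, hzt'⟩)⁻¹) * (π ⟨x, hxt'⟩)⁻¹ by group, h1] at h3
    have h4 : o = o⁻¹ := by
      rw [← h3, show π ⟨x, hxt'⟩ * o⁻¹ * (π ⟨x, hxt'⟩)⁻¹ = (π ⟨x, hxt'⟩ * o * (π ⟨x, hxt'⟩)⁻¹)⁻¹ by group, h2, inv_inv]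
    have hd : orderOf o ∣ 2 := orderOf_dvd_of_pow_eq_one (by
      rw [pow_two]; nth_rewrite 2 [h4]; exact mul_inv_cancel o)
    exact orderOf_eq_one_iff.mp (Nat.eq_one_of_dvd_coprimes (Nat.coprime_two_right.mpr (hodd o ho)) (dvd_refl _) hd)
  let g' : Gt := ⟨g, mem_cent.mpr hg⟩
  have h := hcore _ (CfsgLib.ZStar.commutator_mem hu hiso (π g'))
  have e : π (g' * u * g'⁻¹) = π u := by
    have h' : π u * π g' = π g' * π u := mul_inv_eq_iff_eq_mul.mp (mul_inv_eq_one.mp h)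
    rw [map_mul, map_mul, map_inv, ← h', mul_inv_cancel_right]
  rcases heq _ _ e.symm with e' | e'
  · exact Or.inl e'
  · exact Or.inr (by rw [htw]; exact e')

end CfsgLib.SuzType
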