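import Cfsg.Agent.Lib.SuzType.Second.Quot
import Cfsg.Agent.Lib.SuzType.Second.Norm

/-!
Groups of Suzuki sporadic type: `C(t)` has no outer element centralising an element of order five or seven of `K`.
-/

set_option autoImplicit false
set_option linter.unusedSectionVars false
set_option linter.unusedVariables false

universe u

namespace CfsgLib.SuzType

open Cfsg CfsgLargeExtra
open CfsgLib.HallJankoType (mem_cent conj_fix_iff)

theorem two_three_five (k : ℕ) (h : k < 5) (h1 : k ≠ 0) (h2 : k ≠ 1) (h3 : k ≠ 4) : k = 2 ∨ k = 3 := by omega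

variable {G : Type u} [Group G] [Finite G]

theorem zpowers_cases {b a : G} {s : ℕ} (hb : orderOf b = s) (ha : a ∈ Subgroup.zpowers b) :
    ∃ k, k < s ∧ a = b ^ k := by
  classical
  rw [mem_zpowers_iff_mem_range_orderOf, Finset.mem_image] at ha
  obtain ⟨k, hk, e⟩ := ha
  exact ⟨k, hb ▸ Finset.mem_range.mp hk, e.symm⟩

theorem eq_one_of_two {a : G} (ho : Odd (orderOf a)) {k : ℕ} (h : a ^ 2 ^ k = 1) : a = 1 :=
  CIT.eq_one_of_odd_pow_two ho h

theorem pow_conj_of {n b : G} {k : ℕ} (h : n * b * n⁻¹ = b ^ k) :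
    n * n * b * (n * n)⁻¹ = b ^ (k * k) ∧ n ^ 3 * b * (n ^ 3)⁻¹ = b ^ (k * k * k) := by
  have h2 : n * n * b * (n * n)⁻¹ = b ^ (k * k) := by
    rw [pow_mul, ← h, conj_pow, ← h]; group
  refine ⟨h2, ?_⟩
  rw [pow_mul, ← h2, conj_pow, ← h, pow_succ, pow_two]
  group

namespace Base

variable {z x t w : G} {Q : Subgroup G} (B : Base z x t w Q)
include B

theorem norm_pow_K {s d : ℕ} (hsd : (s = 5 ∧ d = 2) ∨ (s = 7 ∧ d = 3)) {b n : G} (hb : b ∈ Kg t w)
    (hbo : orderOf b = s) (hn : n ∈ Kg t w) (h : n * b * n⁻¹ ∈ Subgroup.zpowers b) : n ^ d * b = b * n ^ d := by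
  have hs : s = 5 ∨ s = 7 := hsd.imp And.left And.left
  obtain ⟨F, iF, iFt, h4, ⟨ψ⟩⟩ := B.quot_L34
  obtain ⟨j, hj⟩ := Subgroup.mem_zpowers_iff.mp h
  have hq := L34.norm_pow ψ h4 (n := QuotientGroup.mk' (Wg t w) ⟨n, hn⟩) hsd (B.orderOf_bar hs ⟨b, hb⟩ hbo)
    (Subgroup.mem_zpowers_iff.mpr ⟨j, by
      rw [← map_zpow, ← map_inv, ← map_mul, ← map_mul]
      exact congrArg _ (Subtype.ext hj)⟩)
  rw [← map_pow, ← map_mul, ← map_mul] at hq
  have hv := B.cfg.mk_eq.mp hq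
  simp only [Subgroup.coe_mul, SubmonoidClass.coe_pow] at hv
  obtain ⟨i, hi⟩ : ∃ i : ℤ, b ^ i = n ^ d * b * (n ^ d)⁻¹ := by
    clear hq hv hsd
    induction d with
    | zero => exact ⟨1, by simp⟩
    | succ d ih =>
      obtain ⟨i, hi⟩ := ih
      refine ⟨j * i, ?_⟩
      rw [zpow_mul, hj, conj_zpow, hi, pow_succ']
      group
  have hbs : b ^ s = 1 := hbo ▸ pow_orderOf_eq_one b
  have hc : b * n ^ d = n ^ d * b * ((n ^ d * b)⁻¹ * (b * n ^ d)) := by group
  have e : (n ^ d * b)⁻¹ * (b * n ^ d) = b⁻¹ ^ i * b := by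
    have h' := B.cfg.InW_central hv (inv_mem (pow_mem hn d) : (n ^ d)⁻¹ ∈ Kg t w)
    calc (n ^ d * b)⁻¹ * (b * n ^ d) = n ^ d * ((n ^ d * b)⁻¹ * (b * n ^ d) * (n ^ d)⁻¹) := by rw [h']; group
      _ = (n ^ d * b * (n ^ d)⁻¹)⁻¹ * b := by group
      _ = b⁻¹ ^ i * b := by rw [← hi, inv_zpow]
  have h1 : (n ^ d * b)⁻¹ * (b * n ^ d) = 1 := B.InW_odd hv (show Odd s by rcases hs with rfl | rfl <;> decide) (by
    rw [e, ((Commute.inv_left (Commute.refl b)).zpow_left i).mul_pow, ← zpow_natCast, ← zpow_mul, mul_comm, zpow_mul,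
      zpow_natCast, inv_pow, hbs, inv_one, one_zpow, one_mul])
  rw [h1, mul_one] at hc
  exact hc.symm

theorem two_elem_cent {s : ℕ} (hs : s = 5 ∨ s = 7) {b c : G} (hb : b ∈ Kg t w) (hbo : orderOf b = s)
    (hc : c ∈ Kg t w) (h : c * b = b * c) {k : ℕ} (h2 : c ^ 2 ^ k = 1) : InW t w c := by
  obtain ⟨i, v, hv, rfl⟩ := B.cent_K hs hb hbo hc h
  have hsp : s.Prime := by rcases hs with rfl | rfl <;> norm_num
  have hcomm : Commute (b ^ i) v := (B.cfg.InW_central hv (zpow_mem hb i)).symm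
  rw [hcomm.mul_pow] at h2
  have hv2 : v ^ 2 ^ (k + 1) = 1 := by rw [pow_succ', pow_mul, pow_two, B.cfg.InW_sq hv, one_pow]
  have hodd : Odd (orderOf (b ^ i)) := (show Odd s by rcases hs with rfl | rfl <;> decide).of_dvd_nat
    (by have := Subgroup.orderOf_dvd_natCard _ (zpow_mem (Subgroup.mem_zpowers b) i); rwa [Nat.card_zpowers, hbo] at this)
  rw [show b ^ i = 1 from eq_one_of_two hodd (k := k + 1) (by
    have := congrArg (· ^ 2) h2
    simp only [one_pow, ((hcomm.pow_pow (2 ^ k) (2 ^ k))).mul_pow, ← pow_mul, ← pow_succ] at this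
    rwa [hv2, mul_one] at this), one_mul]
  exact hv

/-- Conjugation by `C(t)` normalises `K`. -/
theorem conj_mem_K {g c : G} (hg : g * t = t * g) (hc : c ∈ Kg t w) : g * c * g⁻¹ ∈ Kg t w := by
  obtain ⟨hct, hcw⟩ := mem_Kg.mp hc
  refine mem_Kg.mpr ⟨Commute.mul_left (Commute.mul_left hg hct) (Commute.inv_left hg), ?_⟩
  have hk : g⁻¹ * w * g * c = c * (g⁻¹ * w * g) := by
    rcases B.norm_w (Commute.inv_left hg) with e | e <;> rw [inv_inv] at e <;> rw [e]
    · exact hcw.symm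
    · exact (Commute.mul_left hct.symm hcw.symm).eq
  calc g * c * g⁻¹ * w = g * (c * (g⁻¹ * w * g)) * g⁻¹ := by group
    _ = g * (g⁻¹ * w * g * c) * g⁻¹ := by rw [hk]
    _ = w * (g * c * g⁻¹) := by group

/-- An involution of `C(z, t)` moving `x` centralises no element of order five or seven of `K`. -/
theorem inner_sigma {s : ℕ} (hs : s = 5 ∨ s = 7) {b c : G} (hb : b ∈ Kg t w) (hbo : orderOf b = s)
    (hcz : c * z = z * c) (hct : c * t = t * c) (hcx : c * x * c⁻¹ ≠ x) (hcc : c * c = 1) (hcb : c * b = b * c) :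
    False := by
  classical
  haveI : Fact (Nat.Prime 2) := ⟨Nat.prime_two⟩
  have hsp : s.Prime := by rcases hs with rfl | rfl <;> norm_num
  have hso : Odd s := by rcases hs with rfl | rfl <;> decide
  have hbs : b ^ s = 1 := hbo ▸ pow_orderOf_eq_one b
  obtain ⟨hzz, -, hz1, -⟩ := B.cfg.rels
  let H : Subgroup G := Kg t w ⊓ Subgroup.centralizer ({c} : Set G)
  let S : Subgroup G := Sg z x t ⊓ Subgroup.centralizer ({c} : Set G)
  have hSH : S ≤ H := inf_le_inf_right _ B.cfg.Sg_le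
  have hzS : z ∈ S := ⟨B.cfg.z_mem, mem_cent.mpr hcz.symm⟩
  have fix : ∀ y ∈ S, IsConj z y → y = z := fun y hy hyc =>
    B.cfg.outer_fixed_z hcz hct hcx hy.1 hyc (mem_cent.mp hy.2).symm
  have hSmax : ∀ P : Subgroup G, IsPGroup 2 P → P ≤ H → S ≤ P → P ≤ S := fun P =>
    max_of_norm (H := H) (B.cfg.Sg_pgroup.to_le inf_le_left) (fun n hn hnorm _ =>
      ⟨B.cfg.mem_Sg_of_K hn.1 (conj_fix_iff.mp (fix _ (hnorm z hzS) (isConj_iff.mpr ⟨n, rfl⟩))), hn.2⟩) P
  let zz : H := ⟨z, hSH hzS⟩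
  have hzo : orderOf zz = 2 := orderOf_eq_prime (Subtype.ext (by rw [SubmonoidClass.coe_pow, pow_two]; exact hzz))
    fun h => hz1 (congrArg Subtype.val h)
  obtain ⟨P, hP⟩ := ((B.cfg.Sg_pgroup.to_le (inf_le_left : S ≤ Sg z x t)).of_equiv
    (Subgroup.subgroupOfEquivOfLe hSH).symm).exists_le_sylow
  have hPS : ∀ a : H, a ∈ P → (a : G) ∈ S := fun a ha =>
    hSmax ((P : Subgroup H).map H.subtype) (P.isPGroup'.map _) (Subgroup.map_subtype_le _)
      (fun q hq => ⟨⟨q, hSH hq⟩, hP hq, rfl⟩) ⟨a, ha, rfl⟩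
  have hiso : IsIsolated zz := CfsgLib.ZStar.isolated_of_sylow P hzo (hP hzS) fun g hg =>
    Subtype.ext (fix _ (hPS _ hg) (isConj_iff.mpr ⟨(g : G), rfl⟩))
  set O := pPrimeCore 2 H
  have hodd : ∀ o ∈ O, Odd (orderOf o) := fun o ho => by
    rw [← Nat.not_even_iff_odd, even_iff_two_dvd]
    intro hd
    exact (Nat.prime_two.coprime_iff_not_dvd.mp (CfsgLib.card_pPrimeCore_coprime 2).symm)
      (hd.trans (Subgroup.orderOf_dvd_natCard _ ho))
  have hinv : ∀ o ∈ O, zz * o * zz⁻¹ = o⁻¹ := by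
    refine CfsgLib.InvolutionDihedralEight.inverts_of_fpf (Subtype.ext hzz)
      (fun o ho => (inferInstance : O.Normal).conj_mem o ho _) fun o ho e => ?_
    exact eq_one_of_two (hodd o ho) (k := 2) (Subtype.ext (by
      rw [SubmonoidClass.coe_pow]
      exact B.pow_four_K (mem_Kg.mpr (mem_Kg.mp (hSH hzS).1)) (IsConj.refl z) o.2.1
        (congrArg Subtype.val (mul_inv_eq_iff_eq_mul.mp e).symm)))
  have hbH : b ∈ H := ⟨hb, mem_cent.mpr hcb.symm⟩
  let bb : H := ⟨b, hbH⟩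
  have hbO : bb ∈ O := by
    set cc := zz * bb * zz⁻¹ * bb⁻¹
    have hcO : cc ∈ O := CfsgLib.ZStar.commutator_mem hzo hiso bb
    obtain ⟨j, hj⟩ := hodd cc hcO
    set o := cc ^ j
    have hoO : o ∈ O := pow_mem hcO j
    have hoo : o * o = cc⁻¹ := by
      rw [← pow_add, ← mul_eq_one_iff_eq_inv, ← pow_succ, show j + j + 1 = orderOf cc by omega, pow_orderOf_eq_one]
    have hfix : zz * (o⁻¹ * bb) * zz⁻¹ = o⁻¹ * bb := by
      rw [show zz * (o⁻¹ * bb) * zz⁻¹ = (zz * o * zz⁻¹)⁻¹ * (cc * bb) by simp only [cc]; group, hinv o hoO, inv_inv,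
        show cc = (o * o)⁻¹ by rw [hoo, inv_inv]]
      group
    have h4 : (o⁻¹ * bb) ^ 4 = 1 := Subtype.ext (by
      rw [SubmonoidClass.coe_pow]
      exact B.pow_four_K (mem_Kg.mpr (mem_Kg.mp (hSH hzS).1)) (IsConj.refl z) (o⁻¹ * bb).2.1
        (congrArg Subtype.val (mul_inv_eq_iff_eq_mul.mp hfix).symm))
    haveI : O.Normal := inferInstance
    let q := QuotientGroup.mk' O
    have hq4 : q bb ^ 4 = 1 := by
      have : q bb = q (o⁻¹ * bb) := by
        rw [map_mul, map_inv, show q o = 1 from (QuotientGroup.eq_one_iff o).mpr hoO, inv_one, one_mul]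
      rw [this, ← map_pow, h4, map_one]
    have hqs : q bb ^ s = 1 := by
      rw [← map_pow, show bb ^ s = 1 from Subtype.ext (by rw [SubmonoidClass.coe_pow]; exact hbs), map_one]
    exact (QuotientGroup.eq_one_iff bb).mp (eq_one_of_two (hso.of_dvd_nat (orderOf_dvd_of_pow_eq_one hqs)) (k := 2) hq4)
  have hOb : ∀ o ∈ O, (o : G) ∈ Subgroup.zpowers b := by
    intro o ho
    have hcom : o * bb = bb * o := by
      have := hinv _ (mul_mem ho hbO)
      rw [show zz * (o * bb) * zz⁻¹ = zz * o * zz⁻¹ * (zz * bb * zz⁻¹) by group, hinv o ho, hinv bb hbO, mul_inv_rev] at this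
      exact (inv_inj.mp (by rw [mul_inv_rev, mul_inv_rev]; exact this.symm) : o * bb = bb * o)
    obtain ⟨i, v, hv, e⟩ := B.cent_K hs hb hbo o.2.1 (congrArg Subtype.val hcom)
    have hco : (o : G) ^ orderOf o = 1 := by rw [← SubmonoidClass.coe_pow, pow_orderOf_eq_one]; rfl
    have hv1 : v = 1 := by
      refine B.InW_odd hv ((hodd o ho).mul hso) ?_
      have hvv : v = (b ^ i)⁻¹ * o := by rw [e, inv_mul_cancel_left]
      have hbi : ((b ^ i)⁻¹) ^ s = 1 := by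
        rw [inv_pow, ← zpow_natCast, ← zpow_mul, mul_comm i, zpow_mul, zpow_natCast, hbs, one_zpow, inv_one]
      rw [hvv, (show Commute (b ^ i)⁻¹ (o : G) from ((show Commute b (o : G) from
        (congrArg Subtype.val hcom).symm).zpow_left i).inv_left).mul_pow, pow_mul (o : G), hco, one_pow, mul_one,
        mul_comm (orderOf o) s, pow_mul, hbi, one_pow]
    rw [e, hv1, mul_one]
    exact zpow_mem (Subgroup.mem_zpowers b) i
  have hzb : z * b * z⁻¹ = b⁻¹ := congrArg Subtype.val (hinv bb hbO)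
  have hzK : z ∈ Kg t w := B.cfg.Sg_le B.cfg.z_mem
  rcases hs with rfl | rfl
  · obtain ⟨y, hyS, hcy, hy1, hy2⟩ := B.cfg.outer_fixed_elem hcz hct hcx hcc
    have hyH : y ∈ H := ⟨B.cfg.Sg_le hyS, mem_cent.mpr hcy.symm⟩
    have hyb : y * b * y⁻¹ ∈ Subgroup.zpowers b :=
      hOb (⟨y, hyH⟩ * bb * ⟨y, hyH⟩⁻¹) ((inferInstance : O.Normal).conj_mem bb hbO _)
    have h2 := B.norm_pow_K (Or.inl ⟨rfl, rfl⟩) hb hbo (B.cfg.Sg_le hyS) hyb
    obtain ⟨k, hk, hke⟩ := zpowers_cases hbo hyb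
    have hkk : b ^ (k * k) = b ^ 1 := by
      rw [← (pow_conj_of hke).1, pow_one, ← pow_two]
      exact conj_fix_iff.mpr h2
    rw [pow_eq_pow_iff_modEq, hbo, Nat.ModEq] at hkk
    have hy4 : y ^ 4 = 1 := B.pow_four_K (hzK) (IsConj.refl z) (B.cfg.Sg_le hyS) (mem_Sg.mp hyS).1
    interval_cases k <;> first
      | omega
      | skip
    · rw [pow_one] at hke
      exact hy1 (B.two_elem_cent (Or.inl rfl) hb hbo (B.cfg.Sg_le hyS) (conj_fix_iff.mp hke) (k := 2) hy4)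
    · have hzy : z * y * b * (z * y)⁻¹ = b := by
        rw [show z * y * b * (z * y)⁻¹ = z * (y * b * y⁻¹) * z⁻¹ by group, hke, ← conj_pow, hzb, inv_pow,
          inv_eq_iff_mul_eq_one, ← pow_succ]
        exact hbs
      have hcomm : Commute z y := (mem_Sg.mp hyS).1.symm
      exact hy2 (B.two_elem_cent (Or.inl rfl) hb hbo (mul_mem hzK (B.cfg.Sg_le hyS)) (conj_fix_iff.mp hzy) (k := 2)
        (by rw [show (2 : ℕ) ^ 2 = 4 from rfl, hcomm.mul_pow, hy4, show z ^ 4 = (z * z) * (z * z) by simp [pow_succ, mul_assoc], hzz,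
          one_mul, one_mul]))
  · have h3 := B.norm_pow_K (Or.inr ⟨rfl, rfl⟩) hb hbo hzK (by rw [hzb]; exact inv_mem (Subgroup.mem_zpowers b))
    rw [show z ^ 3 = z * z * z by simp [pow_succ, mul_assoc], hzz, one_mul, ← conj_fix_iff, hzb] at h3
    have : b ^ 2 = 1 := by rw [pow_two]; nth_rewrite 1 [← h3]; exact inv_mul_cancel b
    have hd := orderOf_dvd_of_pow_eq_one this
    rw [hbo] at hd
    norm_num at hd

/-- The centraliser in `C(t)` of an element of order five or seven of `K` lies in `K`. -/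
theorem no_outer {s : ℕ} (hs : s = 5 ∨ s = 7) {b g : G} (hb : b ∈ Kg t w) (hbo : orderOf b = s)
    (hg : g * t = t * g) (hgb : g * b = b * g) : g ∈ Kg t w := by
  by_contra hgK
  obtain ⟨hzz, hxx, hz1, hx1, hne, hzx, htt, ht1, hww, htw, hw1, hwt, -⟩ := B.cfg.rels
  have moved : ∀ {a : G}, a * t = t * a → a ∉ Kg t w → a * w * a⁻¹ = t * w := fun {a} ha haK =>
    (B.norm_w ha).resolve_left fun e => haK (mem_Kg.mpr ⟨ha, conj_fix_iff.mp e⟩)
  -- pass to a two-element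
  obtain ⟨e, m, hm, hord⟩ := Nat.exists_eq_two_pow_mul_odd (orderOf_pos g).ne'
  set a := g ^ m with hadef
  have hat : a * t = t * a := Commute.pow_left hg m
  have hab : a * b = b * a := Commute.pow_left hgb m
  have ha2 : a ^ 2 ^ e = 1 := by rw [hadef, ← pow_mul, mul_comm, ← hord, pow_orderOf_eq_one]
  have haK : a ∉ Kg t w := by
    intro h
    have h2 : g ^ 2 ∈ Kg t w := by
      refine mem_Kg.mpr ⟨Commute.pow_left hg 2, conj_fix_iff.mp ?_⟩
      rw [pow_two, show g * g * w * (g * g)⁻¹ = g * (g * w * g⁻¹) * g⁻¹ by group, moved hg hgK,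
        show g * (t * w) * g⁻¹ = g * t * g⁻¹ * (g * w * g⁻¹) by group, conj_fix_iff.mpr hg, moved hg hgK,
        ← mul_assoc, htt, one_mul]
    obtain ⟨j, rfl⟩ := hm
    rw [hadef, pow_succ, pow_mul] at h
    exact hgK ((Subgroup.mul_mem_cancel_left _ (pow_mem h2 j)).mp h)
  have hsq : InW t w (a * a) := by
    refine B.two_elem_cent hs hb hbo (mem_Kg.mpr ⟨Commute.mul_left hat hat, conj_fix_iff.mp ?_⟩)
      (Commute.mul_left hab hab) (k := e) ?_
    · rw [show a * a * w * (a * a)⁻¹ = a * (a * w * a⁻¹) * a⁻¹ by group, moved hat haK,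
        show a * (t * w) * a⁻¹ = a * t * a⁻¹ * (a * w * a⁻¹) by group, conj_fix_iff.mpr hat, moved hat haK,
        ← mul_assoc, htt, one_mul]
    · rw [← pow_two, ← pow_mul, mul_comm, pow_mul, ha2, one_pow]
  obtain ⟨c, hct, hcK, hcb, hcc⟩ : ∃ c : G, c * t = t * c ∧ c ∉ Kg t w ∧ c * b = b * c ∧ c * c = 1 := by
    have hbw : w * b = b * w := (mem_Kg.mp hb).2.symm
    have hw' : w ∈ Kg t w := mem_Kg.mpr ⟨htw.symm, rfl⟩
    have hfix : a * (a * a) * a⁻¹ = a * a := by group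
    rcases hsq with h | h | h | h
    · exact ⟨a, hat, haK, hab, h⟩
    · refine ⟨a * w, Commute.mul_left hat htw.symm, fun h' => haK ((Subgroup.mul_mem_cancel_right _ hw').mp h'),
        Commute.mul_left hab hbw, ?_⟩
      rw [show a * w * (a * w) = a * w * a⁻¹ * (a * a) * w by group, moved hat haK, h, mul_assoc t w t, ← htw,
        ← mul_assoc, htt, one_mul, hww]
    · rw [h, moved hat haK] at hfix
      exact absurd (mul_eq_right.mp hfix) ht1
    · rw [h, show a * (t * w) * a⁻¹ = a * t * a⁻¹ * (a * w * a⁻¹) by group, conj_fix_iff.mpr hat, moved hat haK,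
        ← mul_assoc, htt, one_mul] at hfix
      exact absurd (right_eq_mul.mp hfix) ht1
  -- move it into `C(z, t)`
  haveI : Fact (Nat.Prime 2) := ⟨Nat.prime_two⟩
  have hP : IsPGroup 2 (Subgroup.zpowers c) := fun ⟨q, hq⟩ => ⟨1, Subtype.ext (by
    obtain ⟨i, rfl⟩ := Subgroup.mem_zpowers_iff.mp hq
    show (c ^ i) ^ 2 ^ 1 = 1
    rw [← zpow_natCast, ← zpow_mul, mul_comm, zpow_mul, zpow_natCast, pow_one, pow_two, hcc, one_zpow])⟩
  obtain ⟨k, hk, hkS⟩ := conj_into B.cfg.Sz_pgroup inf_le_right B.cfg.Sz_max _ hP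
    (Subgroup.zpowers_le.mpr (mem_cent.mpr hct))
  obtain ⟨h1, h2⟩ := hkS c (Subgroup.mem_zpowers c)
  have hkt := mem_cent.mp hk
  refine B.inner_sigma hs (B.conj_mem_K hkt hb)
    (by rw [show k * b * k⁻¹ = MulAut.conj k b from rfl, MulEquiv.orderOf_eq, hbo]) (mem_cent.mp h1) (mem_cent.mp h2)
    (fun e => hcK ?_) (by rw [show k * c * k⁻¹ * (k * c * k⁻¹) = k * (c * c) * k⁻¹ by group, hcc]; group)
    (by rw [show k * c * k⁻¹ * (k * b * k⁻¹) = k * (c * b) * k⁻¹ by group, hcb]; group)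
  have hS : k * c * k⁻¹ ∈ Kg t w :=
    B.cfg.Sg_le (mem_Sg.mpr ⟨mem_cent.mp h1, conj_fix_iff.mp e, mem_cent.mp h2⟩)
  have := B.conj_mem_K (Commute.inv_left hkt) hS
  rwa [show k⁻¹ * (k * c * k⁻¹) * k⁻¹⁻¹ = c by group] at this

/-- The centraliser of `⟨t, b⟩`. -/
theorem cent_t {s : ℕ} (hs : s = 5 ∨ s = 7) {b c : G} (hb : b ∈ Kg t w) (hbo : orderOf b = s)
    (hc : c * t = t * c) (h : c * b = b * c) : ∃ i : ℤ, ∃ v, InW t w v ∧ c = b ^ i * v :=
  B.cent_K hs hb hbo (B.no_outer hs hb hbo hc h) h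

/-- An element of `C(t)` outside `K` normalising `⟨b⟩`. -/
theorem outer_normalizing {s : ℕ} (hs : s = 5 ∨ s = 7) {b : G} (hb : b ∈ Kg t w) (hbo : orderOf b = s) :
    ∃ g, g * t = t * g ∧ g ∉ Kg t w ∧ ∃ k, k < s ∧ g * b * g⁻¹ = b ^ k ∧ k ≠ 0 := by
  obtain ⟨c, hcz, hct, hcx, hcw⟩ := B.cfg.exists_outer
  obtain ⟨-, -, -, -, -, -, -, ht1, -⟩ := B.cfg.rels
  obtain ⟨m, hm, hmb⟩ := B.conj_K hs hb hbo (B.conj_mem_K hct hb)
    (by rw [show c * b * c⁻¹ = MulAut.conj c b from rfl, MulEquiv.orderOf_eq, hbo])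
  obtain ⟨k, hk, hke⟩ := zpowers_cases hbo hmb
  refine ⟨m * c, Commute.mul_left (mem_Kg.mp hm).1 hct, fun h => ?_, k, hk, ?_, fun h0 => ?_⟩
  · have := conj_fix_iff.mpr (mem_Kg.mp ((Subgroup.mul_mem_cancel_left _ hm).mp h)).2
    rw [hcw] at this
    exact ht1 (mul_eq_right.mp this)
  · rw [← hke]; group
  · rw [h0, pow_zero, show m * (c * b * c⁻¹) * m⁻¹ = (m * c) * b * (m * c)⁻¹ by group, conj_eq_one_iff] at hke
    rw [hke, orderOf_one] at hbo
    rcases hs with rfl | rfl <;> omega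

/-- The automiser in `C(t)` of a subgroup of order five is everything. -/
theorem doubled_t {b : G} (hb : b ∈ Kg t w) (hbo : orderOf b = 5) :
    ∃ g, g * t = t * g ∧ g * b * g⁻¹ = b ^ 2 := by
  obtain ⟨g, hgt, hgK, k, hk, hke, hk0⟩ := B.outer_normalizing (Or.inl rfl) hb hbo
  have hb5 : b ^ 5 = 1 := hbo ▸ pow_orderOf_eq_one b
  have k1 : k ≠ 1 := fun h => by
    rw [h, pow_one] at hke
    exact hgK (B.no_outer (Or.inl rfl) hb hbo hgt (conj_fix_iff.mp hke))
  have k4 : k ≠ 4 := fun h => by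
    subst h
    obtain ⟨n, hn, hnb⟩ := B.inverted_K hb hbo
    refine hgK ((Subgroup.mul_mem_cancel_left _ hn).mp (B.no_outer (Or.inl rfl) hb hbo
      (Commute.mul_left (mem_Kg.mp hn).1 hgt) (conj_fix_iff.mp ?_)))
    rw [show n * g * b * (n * g)⁻¹ = n * (g * b * g⁻¹) * n⁻¹ by group, hke, ← conj_pow, hnb, inv_pow,
      inv_eq_iff_mul_eq_one, ← pow_succ]
    exact hb5
  rcases two_three_five k hk hk0 k1 k4 with rfl | rfl
  · exact ⟨g, hgt, hke⟩
  · refine ⟨g ^ 3, Commute.pow_left hgt 3, (pow_conj_of hke).2.trans ?_⟩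
    rw [show 3 * 3 * 3 = 2 + 5 * 5 from rfl, pow_add, pow_mul, hb5, one_pow, mul_one]

/-- The automiser in `C(t)` of a subgroup of order seven contains the inversion. -/
theorem inverted_t {b : G} (hb : b ∈ Kg t w) (hbo : orderOf b = 7) :
    ∃ g, g * t = t * g ∧ g * b * g⁻¹ = b⁻¹ := by
  obtain ⟨g, hgt, hgK, k, hk, hke, hk0⟩ := B.outer_normalizing (Or.inr rfl) hb hbo
  have hb7 : b ^ 7 = 1 := hbo ▸ pow_orderOf_eq_one b
  have k1 : k ≠ 1 := fun h => by
    rw [h, pow_one] at hke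
    exact hgK (B.no_outer (Or.inr rfl) hb hbo hgt (conj_fix_iff.mp hke))
  obtain ⟨n, hn, hnb⟩ := B.squared_K hb hbo
  have bad : ∀ r : G, r ∈ Kg t w → r * (b ^ k) * r⁻¹ = b → False := fun r hr h =>
    hgK ((Subgroup.mul_mem_cancel_left _ hr).mp (B.no_outer (Or.inr rfl) hb hbo
      (Commute.mul_left (mem_Kg.mp hr).1 hgt) (conj_fix_iff.mp (by
        rw [show r * g * b * (r * g)⁻¹ = r * (g * b * g⁻¹) * r⁻¹ by group, hke, h]))))
  have k4 : k ≠ 4 := fun h => by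
    subst h
    refine bad n hn ?_
    rw [← conj_pow, hnb, ← pow_mul, show 2 * 4 = 1 + 7 from rfl, pow_add, hb7, pow_one, mul_one]
  have k2 : k ≠ 2 := fun h => by
    subst h
    refine bad (n * n) (mul_mem hn hn) ?_
    rw [← conj_pow, (pow_conj_of hnb).1, ← pow_mul, show 2 * 2 * 2 = 1 + 7 from rfl, pow_add, hb7, pow_one, mul_one]
  refine ⟨g ^ 3, Commute.pow_left hgt 3, (pow_conj_of hke).2.trans ?_⟩
  rw [eq_inv_iff_mul_eq_one, ← pow_succ, ← orderOf_dvd_iff_pow_eq_one, hbo]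
  interval_cases k <;> norm_num at *

end Base

end CfsgLib.SuzType
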