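import Cfsg.Agent.Lib.SuzType.Second.CentZ

/-!
Groups of Suzuki sporadic type: the Sylow five-subgroups have order twenty-five.
-/

set_option autoImplicit false
set_option linter.unusedSectionVars false
set_option linter.unusedVariables false

universe u

namespace CfsgLib.SuzType

open Cfsg QuadraticMap CfsgLargeExtra
open CfsgLib.HallJankoType (mem_cent conj_fix_iff)

theorem square_five : ∀ b : Fin 5, b.1 ≠ 0 → b.1 * b.1 % 5 = 1 ∨ b.1 * b.1 * 4 % 5 = 1 := by decide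

theorem neg_five : ∀ b : Fin 5, b.1 * b.1 % 5 = 1 → b.1 = 1 ∨ b.1 = 4 := by decide

theorem solve_five : ∀ a j b : Fin 5, a.1 ≠ 0 → j.1 ≠ 0 → a.1 * (j.1 * (b.1 * (a.1 * j.1) ^ 3)) % 5 = b.1 := by decide

/-- A power that is an involution. -/
theorem invol_of_inverting {G : Type u} [Group G] [Finite G] {u f : G} (hf : orderOf f = 5) (h : u * f * u⁻¹ = f⁻¹) :
    ∃ m : ℕ, orderOf (u ^ m) = 2 := by
  refine ⟨orderOf u / 2, orderOf_pow_orderOf_div (orderOf_pos u).ne' ?_⟩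
  rw [← even_iff_two_dvd, ← Nat.not_odd_iff_even]
  intro ho
  have key : ∀ k : ℕ, u ^ (2 * k) * f * (u ^ (2 * k))⁻¹ = f := by
    intro k
    induction k with
    | zero => simp
    | succ k ih =>
      rw [show u ^ (2 * (k + 1)) * f * (u ^ (2 * (k + 1)))⁻¹ = u ^ 2 * (u ^ (2 * k) * f * (u ^ (2 * k))⁻¹) * (u ^ 2)⁻¹ by
        rw [show 2 * (k + 1) = 2 + 2 * k by ring, pow_add]; group, ih, pow_two,
        show u * u * f * (u * u)⁻¹ = u * (u * f * u⁻¹) * u⁻¹ by group, h,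
        show u * f⁻¹ * u⁻¹ = (u * f * u⁻¹)⁻¹ by group, h, inv_inv]
  obtain ⟨k, hk⟩ := ho
  have h1 := key k
  have h2 : u ^ (2 * k) = u⁻¹ := eq_inv_of_mul_eq_one_left (by rw [← pow_succ, ← hk, pow_orderOf_eq_one])
  rw [h2, inv_inv] at h1
  have h3 : u * f * u⁻¹ = f := by
    conv_lhs => rw [← h1]
    group
  rw [h] at h3
  have : f ^ 2 = 1 := by rw [pow_two]; nth_rewrite 1 [← h3]; exact inv_mul_cancel f
  have hd := orderOf_dvd_of_pow_eq_one this
  rw [hf] at hd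
  norm_num at hd

variable {G : Type u} [Group G] [Finite G] {z x t w : G} {Q : Subgroup G} {π : G → V} {M : G → O6}

namespace Base

variable (B : Base z x t w Q) (h : ST z Q π M)
include B h

/-- There are two classes of involutions. -/
theorem invol_class {y : G} (hyy : y * y = 1) (hy1 : y ≠ 1) : IsConj z y ∨ IsConj t y := by
  obtain ⟨x0, Q', π', M', P⟩ := h.exists_pr
  obtain ⟨s, hs, hsp, -⟩ := P.exists_s
  obtain ⟨t0, ht0⟩ := P.exists_typ hs hsp
  obtain ⟨-, -, -, -, -, -, htt, ht1, -⟩ := B.cfg.rels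
  have hcl : IsConj t0 t := ((P.classify hs hsp ht0 htt ht1).resolve_left B.cfg.types.2.2.1)
  exact (P.classify hs hsp ht0 hyy hy1).imp id fun e => hcl.symm.trans e

/-- The order of the centraliser of an element of order five commuting with an involution. -/
theorem card_cent_five {f y : G} (hfo : orderOf f = 5) (hyy : y * y = 1) (hy1 : y ≠ 1) (hyf : y * f = f * y) :
    Nat.card (Subgroup.centralizer ({f} : Set G)) = 60 ∨ Nat.card (Subgroup.centralizer ({f} : Set G)) = 300 ∨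
      Nat.card (Subgroup.centralizer ({f} : Set G)) = 600 ∨ Nat.card (Subgroup.centralizer ({f} : Set G)) = 1800 := by
  have back : ∀ {a g : G}, g * a * g⁻¹ = y → g⁻¹ * f * g * a = a * (g⁻¹ * f * g) := fun {a g} e => by
    rw [show g⁻¹ * f * g * a = g⁻¹ * (f * (g * a * g⁻¹)) * g by group, e, ← hyf, ← e]; group
  have hord : ∀ g : G, orderOf (g⁻¹ * f * g) = 5 := fun g => by
    rw [show g⁻¹ * f * g = MulAut.conj g⁻¹ f by simp, MulEquiv.orderOf_eq, hfo]
  rcases B.invol_class h hyy hy1 with e | e <;> obtain ⟨g, hg⟩ := isConj_iff.mp e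
  · have := B.card_centZ h (back hg) (hord g)
    rw [← HallJankoType.card_cent_conj g, show g * (g⁻¹ * f * g) * g⁻¹ = f by group] at this
    exact Or.inr (Or.inr this)
  · have hK := B.odd_mem_K (back hg) (by rw [hord g]; decide)
    have := B.card_cent (Or.inl rfl) hK (hord g)
    rw [← HallJankoType.card_cent_conj g, show g * (g⁻¹ * f * g) * g⁻¹ = f by group] at this
    rcases this with e' | e'
    · exact Or.inl e'
    · exact Or.inr (Or.inl e')

/-- The order of a Sylow five-subgroup. -/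
theorem card_sylow_five (P : Sylow 5 G) : Nat.card (P : Subgroup G) = 25 := by
  classical
  haveI : Fact (Nat.Prime 5) := ⟨by norm_num⟩
  haveI : Fact (Nat.Prime 2) := ⟨Nat.prime_two⟩
  obtain ⟨f, hf, hfo, -⟩ := h.exists_five
  have hf5 : f ^ 5 = 1 := hfo ▸ pow_orderOf_eq_one f
  set W := Subgroup.centralizer ({f} : Set G) with hW
  have hWc : Nat.card W = 600 ∨ Nat.card W = 1800 := B.card_centZ h hf hfo
  obtain ⟨S⟩ := (inferInstance : Nonempty (Sylow 5 W))
  have hSc : Nat.card (S : Subgroup W) = 25 := by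
    rw [S.card_eq_multiplicity]
    rcases hWc with e | e <;> rw [e]
    · rw [show (600 : ℕ) = 5 ^ 2 * 24 by norm_num, Nat.factorization_mul (by norm_num) (by norm_num), Finsupp.add_apply,
        Nat.Prime.factorization_pow (by norm_num), Finsupp.single_eq_same,
        Nat.factorization_eq_zero_of_not_dvd (by norm_num : ¬ 5 ∣ 24)]
      norm_num
    · rw [show (1800 : ℕ) = 5 ^ 2 * 72 by norm_num, Nat.factorization_mul (by norm_num) (by norm_num), Finsupp.add_apply,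
        Nat.Prime.factorization_pow (by norm_num), Finsupp.single_eq_same,
        Nat.factorization_eq_zero_of_not_dvd (by norm_num : ¬ 5 ∣ 72)]
      norm_num
  set S0 := (S : Subgroup W).map W.subtype with hS0
  have hS0c : Nat.card S0 = 25 := by rw [hS0, Subgroup.card_map_of_injective W.subtype_injective, hSc]
  have hS0W : S0 ≤ W := Subgroup.map_subtype_le _
  have hS0p : IsPGroup 5 S0 := IsPGroup.of_card (n := 2) (by rw [hS0c]; norm_num)
  obtain ⟨R, hR⟩ := hS0p.exists_le_sylow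
  rw [show Nat.card (P : Subgroup G) = Nat.card (R : Subgroup G) from
    P.card_eq_multiplicity.trans R.card_eq_multiplicity.symm]
  by_contra hne
  -- five-subgroups of the centraliser containing `S0`
  have hmax : ∀ a : G, a ∈ W → (∀ p ∈ S0, a * p * a⁻¹ ∈ S0) → (∃ k, a ^ 5 ^ k = 1) → a ∈ S0 := by
    intro a ha hn hk
    obtain ⟨k, hk⟩ := hk
    have hz5 : IsPGroup 5 (Subgroup.zpowers (⟨a, ha⟩ : W)) := fun q => ⟨k, Subtype.ext (by
      obtain ⟨i, hi⟩ := Subgroup.mem_zpowers_iff.mp q.2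
      rw [SubmonoidClass.coe_pow, ← hi, ← zpow_natCast, ← zpow_mul, mul_comm, zpow_mul, zpow_natCast,
        show (⟨a, ha⟩ : W) ^ 5 ^ k = 1 from Subtype.ext hk, one_zpow]
      rfl)⟩
    have hnorm : (⟨a, ha⟩ : W) ∈ Subgroup.normalizer ((S : Subgroup W) : Set W) :=
      L34.mem_normalizer_of_conj fun p hp => by
        obtain ⟨p', hp', e⟩ := hn (p : G) ⟨p, hp, rfl⟩
        rwa [← show p' = ⟨a, ha⟩ * p * ⟨a, ha⟩⁻¹ from Subtype.ext e]
    have hsup := IsPGroup.to_sup_of_normal_right' hz5 S.isPGroup' (Subgroup.zpowers_le.mpr hnorm)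
    have := S.is_maximal' hsup le_sup_right ▸ (le_sup_left : Subgroup.zpowers (⟨a, ha⟩ : W) ≤ _) (Subgroup.mem_zpowers _)
    exact ⟨_, this, rfl⟩
  have hfS : f ∈ S0 := hmax f (mem_cent.mpr rfl) (fun p hp => by
    rw [conj_fix_iff.mpr (mem_cent.mp (hS0W hp)).symm]; exact hp) ⟨1, by rw [pow_one]; exact hf5⟩
  have hlt : Nat.card S0 < Nat.card (R : Subgroup G) :=
    lt_of_le_of_ne (Nat.le_of_dvd Nat.card_pos (Subgroup.card_dvd_of_le hR)) (by rw [hS0c]; exact Ne.symm hne)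
  -- a central element
  haveI := R.isPGroup'.isNilpotent
  haveI : Nontrivial (R : Subgroup G) := Finite.one_lt_card_iff_nontrivial.mp (by omega)
  have hcne : Nat.card (Subgroup.center (R : Subgroup G)) ≠ 1 := fun e => by
    haveI := R.isPGroup'.center_nontrivial
    exact absurd e (Finite.one_lt_card.ne')
  have h5c : 5 ∣ Nat.card (Subgroup.center (R : Subgroup G)) := by
    obtain ⟨k, hk⟩ := IsPGroup.iff_card.mp (R.isPGroup'.to_subgroup (Subgroup.center _))
    rw [hk] at hcne ⊢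
    exact dvd_pow_self 5 fun h0 => hcne (by rw [h0, pow_zero])
  obtain ⟨⟨⟨c, hcR⟩, hcc⟩, hco⟩ := exists_prime_orderOf_dvd_card' (G := Subgroup.center (R : Subgroup G)) 5 h5c
  rw [Subgroup.orderOf_mk, Subgroup.orderOf_mk] at hco
  have hcen : ∀ p ∈ (R : Subgroup G), p * c = c * p := fun p hp =>
    congrArg Subtype.val (Subgroup.mem_center_iff.mp hcc ⟨p, hp⟩)
  have hc5 : c ^ 5 = 1 := hco ▸ pow_orderOf_eq_one c
  have hcS : c ∈ S0 := hmax c (mem_cent.mpr (hcen f (hR hfS)).symm)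
    (fun p hp => by rw [conj_fix_iff.mpr (hcen p (hR hp)).symm]; exact hp) ⟨1, by rw [pow_one]; exact hc5⟩
  -- an element moving `f`
  have hlt' : S0.subgroupOf (R : Subgroup G) < ⊤ := lt_top_iff_ne_top.mpr fun e => by
    have := Subgroup.eq_of_le_of_card_ge hR (Nat.le_of_dvd Nat.card_pos (Subgroup.card_dvd_of_le (Subgroup.subgroupOf_eq_top.mp e)))
    rw [← this] at hlt
    omega
  obtain ⟨⟨n, hnR⟩, hnN, hnS⟩ := SetLike.exists_of_lt (normalizerCondition_of_isNilpotent _ hlt')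
  have hnnorm : ∀ p ∈ S0, n * p * n⁻¹ ∈ S0 := fun p hp =>
    (Subgroup.mem_normalizer_iff.mp hnN ⟨p, hR hp⟩).mp hp
  obtain ⟨ea, hea⟩ := R.isPGroup' ⟨n, hnR⟩
  have hn5 : n ^ 5 ^ ea = 1 := congrArg Subtype.val hea
  have hnW : n * f ≠ f * n := fun e => hnS (hmax n (mem_cent.mpr e) hnnorm ⟨ea, hn5⟩)
  have hcnot : c ∉ Subgroup.zpowers f := fun hc => by
    have heq : Subgroup.zpowers c = Subgroup.zpowers f := Subgroup.eq_of_le_of_card_ge (Subgroup.zpowers_le.mpr hc)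
      (by rw [Nat.card_zpowers, Nat.card_zpowers, hfo, hco])
    obtain ⟨i, hi⟩ := Subgroup.mem_zpowers_iff.mp (heq.symm ▸ Subgroup.mem_zpowers f : f ∈ Subgroup.zpowers c)
    exact hnW (hi ▸ (show Commute n c from hcen n hnR).zpow_right i)
  have hfc : Commute f c := hcen f (hR hfS)
  -- coordinates
  have hinj : ∀ a b a' b' : ℕ, a < 5 → b < 5 → a' < 5 → b' < 5 → f ^ a * c ^ b = f ^ a' * c ^ b' → a = a' ∧ b = b' := by
    intro a b a' b' ha hb ha' hb' e
    have e2 : (f ^ a')⁻¹ * f ^ a = c ^ b' * (c ^ b)⁻¹ := by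
      rw [eq_mul_inv_iff_mul_eq, mul_assoc, e, inv_mul_cancel_left]
    have hb_ : b = b' := by
      by_contra hne'
      have hm : c ^ b' * (c ^ b)⁻¹ ∈ Subgroup.zpowers f := by
        rw [← e2]; exact mul_mem (inv_mem (pow_mem (Subgroup.mem_zpowers f) _)) (pow_mem (Subgroup.mem_zpowers f) _)
      have hne1 : c ^ b' * (c ^ b)⁻¹ ≠ 1 := fun h1 => by
        rw [mul_inv_eq_one, pow_eq_pow_iff_modEq, hco, Nat.ModEq] at h1
        omega
      have heq : Subgroup.zpowers (c ^ b' * (c ^ b)⁻¹) = Subgroup.zpowers c :=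
        Subgroup.eq_of_le_of_card_ge (Subgroup.zpowers_le.mpr (mul_mem (pow_mem (Subgroup.mem_zpowers c) _)
          (inv_mem (pow_mem (Subgroup.mem_zpowers c) _)))) (by
          rw [Nat.card_zpowers, Nat.card_zpowers, hco, orderOf_eq_prime (p := 5) _ hne1]
          rw [((Commute.pow_pow_self c b' b).inv_right).mul_pow, inv_pow, ← pow_mul, ← pow_mul, mul_comm b' 5,
            mul_comm b 5, pow_mul, pow_mul, hc5, one_pow, one_pow, inv_one, mul_one])
      exact hcnot (Subgroup.zpowers_le.mpr hm (heq.symm ▸ Subgroup.mem_zpowers c))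
    refine ⟨?_, hb_⟩
    rw [hb_] at e
    have := mul_right_cancel e
    rw [pow_eq_pow_iff_modEq, hfo, Nat.ModEq] at this
    omega
  let φ : Fin 5 × Fin 5 → S0 := fun q => ⟨f ^ q.1.1 * c ^ q.2.1, mul_mem (pow_mem hfS _) (pow_mem hcS _)⟩
  have hφ : Function.Bijective φ := by
    refine (Nat.bijective_iff_injective_and_card φ).mpr ⟨fun p q e => ?_, by rw [hS0c]; simp⟩
    obtain ⟨e1, e2⟩ := hinj _ _ _ _ p.1.2 p.2.2 q.1.2 q.2.2 (congrArg Subtype.val e)
    exact Prod.ext (Fin.ext e1) (Fin.ext e2)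
  have coord : ∀ p ∈ S0, ∃ a b : Fin 5, p = f ^ a.1 * c ^ b.1 := fun p hp => by
    obtain ⟨⟨a, b⟩, e⟩ := hφ.2 ⟨p, hp⟩
    exact ⟨a, b, (congrArg Subtype.val e).symm⟩
  obtain ⟨i, j, hij⟩ := coord _ (hnnorm f hfS)
  have hnc : n * c * n⁻¹ = c := conj_fix_iff.mpr (hcen n hnR)
  have iter : ∀ m : ℕ, ∃ e : ℕ, n ^ m * f * (n ^ m)⁻¹ = f ^ (i.1 ^ m) * c ^ e := by
    intro m
    induction m with
    | zero => exact ⟨0, by simp⟩
    | succ m ih =>
      obtain ⟨e, he⟩ := ih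
      refine ⟨j.1 * i.1 ^ m + e, ?_⟩
      rw [show n ^ (m + 1) * f * (n ^ (m + 1))⁻¹ = n * (n ^ m * f * (n ^ m)⁻¹) * n⁻¹ by rw [pow_succ']; group, he,
        show n * (f ^ (i.1 ^ m) * c ^ e) * n⁻¹ = n * f ^ (i.1 ^ m) * n⁻¹ * (n * c ^ e * n⁻¹) by group, ← conj_pow,
        ← conj_pow, hij, hnc, (hfc.pow_pow _ _).mul_pow, ← pow_mul, ← pow_mul, ← pow_succ', mul_assoc, ← pow_add]
  have hi1 : i.1 = 1 := by
    obtain ⟨e, he⟩ := iter (5 ^ ea)
    rw [hn5, one_mul, inv_one, mul_one] at he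
    have hred : ∀ y : G, y ^ 5 = 1 → ∀ r : ℕ, y ^ r = y ^ (r % 5) := fun y hy r => by
      conv_lhs => rw [← Nat.div_add_mod r 5, pow_add, pow_mul, hy, one_pow, one_mul]
    rw [hred f hf5, hred c hc5] at he
    have h1 := (hinj 1 0 (i.1 ^ 5 ^ ea % 5) (e % 5) (by norm_num) (by norm_num) (Nat.mod_lt _ (by norm_num))
      (Nat.mod_lt _ (by norm_num)) (by rw [pow_one, pow_zero, mul_one]; exact he)).1
    have hfix : ∀ k : ℕ, i.1 ^ 5 ^ k % 5 = i.1 % 5 := fun k => by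
      induction k with
      | zero => simp
      | succ k ih => rw [pow_succ, pow_mul, Nat.pow_mod, ih, ← Nat.pow_mod, five_fixed i, Nat.mod_eq_of_lt i.2]
    rw [hfix ea, Nat.mod_eq_of_lt i.2] at h1
    exact h1.symm
  rw [hi1, pow_one] at hij
  have hj0 : j.1 ≠ 0 := fun e => by
    rw [e, pow_zero, mul_one] at hij
    exact hnW (conj_fix_iff.mp hij)
  -- no involution commutes with `c`
  have hRc : 125 ∣ Nat.card (Subgroup.centralizer ({c} : Set G)) := by
    obtain ⟨k, hk⟩ := IsPGroup.iff_card.mp R.isPGroup'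
    have h3 : 3 ≤ k := by
      by_contra hh
      have : (5 : ℕ) ^ k ≤ 5 ^ 2 := Nat.pow_le_pow_right (by norm_num) (by omega)
      rw [hS0c, hk] at hlt
      omega
    refine dvd_trans ?_ (Subgroup.card_dvd_of_le (fun p hp => mem_cent.mpr (hcen p hp) :
      (R : Subgroup G) ≤ Subgroup.centralizer ({c} : Set G)))
    rw [hk, show (125 : ℕ) = 5 ^ 3 by norm_num]
    exact pow_dvd_pow 5 h3
  have noinv : ∀ y : G, y * y = 1 → y ≠ 1 → y * c = c * y → False := fun y hy hy1 hyc => by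
    rcases B.card_cent_five h hco hy hy1 hyc with e | e | e | e <;> rw [e] at hRc <;> norm_num at hRc
  -- elements normalising `S0` normalise `⟨c⟩`
  have hline : ∀ g : G, (∀ p ∈ S0, g * p * g⁻¹ ∈ S0) → ∃ b : Fin 5, b.1 ≠ 0 ∧ g * c * g⁻¹ = c ^ b.1 := by
    intro g hg
    obtain ⟨a, b, hab⟩ := coord _ (hg c hcS)
    by_cases ha : a.1 = 0
    · rw [ha, pow_zero, one_mul] at hab
      refine ⟨b, fun hb => ?_, hab⟩
      rw [hb, pow_zero, conj_eq_one_iff] at hab
      rw [hab, orderOf_one] at hco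
      omega
    exfalso
    set m := b.1 * (a.1 * j.1) ^ 3 with hm
    have hconj : n ^ m * f ^ a.1 * (n ^ m)⁻¹ = f ^ a.1 * c ^ b.1 := by
      have hnm : ∀ m : ℕ, n ^ m * f * (n ^ m)⁻¹ = f * c ^ (j.1 * m) := by
        intro m
        induction m with
        | zero => simp
        | succ m ih =>
          rw [show n ^ (m + 1) * f * (n ^ (m + 1))⁻¹ = n * (n ^ m * f * (n ^ m)⁻¹) * n⁻¹ by rw [pow_succ']; group, ih,
            show n * (f * c ^ (j.1 * m)) * n⁻¹ = n * f * n⁻¹ * (n * c ^ (j.1 * m) * n⁻¹) by group, hij, ← conj_pow, hnc,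
            mul_assoc, ← pow_add, mul_add, mul_one, add_comm]
      rw [← conj_pow, hnm, (hfc.pow_right _).mul_pow, ← pow_mul]
      congr 1
      rw [pow_eq_pow_iff_modEq, hco, Nat.ModEq, Nat.mod_eq_of_lt b.2, hm, mul_comm, ← mul_assoc]
      have := solve_five a j b ha hj0
      rwa [← mul_assoc] at this
    refine noinv (g⁻¹ * (n ^ m * z * (n ^ m)⁻¹) * g) ?_ ?_ ?_
    · rw [show g⁻¹ * (n ^ m * z * (n ^ m)⁻¹) * g * (g⁻¹ * (n ^ m * z * (n ^ m)⁻¹) * g) =
        g⁻¹ * (n ^ m * (z * z) * (n ^ m)⁻¹) * g by group, h.zz]; group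
    · intro e
      apply h.es.ne
      calc z = (n ^ m)⁻¹ * g * (g⁻¹ * (n ^ m * z * (n ^ m)⁻¹) * g) * g⁻¹ * n ^ m := by group
        _ = 1 := by rw [e]; group
    · have hcomm : z * f ^ a.1 = f ^ a.1 * z := (Commute.pow_left hf a.1).symm
      calc g⁻¹ * (n ^ m * z * (n ^ m)⁻¹) * g * c
          = g⁻¹ * (n ^ m * z * (n ^ m)⁻¹ * (g * c * g⁻¹)) * g := by group
        _ = g⁻¹ * (n ^ m * (z * f ^ a.1) * (n ^ m)⁻¹) * g := by rw [hab, ← hconj]; group
        _ = g⁻¹ * ((n ^ m * f ^ a.1 * (n ^ m)⁻¹) * (n ^ m * z * (n ^ m)⁻¹)) * g := by rw [hcomm]; group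
        _ = c * (g⁻¹ * (n ^ m * z * (n ^ m)⁻¹) * g) := by rw [hconj, ← hab]; group
  -- an involution of the centraliser normalising `S0`
  set NS := Subgroup.normalizer ((S : Subgroup W) : Set W)
  have h2N : 2 ∣ Nat.card NS := by
    have hmod := card_sylow_modEq_one 5 W
    rw [Sylow.card_eq_index_normalizer S] at hmod
    have hle : (S : Subgroup W) ≤ NS := Subgroup.le_normalizer
    have h25 : 25 ∣ Nat.card NS := hSc ▸ Subgroup.card_dvd_of_le hle
    have hmul := NS.card_mul_index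
    obtain ⟨d, hd⟩ := h25
    rw [hd] at hmul ⊢
    by_contra hodd
    change NS.index ≡ 1 [MOD 5] at hmod
    have hd2 : ¬ 2 ∣ d := fun hh => hodd (Dvd.dvd.mul_left hh 25)
    rw [Nat.ModEq] at hmod
    have hdle : d ≤ 72 := by
      rcases hWc with e | e <;> rw [e] at hmul <;> nlinarith [Nat.pos_of_ne_zero (fun h0 : NS.index = 0 => by simp [h0] at hmul)]
    rcases hWc with e | e <;> rw [e] at hmul <;> interval_cases d <;> omega
  obtain ⟨⟨⟨j1, hj1W⟩, hj1N⟩, hj1o⟩ := exists_prime_orderOf_dvd_card' (G := NS) 2 h2N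
  rw [Subgroup.orderOf_mk, Subgroup.orderOf_mk] at hj1o
  have hj11 : j1 ≠ 1 := fun e => by rw [e, orderOf_one] at hj1o; omega
  have hj1j : j1 * j1 = 1 := by rw [← pow_two, ← hj1o, pow_orderOf_eq_one]
  have normS0 : ∀ {g : W}, g ∈ NS → ∀ p ∈ S0, (g : G) * p * (g : G)⁻¹ ∈ S0 := fun {g} hg p hp => by
    obtain ⟨p', hp', rfl⟩ := hp
    exact ⟨g * p' * g⁻¹, (Subgroup.mem_normalizer_iff.mp hg p').mp hp', rfl⟩
  obtain ⟨κ, hκ0, hκ⟩ := hline j1 (normS0 hj1N)
  have hκ4 : κ.1 = 4 := by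
    have hsq : c ^ (κ.1 * κ.1) = c ^ 1 := by
      rw [← (pow_conj_of hκ).1, hj1j, one_mul, inv_one, mul_one, pow_one]
    rw [pow_eq_pow_iff_modEq, hco, Nat.ModEq] at hsq
    refine (neg_five κ hsq).resolve_left fun e => ?_
    rw [e, pow_one] at hκ
    exact noinv j1 hj1j hj11 (conj_fix_iff.mp hκ)
  -- an element squaring `f`
  obtain ⟨d, hd, hdf⟩ := h.doubled_z hf hfo
  have hdW : ∀ p ∈ W, d * p * d⁻¹ ∈ W := fun p hp => by
    refine mem_cent.mpr (?_ : Commute (d * p * d⁻¹) f)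
    have h2 : Commute (d * p * d⁻¹) (f ^ 2) := by
      show d * p * d⁻¹ * f ^ 2 = f ^ 2 * (d * p * d⁻¹)
      rw [← hdf, show d * p * d⁻¹ * (d * f * d⁻¹) = d * (p * f) * d⁻¹ by group, mem_cent.mp hp]; group
    have := h2.pow_right 3
    rwa [← pow_mul, show 2 * 3 = 5 + 1 from rfl, pow_add, hf5, one_mul, pow_one] at this
  set Sd := S0.map (MulAut.conj d).toMonoidHom
  have hSdW : Sd ≤ W := by rintro _ ⟨p, hp, rfl⟩; exact hdW p (hS0W hp)
  obtain ⟨T, hT⟩ := ((hS0p.map (MulAut.conj d).toMonoidHom).of_equiv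
    (Subgroup.subgroupOfEquivOfLe hSdW).symm).exists_le_sylow
  obtain ⟨m, hm⟩ := MulAction.exists_smul_eq W T S
  set g : G := (m : G) * d with hgdef
  have hgS : ∀ p ∈ S0, g * p * g⁻¹ ∈ S0 := by
    intro p hp
    have hp' : d * p * d⁻¹ ∈ Sd := ⟨p, hp, rfl⟩
    have hmem : m * ⟨d * p * d⁻¹, hSdW hp'⟩ * m⁻¹ ∈ (S : Subgroup W) := by
      rw [← hm, Sylow.coe_subgroup_smul]
      exact Subgroup.smul_mem_pointwise_smul _ (MulAut.conj m) _ (hT hp')
    refine ⟨_, hmem, ?_⟩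
    show (m : G) * (d * p * d⁻¹) * (m : G)⁻¹ = g * p * g⁻¹
    rw [hgdef]; group
  have hgf : g * f * g⁻¹ = f ^ 2 := by
    rw [hgdef, show (m : G) * d * f * ((m : G) * d)⁻¹ = m * (d * f * d⁻¹) * (m : G)⁻¹ by group, hdf, ← conj_pow,
      conj_fix_iff.mpr (mem_cent.mp m.2)]
  obtain ⟨β, hβ0, hβ⟩ := hline g hgS
  have hu : ∃ u : G, u * c = c * u ∧ u * f * u⁻¹ = f⁻¹ := by
    have hf4 : g * g * f * (g * g)⁻¹ = f⁻¹ := by
      rw [(pow_conj_of hgf).1, eq_inv_iff_mul_eq_one, ← pow_succ]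
      exact hf5
    have hred : ∀ r : ℕ, r % 5 = 1 → c ^ r = c := fun r hr => by
      conv_lhs => rw [← Nat.div_add_mod r 5, pow_add, pow_mul, hc5, one_pow, one_mul, hr, pow_one]
    rcases square_five β hβ0 with e | e
    · exact ⟨g * g, conj_fix_iff.mp ((pow_conj_of hβ).1.trans (hred _ e)), hf4⟩
    · refine ⟨j1 * (g * g), conj_fix_iff.mp ?_, ?_⟩
      · rw [show j1 * (g * g) * c * (j1 * (g * g))⁻¹ = j1 * (g * g * c * (g * g)⁻¹) * j1⁻¹ by group,
          (pow_conj_of hβ).1, ← conj_pow, hκ, ← pow_mul]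
        refine hred _ ?_
        rw [hκ4, mul_comm]; exact e
      · rw [show j1 * (g * g) * f * (j1 * (g * g))⁻¹ = j1 * (g * g * f * (g * g)⁻¹) * j1⁻¹ by group, hf4]
        exact conj_fix_iff.mpr (Commute.inv_right (show Commute j1 f from mem_cent.mp hj1W))
  obtain ⟨u, huc, huf⟩ := hu
  obtain ⟨k, hk⟩ := invol_of_inverting hfo huf
  exact noinv (u ^ k) (by rw [← pow_two, ← hk, pow_orderOf_eq_one])
    (fun e => by rw [e, orderOf_one] at hk; omega) (Commute.pow_left huc k)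

end Base

end CfsgLib.SuzType
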