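import Cfsg.Agent.Lib.SuzType.Second.Outer
import Cfsg.Agent.Lib.HallJankoType.Local

/-!
Groups of Suzuki sporadic type: centralisers of the elements of order five and seven of `C(t, w)`.
-/

set_option autoImplicit false
set_option linter.unusedSectionVars false
set_option linter.unusedVariables false

universe u

namespace CfsgLib.SuzType

open Cfsg CfsgLargeExtra
open CfsgLib.HallJankoType (mem_cent conj_fix_iff)

theorem seven_residues : ∀ k : Fin 7, k.1 ^ 9 % 7 = 1 → k.1 = 1 ∨ k.1 = 2 ∨ k.1 = 4 := by decide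

theorem five_residues : ∀ k : Fin 5, k.1 ≠ 0 → k.1 * k.1 * k.1 * k.1 % 5 = 1 := by decide

variable {G : Type u} [Group G] [Finite G] {z x t w : G} {Q : Subgroup G}

theorem conj_pow_pow {n b : G} {k : ℕ} (h : n * b * n⁻¹ = b ^ k) :
    ∀ j : ℕ, n ^ j * b * (n ^ j)⁻¹ = b ^ (k ^ j)
  | 0 => by simp
  | j + 1 => by
    rw [show n ^ (j + 1) * b * (n ^ (j + 1))⁻¹ = n * (n ^ j * b * (n ^ j)⁻¹) * n⁻¹ by rw [pow_succ']; group,
      conj_pow_pow h j, ← conj_pow, h, ← pow_mul, pow_succ']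

/-- A rotation of the four group. -/
theorem Cfg.exists_rot (C : Cfg z x t w) : ∃ r, r * t * r⁻¹ = w ∧ r * w * r⁻¹ = t * w ∧ r ^ 3 = 1 := by
  obtain ⟨-, -, -, -, -, -, htt, -, hww, htw, -⟩ := C.rels
  obtain ⟨s, a, b, R, R', π, π', M, M', F, r, hr, hw⟩ := C
  obtain ⟨h3, -, -, -, hp⟩ := hr
  rw [hw] at hp
  refine ⟨r, hw, ?_, h3⟩
  rw [← inv_eq_of_mul_eq_one_right hp, mul_inv_rev, inv_eq_of_mul_eq_one_right htt, inv_eq_of_mul_eq_one_right hww, htw]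

namespace Base

variable (B : Base z x t w Q)
include B

/-- Conjugation by a rotation normalises `K`. -/
theorem rot_mem_K {r c : G} (hr1 : r * t * r⁻¹ = w) (hr2 : r * w * r⁻¹ = t * w) (hc : c ∈ Kg t w) :
    r * c * r⁻¹ ∈ Kg t w := by
  obtain ⟨hct, hcw⟩ := mem_Kg.mp hc
  have h1 : Commute (r * c * r⁻¹) w := by
    show r * c * r⁻¹ * w = w * (r * c * r⁻¹)
    rw [← hr1, show r * c * r⁻¹ * (r * t * r⁻¹) = r * (c * t) * r⁻¹ by group, hct]; group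
  have h2 : Commute (r * c * r⁻¹) (t * w) := by
    show r * c * r⁻¹ * (t * w) = t * w * (r * c * r⁻¹)
    rw [← hr2, show r * c * r⁻¹ * (r * w * r⁻¹) = r * (c * w) * r⁻¹ by group, hcw]; group
  have := h2.mul_right h1
  rw [mul_assoc t w w, B.cfg.rels.2.2.2.2.2.2.2.2.1, mul_one] at this
  exact mem_Kg.mpr ⟨this, h1⟩

/-- A rotation normalising a given subgroup of order five or seven. -/
theorem exists_rot_norm {s : ℕ} (hs : s = 5 ∨ s = 7) {b : G} (hb : b ∈ Kg t w) (hbo : orderOf b = s) :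
    ∃ ρ, ρ * t * ρ⁻¹ = w ∧ ρ * w * ρ⁻¹ = t * w ∧ ∃ k, k < s ∧ k ≠ 0 ∧ ρ * b * ρ⁻¹ = b ^ k := by
  obtain ⟨r, hr1, hr2, -⟩ := B.cfg.exists_rot
  obtain ⟨m, hm, hmb⟩ := B.conj_K hs hb hbo (B.rot_mem_K hr1 hr2 hb)
    (by rw [show r * b * r⁻¹ = MulAut.conj r b from rfl, MulEquiv.orderOf_eq, hbo])
  obtain ⟨k, hk, hke⟩ := zpowers_cases hbo hmb
  obtain ⟨hmt, hmw⟩ := mem_Kg.mp hm
  refine ⟨m * r, ?_, ?_, k, hk, fun h0 => ?_, by rw [← hke]; group⟩
  · rw [show m * r * t * (m * r)⁻¹ = m * (r * t * r⁻¹) * m⁻¹ by group, hr1, conj_fix_iff.mpr hmw]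
  · rw [show m * r * w * (m * r)⁻¹ = m * (r * w * r⁻¹) * m⁻¹ by group, hr2]
    exact conj_fix_iff.mpr (Commute.mul_right hmt hmw)
  · rw [h0, pow_zero, show m * (r * b * r⁻¹) * m⁻¹ = (m * r) * b * (m * r)⁻¹ by group, conj_eq_one_iff] at hke
    rw [hke, orderOf_one] at hbo
    rcases hs with rfl | rfl <;> omega

/-- A rotation centralising a given element of order five or seven of `K`. -/
theorem exists_rot_cent {s : ℕ} (hs : s = 5 ∨ s = 7) {b : G} (hb : b ∈ Kg t w) (hbo : orderOf b = s) :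
    ∃ c, c * t * c⁻¹ = w ∧ c * w * c⁻¹ = t * w ∧ c * b = b * c := by
  obtain ⟨-, -, -, -, -, -, htt, -, hww, htw, -⟩ := B.cfg.rels
  obtain ⟨ρ, h1, h2, k, hk, hk0, hke⟩ := B.exists_rot_norm hs hb hbo
  have hbs : b ^ s = 1 := hbo ▸ pow_orderOf_eq_one b
  have h3 : ρ * (t * w) * ρ⁻¹ = t := by
    rw [show ρ * (t * w) * ρ⁻¹ = ρ * t * ρ⁻¹ * (ρ * w * ρ⁻¹) by group, h1, h2, ← mul_assoc, ← htw, mul_assoc, hww,
      mul_one]
  have ht3 : ρ ^ 3 * t * (ρ ^ 3)⁻¹ = t ∧ ρ ^ 3 * w * (ρ ^ 3)⁻¹ = w := by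
    constructor
    · rw [show ρ ^ 3 * t * (ρ ^ 3)⁻¹ = ρ * (ρ * (ρ * t * ρ⁻¹) * ρ⁻¹) * ρ⁻¹ by simp [pow_succ, mul_assoc], h1, h2, h3]
    · rw [show ρ ^ 3 * w * (ρ ^ 3)⁻¹ = ρ * (ρ * (ρ * w * ρ⁻¹) * ρ⁻¹) * ρ⁻¹ by simp [pow_succ, mul_assoc], h2, h3, h1]
  rcases hs with rfl | rfl
  · refine ⟨ρ ^ 4, ?_, ?_, conj_fix_iff.mp ?_⟩
    · rw [show ρ ^ 4 * t * (ρ ^ 4)⁻¹ = ρ * (ρ ^ 3 * t * (ρ ^ 3)⁻¹) * ρ⁻¹ by rw [pow_succ' ρ 3]; group, ht3.1, h1]
    · rw [show ρ ^ 4 * w * (ρ ^ 4)⁻¹ = ρ * (ρ ^ 3 * w * (ρ ^ 3)⁻¹) * ρ⁻¹ by rw [pow_succ' ρ 3]; group, ht3.2, h2]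
    · rw [conj_pow_pow hke 4]
      conv_rhs => rw [← pow_one b]
      rw [pow_eq_pow_iff_modEq, hbo, Nat.ModEq, show k ^ 4 = k * k * k * k by ring]
      exact five_residues ⟨k, hk⟩ hk0
  · have hρK : ρ ^ 3 ∈ Kg t w := mem_Kg.mpr ⟨conj_fix_iff.mp ht3.1, conj_fix_iff.mp ht3.2⟩
    have h9 := B.norm_pow_K (Or.inr ⟨rfl, rfl⟩) hb hbo hρK
      (by rw [conj_pow_pow hke 3]; exact pow_mem (Subgroup.mem_zpowers b) _)
    rw [← pow_mul, ← conj_fix_iff, conj_pow_pow hke] at h9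
    conv_rhs at h9 => rw [← pow_one b]
    rw [pow_eq_pow_iff_modEq, hbo, Nat.ModEq] at h9
    obtain ⟨n, hn, hnb⟩ := B.squared_K hb hbo
    obtain ⟨hnt, hnw⟩ := mem_Kg.mp hn
    have hn2 : n * n * b * (n * n)⁻¹ = b ^ (2 * 2) := (pow_conj_of hnb).1
    obtain ⟨m, hm, hmb⟩ : ∃ m, m ∈ Kg t w ∧ m * (b ^ k) * m⁻¹ = b := by
      rcases seven_residues ⟨k, hk⟩ h9 with e | e | e <;> simp only at e <;> subst e
      · exact ⟨1, one_mem _, by simp⟩
      · refine ⟨n * n, mul_mem hn hn, ?_⟩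
        rw [← conj_pow, hn2, ← pow_mul, show 2 * 2 * 2 = 1 + 7 from rfl, pow_add, hbs, pow_one, mul_one]
      · refine ⟨n, hn, ?_⟩
        rw [← conj_pow, hnb, ← pow_mul, show 2 * 4 = 1 + 7 from rfl, pow_add, hbs, pow_one, mul_one]
    obtain ⟨hmt, hmw⟩ := mem_Kg.mp hm
    refine ⟨m * ρ, ?_, ?_, conj_fix_iff.mp ?_⟩
    · rw [show m * ρ * t * (m * ρ)⁻¹ = m * (ρ * t * ρ⁻¹) * m⁻¹ by group, h1, conj_fix_iff.mpr hmw]
    · rw [show m * ρ * w * (m * ρ)⁻¹ = m * (ρ * w * ρ⁻¹) * m⁻¹ by group, h2]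
      exact conj_fix_iff.mpr (Commute.mul_right hmt hmw)
    · rw [show m * ρ * b * (m * ρ)⁻¹ = m * (ρ * b * ρ⁻¹) * m⁻¹ by group, hke, hmb]

/-- The order of the centraliser. -/
theorem card_cent {s : ℕ} (hs : s = 5 ∨ s = 7) {b : G} (hb : b ∈ Kg t w) (hbo : orderOf b = s) :
    Nat.card (Subgroup.centralizer ({b} : Set G)) = 12 * s ∨ Nat.card (Subgroup.centralizer ({b} : Set G)) = 60 * s := by
  haveI : Fact s.Prime := ⟨by rcases hs with rfl | rfl <;> norm_num⟩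
  obtain ⟨-, -, -, -, -, -, htt, ht1, hww, htw, hw1, hwt, -⟩ := B.cfg.rels
  obtain ⟨c, hc1, hc2, hcb⟩ := B.exists_rot_cent hs hb hbo
  obtain ⟨hbt, hbw⟩ := mem_Kg.mp hb
  let W := Subgroup.centralizer ({b} : Set G)
  let gg : W := ⟨b, mem_cent.mpr rfl⟩
  let aa : W := ⟨t, mem_cent.mpr hbt.symm⟩
  let bb : W := ⟨w, mem_cent.mpr hbw.symm⟩
  refine (HallJankoType.card_of_four_mod (W := W) (p := s) (by rcases hs with rfl | rfl <;> norm_num) gg aa bb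
    ⟨c, mem_cent.mpr hcb⟩ (by rw [Subgroup.orderOf_mk, hbo]) (fun v => Subtype.ext (mem_cent.mp v.2))
    (Subtype.ext htt) (Subtype.ext hww) (Subtype.ext htw) (fun e => ht1 (congrArg Subtype.val e))
    (fun e => hw1 (congrArg Subtype.val e)) (fun e => hwt (congrArg Subtype.val e).symm) ?_ (Subtype.ext hc1)
    (Subtype.ext hc2)).1
  intro v
  constructor
  · intro hv
    obtain ⟨i, u, hu, e⟩ := B.cent_t hs hb hbo (congrArg Subtype.val hv) (mem_cent.mp v.2)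
    have hcomm : (v : G) = u * b ^ i := by rw [e]; exact (B.cfg.InW_central hu (zpow_mem hb i)).symm
    refine ⟨i, ?_⟩
    rcases hu with rfl | rfl | rfl | rfl
    · exact Or.inl (Subtype.ext (by simpa [gg] using hcomm))
    · exact Or.inr (Or.inl (Subtype.ext (by simpa [gg, aa] using hcomm)))
    · exact Or.inr (Or.inr (Or.inl (Subtype.ext (by simpa [gg, bb] using hcomm))))
    · exact Or.inr (Or.inr (Or.inr (Subtype.ext (by simpa [gg, aa, bb] using hcomm))))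
  · rintro ⟨i, rfl | rfl | rfl | rfl⟩ <;> refine Subtype.ext ?_ <;>
      simp only [Subgroup.coe_mul, Subgroup.coe_zpow, gg, aa, bb]
    · exact (show Commute b t from hbt).zpow_left i
    · exact Commute.mul_left (Commute.refl t) ((show Commute b t from hbt).zpow_left i)
    · exact Commute.mul_left htw.symm ((show Commute b t from hbt).zpow_left i)
    · exact Commute.mul_left (Commute.mul_left (Commute.refl t) htw.symm) ((show Commute b t from hbt).zpow_left i)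

/-- An element of odd order of `C(t)` lies in `K`. -/
theorem odd_mem_K {c : G} (hc : c * t = t * c) (ho : Odd (orderOf c)) : c ∈ Kg t w := by
  obtain ⟨-, -, -, -, -, -, htt, -⟩ := B.cfg.rels
  refine mem_Kg.mpr ⟨hc, conj_fix_iff.mp ?_⟩
  rcases B.norm_w hc with e | e
  · exact e
  exfalso
  have h2 : c * c * w * (c * c)⁻¹ = w := by
    rw [show c * c * w * (c * c)⁻¹ = c * (c * w * c⁻¹) * c⁻¹ by group, e,
      show c * (t * w) * c⁻¹ = c * t * c⁻¹ * (c * w * c⁻¹) by group, conj_fix_iff.mpr hc, e, ← mul_assoc, htt, one_mul]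
  obtain ⟨j, hj⟩ := ho
  have h3 : Commute ((c * c) ^ j) w := (show Commute (c * c) w from conj_fix_iff.mp h2).pow_left j
  have hc1 : c * (c * c) ^ j = 1 := by rw [← pow_two, ← pow_mul, ← pow_succ', ← hj, pow_orderOf_eq_one]
  have hcw : Commute c w := by
    have := h3.inv_left
    rwa [inv_eq_of_mul_eq_one_left hc1] at this
  exact B.cfg.rels.2.2.2.2.2.2.2.1 (mul_eq_right.mp (e.symm.trans (conj_fix_iff.mpr hcw)))

end Base

end CfsgLib.SuzType
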