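import Mathlib

/-!
`PSL₂` over a field of characteristic different from two has no elementary abelian subgroup of order eight.
-/

set_option autoImplicit false

open Matrix

namespace CfsgLib.SuzType.PSLEight

variable {F : Type*} [Field F]

theorem sq_one (h2 : (2 : F) ≠ 0) (A : SpecialLinearGroup (Fin 2) F) (h : A * A = 1) :
    A ∈ Subgroup.center (SpecialLinearGroup (Fin 2) F) := by
  have hm : (A : Matrix (Fin 2) (Fin 2) F) * (A : Matrix (Fin 2) (Fin 2) F) = 1 := congrArg Subtype.val h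
  have hd : (A : Matrix (Fin 2) (Fin 2) F).det = 1 := A.2
  rw [det_fin_two] at hd
  have e := fun i j => congrFun (congrFun hm i) j
  have e00 := e 0 0
  have e01 := e 0 1
  have e10 := e 1 0
  simp [mul_apply, Fin.sum_univ_two] at e00 e01 e10
  set a := (A : Matrix (Fin 2) (Fin 2) F) 0 0 with ha
  set b := (A : Matrix (Fin 2) (Fin 2) F) 0 1 with hb
  set c := (A : Matrix (Fin 2) (Fin 2) F) 1 0 with hc
  set d := (A : Matrix (Fin 2) (Fin 2) F) 1 1 with hd'
  have hs : a * (a + d) = 2 := by linear_combination hd + e00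
  have hne : a + d ≠ 0 := fun h0 => h2 (by rw [← hs, h0, mul_zero])
  have hb0 : b = 0 := (mul_eq_zero.mp (show b * (a + d) = 0 by linear_combination e01)).resolve_right hne
  have hc0 : c = 0 := (mul_eq_zero.mp (show c * (a + d) = 0 by linear_combination e10)).resolve_right hne
  have ha2 : a * a = 1 := by rw [hb0] at e00; linear_combination e00
  have hda : d = a := by
    rw [hb0] at hd
    have : a * (d - a) = 0 := by linear_combination hd - ha2
    have ha0 : a ≠ 0 := fun h0 => by rw [h0] at ha2; simp at ha2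
    exact sub_eq_zero.mp ((mul_eq_zero.mp this).resolve_left ha0)
  refine Matrix.SpecialLinearGroup.mem_center_iff.mpr ⟨a, by rw [Fintype.card_fin, pow_two, ha2], ?_⟩
  ext i j
  fin_cases i <;> fin_cases j <;> simp [← ha, ← hb, ← hc, ← hd', hb0, hc0, hda]

theorem center_cases {M : SpecialLinearGroup (Fin 2) F} (hM : M ∈ Subgroup.center (SpecialLinearGroup (Fin 2) F))
    {N : SpecialLinearGroup (Fin 2) F} (hN : N ∈ Subgroup.center (SpecialLinearGroup (Fin 2) F)) (hM1 : M ≠ 1)
    (hN1 : N ≠ 1) : M = N := by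
  obtain ⟨r, hr, hrM⟩ := Matrix.SpecialLinearGroup.mem_center_iff.mp hM
  obtain ⟨q, hq, hqN⟩ := Matrix.SpecialLinearGroup.mem_center_iff.mp hN
  rw [Fintype.card_fin, pow_two] at hr hq
  have key : ∀ u : F, u * u = 1 → u = 1 ∨ u = -1 := fun u hu => mul_self_eq_one_iff.mp hu
  rcases key r hr with rfl | rfl
  · exact absurd (Subtype.ext (by rw [← hrM]; simp)) hM1
  rcases key q hq with rfl | rfl
  · exact absurd (Subtype.ext (by rw [← hqN]; simp)) hN1
  exact Subtype.ext (hrM.symm.trans hqN)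

/-- Three pairwise commuting involutions generate at most a four group. -/
theorem no_eight (h2 : (2 : F) ≠ 0) {u v y : ProjectiveSpecialLinearGroup (Fin 2) F} (hu : u * u = 1)
    (hv : v * v = 1) (hy : y * y = 1) (hu1 : u ≠ 1) (hv1 : v ≠ 1) (hy1 : y ≠ 1) (huv : u * v = v * u)
    (huy : u * y = y * u) (hvy : v * y = y * v) (hne : u ≠ v) (hyu : y ≠ u) (hyv : y ≠ v) : y = u * v := by
  induction u using QuotientGroup.induction_on with | H A => ?_
  induction v using QuotientGroup.induction_on with | H B => ?_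
  induction y using QuotientGroup.induction_on with | H C => ?_
  set Z := Subgroup.center (SpecialLinearGroup (Fin 2) F) with hZ
  have mk1 : ∀ X : SpecialLinearGroup (Fin 2) F, (X : ProjectiveSpecialLinearGroup (Fin 2) F) = 1 ↔ X ∈ Z :=
    fun X => QuotientGroup.eq_one_iff X
  have hsq : ∀ {X : SpecialLinearGroup (Fin 2) F}, (X : ProjectiveSpecialLinearGroup (Fin 2) F) * X = 1 →
      (X : ProjectiveSpecialLinearGroup (Fin 2) F) ≠ 1 → X * X ∈ Z ∧ X * X ≠ 1 := fun {X} h h1 =>
    ⟨(mk1 _).mp h, fun e => h1 ((mk1 _).mpr (sq_one h2 X e))⟩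
  have anti : ∀ {X Y : SpecialLinearGroup (Fin 2) F}, (X : ProjectiveSpecialLinearGroup (Fin 2) F) * X = 1 →
      (Y : ProjectiveSpecialLinearGroup (Fin 2) F) * Y = 1 → (X : ProjectiveSpecialLinearGroup (Fin 2) F) ≠ 1 →
      (Y : ProjectiveSpecialLinearGroup (Fin 2) F) ≠ 1 → (X : ProjectiveSpecialLinearGroup (Fin 2) F) ≠ Y →
      X * Y ≠ Y * X := by
    intro X Y hX hY hX1 hY1 hXY e
    obtain ⟨cX, nX⟩ := hsq hX hX1
    obtain ⟨cY, nY⟩ := hsq hY hY1
    have h : X * Y * (X * Y) = 1 := by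
      have hm := center_cases cX cY nX nY
      rw [show X * Y * (X * Y) = X * (Y * X) * Y by group, ← e, show X * (X * Y) * Y = X * X * (Y * Y) by group, ← hm]
      by_contra hne
      exact nX ((mul_eq_left (a := X * X)).mp (center_cases (mul_mem cX cX) cX hne nX))
    have hc := (mk1 _).mpr (sq_one h2 _ h)
    rw [QuotientGroup.mk_mul] at hc
    exact hXY ((eq_inv_of_mul_eq_one_left hc).trans (inv_eq_of_mul_eq_one_right hY))
  have zel : ∀ {X Y : SpecialLinearGroup (Fin 2) F}, (X : ProjectiveSpecialLinearGroup (Fin 2) F) * Y =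
      (Y : ProjectiveSpecialLinearGroup (Fin 2) F) * X → X * Y * X⁻¹ * Y⁻¹ ∈ Z := fun {X Y} h => (mk1 _).mp (by
    simp only [QuotientGroup.mk_mul, QuotientGroup.mk_inv]
    rw [h, mul_inv_cancel_right, mul_inv_cancel])
  have huv2 : (A : ProjectiveSpecialLinearGroup (Fin 2) F) * B * ((A : ProjectiveSpecialLinearGroup (Fin 2) F) * B) = 1 := by
    rw [mul_assoc, ← mul_assoc (B : ProjectiveSpecialLinearGroup (Fin 2) F), ← huv, mul_assoc, hv, mul_one, hu]
  have huv1 : (A : ProjectiveSpecialLinearGroup (Fin 2) F) * B ≠ 1 := fun e =>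
    hne ((eq_inv_of_mul_eq_one_left e).trans (inv_eq_of_mul_eq_one_right hv))
  have aAC := anti hu hy hu1 hy1 hyu.symm
  have aBC := anti hv hy hv1 hy1 hyv.symm
  have m1 := zel huy
  have m2 := zel hvy
  have n1 : A * C * A⁻¹ * C⁻¹ ≠ 1 := fun e => aAC (mul_inv_eq_iff_eq_mul.mp (mul_inv_eq_one.mp e))
  have n2 : B * C * B⁻¹ * C⁻¹ ≠ 1 := fun e => aBC (mul_inv_eq_iff_eq_mul.mp (mul_inv_eq_one.mp e))
  have hm := center_cases m1 m2 n1 n2
  have hmm : A * C * A⁻¹ * C⁻¹ * (A * C * A⁻¹ * C⁻¹) = 1 := by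
    by_contra h
    exact n1 (mul_eq_left.mp (center_cases (mul_mem m1 m1) m1 h n1))
  have hcomm : A * B * C = C * (A * B) := by
    have hA : A * C * A⁻¹ = A * C * A⁻¹ * C⁻¹ * C := by group
    have hB : B * C * B⁻¹ = A * C * A⁻¹ * C⁻¹ * C := by rw [hm]; group
    obtain ⟨m, hmdef⟩ : ∃ m, m = A * C * A⁻¹ * C⁻¹ := ⟨_, rfl⟩
    rw [← hmdef] at hA hB hmm m1
    calc A * B * C = A * (B * C * B⁻¹) * B := by group
      _ = A * m * C * B := by rw [hB]; group
      _ = m * (A * C * A⁻¹) * A * B := by rw [Subgroup.mem_center_iff.mp m1 A]; group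
      _ = m * m * C * (A * B) := by rw [hA]; group
      _ = C * (A * B) := by rw [hmm, one_mul]
  by_contra hfin
  refine anti (X := A * B) (Y := C) ?_ hy ?_ hy1 ?_ hcomm
  · rw [QuotientGroup.mk_mul]; exact huv2
  · rw [QuotientGroup.mk_mul]; exact huv1
  · rw [QuotientGroup.mk_mul]; exact fun e => hfin e.symm

end CfsgLib.SuzType.PSLEight
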