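import Cfsg.Agent.Lib.CIT.Main
import Cfsg.Agent.Lib.SuzType.Second.L34Local
import Cfsg.Agent.Lib.SuzType.Second.PSLEight
import Cfsg.Agent.Lib.InvolutionDihedralEight

/-!
A recognition of `PSL₃` over four elements: one class of involutions with centralisers two-groups, and an elementary
abelian group of order eight in a non-abelian Sylow two-subgroup.
-/

set_option autoImplicit false
set_option linter.unusedSectionVars false
set_option linter.unusedVariables false
set_option linter.style.haveILetI false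

universe u

namespace CfsgLib.SuzType.L34

open Subgroup
open CfsgLib.CIT

variable {H : Type u} [Group H] [Finite H]

theorem pow_four_five : ∀ r : ZMod 5, r ≠ 0 → r * (r * (r * r)) = 1 := by decide

theorem mem_sylow {p : ℕ} (T : Sylow p H) {D : Subgroup H} (hD : IsPGroup p D)
    (hn : ∀ a ∈ T, a ∈ normalizer (D : Set H)) : D ≤ T := by
  have h := IsPGroup.to_sup_of_normal_right' T.isPGroup' hD hn
  rw [← T.is_maximal' h le_sup_left]
  exact le_sup_right

theorem mem_normalizer_of_conj {T : Subgroup H} {g : H} (h : ∀ a ∈ T, g * a * g⁻¹ ∈ T) :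
    g ∈ normalizer (T : Set H) := by
  refine mem_normalizer_iff.mpr fun a => ⟨h a, fun hga => ?_⟩
  obtain ⟨⟨b, hb⟩, e⟩ := Finite.surjective_of_injective
    (f := fun q : T => (⟨g * q * g⁻¹, h q q.2⟩ : T))
    (fun p q e => Subtype.ext (mul_left_cancel (mul_right_cancel (congrArg Subtype.val e)))) ⟨_, hga⟩
  exact (mul_left_cancel (mul_right_cancel (congrArg Subtype.val e)) : b = a) ▸ hb

/-- A subgroup of odd order normalised by a four group is trivial. -/
theorem odd_triv (hC : IsCIT H) {D : Subgroup H} (hD : Odd (Nat.card D)) {u v : H} (hu : orderOf u = 2)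
    (hv : orderOf v = 2) (huv : u * v = v * u) (hne : u ≠ v) (hnu : ∀ o ∈ D, u * o * u⁻¹ ∈ D)
    (hnv : ∀ o ∈ D, v * o * v⁻¹ ∈ D) : D = ⊥ := by
  refine (Subgroup.eq_bot_iff_forall D).mpr fun o ho => ?_
  have hodd : ∀ q ∈ D, Odd (orderOf q) := fun q hq => hD.of_dvd_nat (Subgroup.orderOf_dvd_natCard _ hq)
  have hsq : ∀ {i : H}, orderOf i = 2 → i * i = 1 := fun {i} hi => by rw [← pow_two, ← hi, pow_orderOf_eq_one]
  have inv : ∀ i : H, orderOf i = 2 → (∀ q ∈ D, i * q * i⁻¹ ∈ D) → i * o * i⁻¹ = o⁻¹ := fun i hi hn =>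
    CfsgLib.InvolutionDihedralEight.inverts_of_fpf (hsq hi) hn (fun q hq e => hC.fpf (hodd q hq) (k := 1)
      (by rw [pow_one, pow_two, hsq hi]) (fun h => by rw [h, orderOf_one] at hi; omega)
      (mul_inv_eq_iff_eq_mul.mp e).symm) o ho
  have huv2 : orderOf (u * v) = 2 := orderOf_eq_prime (by
      rw [pow_two, show u * v * (u * v) = u * (v * u) * v by group, ← huv, ← mul_assoc, hsq hu, one_mul, hsq hv])
    fun h => hne ((eq_inv_of_mul_eq_one_left h).trans (inv_eq_of_mul_eq_one_right (hsq hv)))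
  have h3 := inv (u * v) huv2 fun q hq => by
    rw [show u * v * q * (u * v)⁻¹ = u * (v * q * v⁻¹) * u⁻¹ by group]
    exact hnu _ (hnv q hq)
  rw [show u * v * o * (u * v)⁻¹ = u * (v * o * v⁻¹) * u⁻¹ by group, inv v hv hnv,
    show u * o⁻¹ * u⁻¹ = (u * o * u⁻¹)⁻¹ by group, inv u hu hnu, inv_inv] at h3
  refine eq_one_of_odd_pow_two (hodd o ho) (k := 1) ?_
  rw [pow_one, pow_two]
  nth_rewrite 1 [h3]
  exact inv_mul_cancel o

theorem exists_invol {D : Subgroup H} (h : ¬ Odd (Nat.card D)) : ∃ i ∈ D, orderOf i = 2 := by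
  obtain ⟨⟨i, hi⟩, hio⟩ := exists_prime_orderOf_dvd_card' (G := D) 2 (even_iff_two_dvd.mp (Nat.not_odd_iff_even.mp h))
  exact ⟨i, hi, by rwa [Subgroup.orderOf_mk] at hio⟩

/-- The recognition. -/
theorem recognise (hC : IsCIT H) (T : Sylow 2 H) (hone : ∀ i j : H, orderOf i = 2 → orderOf j = 2 → IsConj i j)
    (hgen : (T : Subgroup H) ≤ closure {a | a ∈ (T : Subgroup H) ∧ a * a = 1})
    (hcube : ∀ g : H, (∀ a ∈ T, g * a * g⁻¹ ∈ T) → g ^ 3 ∈ T) {u v e f : H} (hu : u ∈ T) (hv : v ∈ T) (he : e ∈ T)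
    (hf : f ∈ T) (hcu : ∀ a ∈ T, a * u = u * a) (ou : orderOf u = 2) (ov : orderOf v = 2) (oe : orderOf e = 2)
    (huv : u ≠ v) (hev : e * v = v * e) (heu : e ≠ u) (hev' : e ≠ v) (heuv : e ≠ u * v) (hef : e * f ≠ f * e) :
    L34Type H := by
  classical
  haveI : Fact (Nat.Prime 2) := ⟨Nat.prime_two⟩
  have hsq : ∀ {i : H}, orderOf i = 2 → i * i = 1 := fun {i} hi => by rw [← pow_two, ← hi, pow_orderOf_eq_one]
  have cuv : u * v = v * u := (hcu v hv).symm
  set M : Subgroup H := normalClosure {u} with hMdef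
  haveI : M.Normal := normalClosure_normal
  have huM : u ∈ M := subset_normalClosure (Set.mem_singleton u)
  have all_inv : ∀ N : Subgroup H, N.Normal → ∀ i ∈ N, orderOf i = 2 → ∀ j, orderOf j = 2 → j ∈ N := by
    intro N hN i hi hio j hjo
    obtain ⟨g, rfl⟩ := isConj_iff.mp (hone i j hio hjo)
    exact hN.conj_mem i hi g
  have T_le : ∀ N : Subgroup H, N.Normal → ∀ i ∈ N, orderOf i = 2 → (T : Subgroup H) ≤ N := by
    intro N hN i hi hio
    refine hgen.trans ((closure_le N).mpr ?_)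
    rintro a ⟨-, ha⟩
    by_cases h1 : a = 1
    · rw [h1]; exact one_mem N
    · exact all_inv N hN i hi hio a (orderOf_eq_prime (by rw [pow_two, ha]) h1)
  have hTM : (T : Subgroup H) ≤ M := T_le M inferInstance u huM ou
  have hmin : ∀ N : Subgroup H, N.Normal → N ≠ ⊥ → M ≤ N := by
    intro N hN hN1
    by_cases hodd : Odd (Nat.card N)
    · exact absurd (odd_triv hC hodd ou ov cuv huv (fun o ho => hN.conj_mem o ho u) fun o ho => hN.conj_mem o ho v) hN1
    · obtain ⟨i, hi, hio⟩ := exists_invol hodd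
      exact normalClosure_le_normal (Set.singleton_subset_iff.mpr (all_inv N hN i hi hio u ou))
  have hcent : ∀ i : H, orderOf i = 2 → Nat.card (centralizer ({i} : Set H) : Subgroup H) = Nat.card T ∧
      centralizer ({i} : Set H) ≤ M := by
    intro i hi
    obtain ⟨g, hg⟩ := isConj_iff.mp (hone u i ou hi)
    have hTu : (T : Subgroup H) = centralizer ({u} : Set H) :=
      (T.is_maximal' (hC u ou) fun a ha => mem_centralizer_singleton_iff.mpr (hcu a ha)).symm
    have hci : ∀ a, a ∈ centralizer ({i} : Set H) ↔ g⁻¹ * a * g ∈ (T : Subgroup H) := by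
      intro a
      rw [hTu, mem_centralizer_singleton_iff, mem_centralizer_singleton_iff, ← hg]
      constructor <;> intro h
      · rw [show g⁻¹ * a * g * u = g⁻¹ * (a * (g * u * g⁻¹)) * g by group, h]; group
      · rw [show a * (g * u * g⁻¹) = g * (g⁻¹ * a * g * u) * g⁻¹ by group, h]; group
    refine ⟨Nat.card_congr ⟨fun a => ⟨g⁻¹ * a * g, (hci a).mp a.2⟩, fun a => ⟨g * a * g⁻¹, (hci _).mpr (by
        rw [show g⁻¹ * (g * a * g⁻¹) * g = (a : H) by group]; exact a.2)⟩,
      fun a => Subtype.ext (by group), fun a => Subtype.ext (by group)⟩, fun a ha => ?_⟩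
    have := (inferInstance : M.Normal).conj_mem _ (hTM ((hci a).mp ha)) g
    rwa [show g * (g⁻¹ * a * g) * g⁻¹ = a by group] at this
  -- simplicity
  let Nrm : Subgroup H → Prop := fun A => A ≤ M ∧ ∀ m ∈ M, ∀ a ∈ A, m * a * m⁻¹ ∈ A
  have key : ∀ A : Subgroup H, Nrm A → A ≠ ⊥ → A = M := by
    have hex : ∃ n, ∃ A : Subgroup H, A ≠ ⊥ ∧ Nrm A ∧ Nat.card A = n :=
      ⟨_, M, fun h => by rw [h, mem_bot] at huM; rw [huM, orderOf_one] at ou; omega,
        ⟨le_rfl, fun m hm a ha => (inferInstance : M.Normal).conj_mem a ha m⟩, rfl⟩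
    obtain ⟨A0, hA1, ⟨hA2, hA3⟩, hA4⟩ := Nat.find_spec hex
    have hleast : ∀ A : Subgroup H, Nrm A → A ≠ ⊥ → Nat.card A0 ≤ Nat.card A := fun A h h' =>
      hA4 ▸ Nat.find_le ⟨A, h', h, rfl⟩
    suffices hA0 : A0 = M by
      intro A h h'
      exact eq_of_le_of_card_ge h.1 (hA0 ▸ hleast A h h')
    by_cases hnor : A0.Normal
    · exact le_antisymm hA2 (hmin A0 hnor hA1)
    exfalso
    obtain ⟨a0, ha0, g, hg⟩ : ∃ a0 ∈ A0, ∃ g : H, g * a0 * g⁻¹ ∉ A0 := by
      by_contra hh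
      push Not at hh
      exact hnor ⟨hh⟩
    set A1 := A0.map (MulAut.conj g).toMonoidHom with hA1def
    have hmem : ∀ a, a ∈ A1 ↔ g⁻¹ * a * g ∈ A0 := fun a => by
      constructor
      · rintro ⟨b, hb, rfl⟩
        simpa [mul_assoc] using hb
      · exact fun h => ⟨_, h, by simp [mul_assoc]⟩
    have h1M : A1 ≤ M := fun a ha => by
      have := (inferInstance : M.Normal).conj_mem _ (hA2 ((hmem a).mp ha)) g
      rwa [show g * (g⁻¹ * a * g) * g⁻¹ = a by group] at this
    have h1n : Nrm A1 := ⟨h1M, fun m hm a ha => (hmem _).mpr (by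
      rw [show g⁻¹ * (m * a * m⁻¹) * g = g⁻¹ * m * g * (g⁻¹ * a * g) * (g⁻¹ * m * g)⁻¹ by group]
      refine hA3 _ ?_ _ ((hmem a).mp ha)
      have := (inferInstance : M.Normal).conj_mem m hm g⁻¹
      rwa [inv_inv] at this)⟩
    have h1ne : A1 ≠ ⊥ := fun h => by
      have : g * a0 * g⁻¹ ∈ A1 := (hmem _).mpr (by rw [show g⁻¹ * (g * a0 * g⁻¹) * g = a0 by group]; exact ha0)
      rw [h, mem_bot] at this
      exact hg (this ▸ one_mem A0)
    have hdis : A0 ⊓ A1 = ⊥ := by
      by_contra hne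
      have hle := hleast _ ⟨inf_le_left.trans hA2, fun m hm a ha => ⟨hA3 m hm a ha.1, h1n.2 m hm a ha.2⟩⟩ hne
      have he' := eq_of_le_of_card_ge inf_le_left hle
      have hle1 : A0 ≤ A1 := inf_eq_left.mp he'
      have := eq_of_le_of_card_ge hle1 (le_of_eq (Subgroup.card_map_of_injective (MulAut.conj g).injective))
      exact hg (this.symm ▸ (hmem _).mpr (by rw [show g⁻¹ * (g * a0 * g⁻¹) * g = a0 by group]; exact ha0))
    have hcomm : ∀ a ∈ A0, ∀ b ∈ A1, a * b = b * a := fun a ha b hb => by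
      have h : a * b * a⁻¹ * b⁻¹ ∈ A0 ⊓ A1 := by
        refine Subgroup.mem_inf.mpr ⟨?_, mul_mem (h1n.2 a (hA2 ha) b hb) (inv_mem hb)⟩
        rw [show a * b * a⁻¹ * b⁻¹ = a * (b * a⁻¹ * b⁻¹) by group]
        exact mul_mem ha (hA3 b (h1M hb) _ (inv_mem ha))
      rw [hdis, mem_bot] at h
      exact mul_inv_eq_iff_eq_mul.mp (mul_inv_eq_one.mp h)
    have hvM : v ∈ M := hTM hv
    have heven : ¬ Odd (Nat.card A1) := fun hodd =>
      h1ne (odd_triv hC hodd ou ov cuv huv (h1n.2 u huM) (h1n.2 v hvM))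
    obtain ⟨i, hi, hio⟩ := exists_invol heven
    have hA0two : IsPGroup 2 A0 :=
      (hC i hio).to_le fun a ha => mem_centralizer_singleton_iff.mpr (hcomm a ha i hi)
    have hcore : A0 ≤ (T : Subgroup H).normalCore := by
      intro a ha k
      set Ak := A0.map (MulAut.conj k).toMonoidHom
      refine mem_sylow T (hA0two.map _) (fun q hq => mem_normalizer_of_conj ?_)
        (show k * a * k⁻¹ ∈ Ak from ⟨a, ha, rfl⟩)
      rintro _ ⟨b, hb, rfl⟩
      refine ⟨k⁻¹ * q * k * b * (k⁻¹ * q * k)⁻¹, hA3 _ ?_ b hb, ?_⟩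
      · have := (inferInstance : M.Normal).conj_mem q (hTM hq) k⁻¹
        rwa [inv_inv] at this
      · simp only [MulEquiv.coe_toMonoidHom, MulAut.conj_apply]
        group
    obtain ⟨i', hi', hio'⟩ : ∃ i ∈ (T : Subgroup H).normalCore, orderOf i = 2 :=
      exists_orderOf_two_mem (T.isPGroup'.to_le (normalCore_le _)) fun h => hA1 (le_bot_iff.mp (h ▸ hcore))
    have hTn : ∀ g, ∀ a ∈ T, g * a * g⁻¹ ∈ T := fun g a ha =>
      normalCore_le _ ((normalCore_normal _).conj_mem a (T_le _ (normalCore_normal _) i' hi' hio' ha) g)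
    obtain ⟨k, rfl⟩ := isConj_iff.mp (hone u e ou oe)
    apply hef
    have := hcu _ (hTn k⁻¹ f hf)
    calc k * u * k⁻¹ * f = k * (u * (k⁻¹ * f * k⁻¹⁻¹)) * k⁻¹ := by group
      _ = k * (k⁻¹ * f * k⁻¹⁻¹ * u) * k⁻¹ := by rw [this]
      _ = f * (k * u * k⁻¹) := by group
  haveI : Nontrivial M := ⟨⟨⟨u, huM⟩, 1, fun h => by
    have := congrArg Subtype.val h; simp only [OneMemClass.coe_one] at this; rw [this, orderOf_one] at ou; omega⟩⟩
  haveI : IsSimpleGroup M := ⟨fun N hN => by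
    by_cases h : N = ⊥
    · exact Or.inl h
    · right
      have := key (N.map M.subtype) ⟨map_subtype_le N, by
        rintro m hm _ ⟨a, ha, rfl⟩
        exact ⟨⟨m, hm⟩ * a * ⟨m, hm⟩⁻¹, hN.conj_mem a ha _, rfl⟩⟩
        fun h' => h ((map_eq_bot_iff_of_injective _ M.subtype_injective).mp h')
      refine map_injective M.subtype_injective ?_
      rw [this, ← MonoidHom.range_eq_map, range_subtype]⟩
  have hna : ∃ a b : M, a * b ≠ b * a := ⟨⟨e, hTM he⟩, ⟨f, hTM hf⟩, fun h => hef (congrArg Subtype.val h)⟩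
  rcases CIT.classification hna (hC.subgroup M) with ⟨hTI, -⟩ | hlin | hL
  · exfalso
    obtain ⟨hce, hceM⟩ := hcent e oe
    have hle : centralizer ({e} : Set H) ≤ (T : Subgroup H) := by
      intro g hg
      have hge := mem_centralizer_singleton_iff.mp hg
      have := hTI (T.subtype hTM) ⟨g, hceM hg⟩ ⟨e, hTM he⟩ he ?_ ?_
      · rw [mem_normalizer_iff] at this
        have hgn : g ∈ normalizer ((T : Subgroup H) : Set H) := mem_normalizer_of_conj fun a ha =>
          (this ⟨a, hTM ha⟩).mp ha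
        obtain ⟨n, hn⟩ := hC e oe ⟨g, hg⟩
        have hz : IsPGroup 2 (zpowers g) := (hC e oe).to_le (zpowers_le.mpr hg)
        have h := IsPGroup.to_sup_of_normal_right' hz T.isPGroup' (zpowers_le.mpr hgn)
        exact T.is_maximal' h le_sup_right ▸ (le_sup_left : zpowers g ≤ zpowers g ⊔ T) (mem_zpowers g)
      · show g⁻¹ * e * g ∈ T
        rw [mul_assoc, ← hge, inv_mul_cancel_left]
        exact he
      · intro h
        have := congrArg Subtype.val h
        simp only [OneMemClass.coe_one] at this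
        rw [this, orderOf_one] at oe; omega
    have heq := eq_of_le_of_card_ge hle (le_of_eq hce.symm)
    exact hef (mem_centralizer_singleton_iff.mp (heq.symm ▸ hf : f ∈ centralizer ({e} : Set H))).symm
  · exfalso
    obtain ⟨F, iF, iFt, hF, ⟨ψ⟩⟩ := hlin
    have h2 : (2 : F) ≠ 0 := by
      intro h
      have hodd : Odd (Nat.card F) := by
        rw [Nat.card_eq_fintype_card]
        rcases hF with h9 | ⟨h7, hp, -⟩
        · rw [h9]; decide
        · exact hp.odd_of_ne_two (by omega)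
      have hd : addOrderOf (1 : F) ∣ 2 := addOrderOf_dvd_of_nsmul_eq_zero (by rw [nsmul_eq_mul, mul_one]; exact_mod_cast h)
      have := Nat.eq_one_of_dvd_coprimes (Nat.coprime_two_right.mpr hodd) (addOrderOf_dvd_natCard (1 : F)) hd
      exact one_ne_zero (AddMonoid.addOrderOf_eq_one_iff.mp this)
    let U : M := ⟨u, huM⟩
    let V : M := ⟨v, hTM hv⟩
    let E : M := ⟨e, hTM he⟩
    have s2 : ∀ (p : H) (hp : p ∈ M), p * p = 1 → ψ ⟨p, hp⟩ * ψ ⟨p, hp⟩ = 1 := fun p hp h => by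
      rw [← map_mul, show (⟨p, hp⟩ * ⟨p, hp⟩ : M) = 1 from Subtype.ext h, map_one]
    have n1 : ∀ (p : H) (hp : p ∈ M), p ≠ 1 → ψ ⟨p, hp⟩ ≠ 1 := fun p hp h h' =>
      h (congrArg Subtype.val (ψ.injective (h'.trans (map_one ψ).symm)))
    have ne : ∀ {i : H}, orderOf i = 2 → i ≠ 1 := fun {i} hi h => by rw [h, orderOf_one] at hi; omega
    have := PSLEight.no_eight h2 (u := ψ U) (v := ψ V) (y := ψ E) (s2 _ _ (hsq ou)) (s2 _ _ (hsq ov))
      (s2 _ _ (hsq oe)) (n1 _ _ (ne ou)) (n1 _ _ (ne ov)) (n1 _ _ (ne oe))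
      (by rw [← map_mul, ← map_mul]; exact congrArg ψ (Subtype.ext cuv))
      (by rw [← map_mul, ← map_mul]; exact congrArg ψ (Subtype.ext (hcu e he).symm))
      (by rw [← map_mul, ← map_mul]; exact congrArg ψ (Subtype.ext hev.symm))
      (fun h => huv (congrArg Subtype.val (ψ.injective h))) (fun h => heu (congrArg Subtype.val (ψ.injective h)))
      (fun h => hev' (congrArg Subtype.val (ψ.injective h)))
    rw [← map_mul] at this
    exact heuv (congrArg Subtype.val (ψ.injective this))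
  -- the index
  obtain ⟨F, iF, iFt, h4, ⟨ψ⟩⟩ := hL
  have hMtop : ∀ g : H, g ∈ M := by
    let q := QuotientGroup.mk' M
    have hq3 : ∀ g : H, q g ^ 3 = 1 := by
      intro g
      have hg : g ∈ normalizer ((T : Subgroup H) : Set H) ⊔ M := by
        rw [show normalizer ((T : Subgroup H) : Set H) ⊔ M = ⊤ from by
          have := Sylow.normalizer_sup_eq_top' T hTM
          simpa using this]
        trivial
      obtain ⟨n, hn, m, hm, rfl⟩ := (mem_sup_of_normal_right (t := M)).mp hg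
      rw [map_mul, show q m = 1 from (QuotientGroup.eq_one_iff m).mpr hm, mul_one, ← map_pow]
      exact (QuotientGroup.eq_one_iff _).mpr (hTM (hcube n fun a ha => (mem_normalizer_iff.mp hn a).mp ha))
    have hcardM : Nat.card M = 20160 := card ψ h4
    haveI : Fact (Nat.Prime 5) := ⟨by norm_num⟩
    obtain ⟨a, ha⟩ := exists_prime_orderOf_dvd_card' (G := M) 5 (by rw [hcardM]; norm_num)
    obtain ⟨j, hjo, hja⟩ := (exists_normalizing ψ h4).1 ha
    intro g
    -- conjugate into the normaliser of `⟨a⟩`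
    have hga : orderOf (⟨g * a * g⁻¹, (inferInstance : M.Normal).conj_mem a a.2 g⟩ : M) = 5 := by
      rw [Subgroup.orderOf_mk, show g * (a : H) * g⁻¹ = MulAut.conj g (a : H) from rfl, MulEquiv.orderOf_eq,
        Subgroup.orderOf_coe, ha]
    obtain ⟨m, hm⟩ := conj_zpowers (by rw [hcardM]; norm_num) ha hga
    obtain ⟨i, hi⟩ := mem_zpowers_iff.mp hm
    set n : H := (m : H) * g with hndef
    have hna' : n * (a : H) * n⁻¹ = (a : H) ^ i := by
      have := congrArg Subtype.val hi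
      simp only [Subgroup.coe_zpow, Subgroup.coe_mul, Subgroup.coe_inv] at this
      rw [this, hndef]; group
    suffices hn : n ∈ M by
      have := mul_mem (inv_mem m.2) hn
      rwa [hndef, inv_mul_cancel_left] at this
    have hc : n ^ 4 * (a : H) * (n ^ 4)⁻¹ = a := by
      rw [show n ^ 4 * (a : H) * (n ^ 4)⁻¹ = n * (n * (n * (n * a * n⁻¹) * n⁻¹) * n⁻¹) * n⁻¹ by
        simp [pow_succ, mul_assoc], hna', ← conj_zpow, hna', ← zpow_mul, ← conj_zpow, hna', ← zpow_mul, ← conj_zpow,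
        hna', ← zpow_mul]
      conv_rhs => rw [← zpow_one (a : H)]
      rw [zpow_eq_zpow_iff_modEq, Subgroup.orderOf_coe, ha]
      have h0 : ¬ (5 : ℤ) ∣ i := by
        rintro ⟨k, rfl⟩
        rw [zpow_mul, show ((a : H) ^ (5 : ℤ)) = 1 by
          rw [show (5 : ℤ) = ((5 : ℕ) : ℤ) from rfl, zpow_natCast, ← Subgroup.coe_pow, ← ha, pow_orderOf_eq_one,
            OneMemClass.coe_one], one_zpow] at hna'
        rw [conj_eq_one_iff, OneMemClass.coe_eq_one] at hna'
        rw [hna', orderOf_one] at ha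
        omega
      rw [← ZMod.intCast_eq_intCast_iff]
      push_cast
      exact pow_four_five _ fun h => h0 ((ZMod.intCast_zmod_eq_zero_iff_dvd _ 5).mp h)
    set c := n ^ 4 with hcdef
    have hjM : c * (j : H) * c⁻¹ ∈ M := (inferInstance : M.Normal).conj_mem _ j.2 c
    have hja' : (j : H) * a * (j : H)⁻¹ = (a : H)⁻¹ := congrArg Subtype.val hja
    have hjj : (j : H) * j = 1 := by
      rw [← pow_two, ← Subgroup.coe_pow, ← hjo, pow_orderOf_eq_one, OneMemClass.coe_one]
    have hd : (⟨c * (j : H) * c⁻¹ * j, mul_mem hjM j.2⟩ : M) * a = a * ⟨c * (j : H) * c⁻¹ * j, mul_mem hjM j.2⟩ := by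
      refine Subtype.ext (mul_inv_eq_iff_eq_mul.mp ?_)
      show c * (j : H) * c⁻¹ * j * a * (c * (j : H) * c⁻¹ * j)⁻¹ = a
      have hc' : c⁻¹ * (a : H) * c = a := by
        conv_lhs => rw [← hc]
        group
      rw [show c * (j : H) * c⁻¹ * j * a * (c * (j : H) * c⁻¹ * j)⁻¹ =
        c * j * c⁻¹ * (j * a * (j : H)⁻¹) * c * (j : H)⁻¹ * c⁻¹ by group, hja',
        show c * j * c⁻¹ * (a : H)⁻¹ * c * (j : H)⁻¹ * c⁻¹ = c * (j * (c⁻¹ * a * c) * (j : H)⁻¹)⁻¹ * c⁻¹ by group,
        hc', hja', inv_inv, hc]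
    obtain ⟨l, hl⟩ := mem_zpowers_iff.mp (cent_eq ψ h4 (Or.inl rfl) ha hd)
    have hl' : (a : H) ^ l = c * (j : H) * c⁻¹ * j := congrArg Subtype.val hl
    have hcj : c * (j : H) * c⁻¹ = (a : H) ^ l * j := by rw [hl', mul_assoc (c * (j : H) * c⁻¹), hjj, mul_one]
    set c' := (a : H) ^ (-3 * l) * c with hc'def
    have hfix : c' * j = j * c' := by
      have hjl : (j : H) * (a : H) ^ (3 * l) = (a : H) ^ (-(3 * l)) * j := by
        rw [← mul_inv_eq_iff_eq_mul, ← conj_zpow, hja', inv_zpow, zpow_neg]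
      have h5 : (a : H) ^ (-5 * l) = 1 := by
        rw [zpow_mul, zpow_neg, show ((a : H) ^ (5 : ℤ)) = 1 by
          rw [show (5 : ℤ) = ((5 : ℕ) : ℤ) from rfl, zpow_natCast, ← Subgroup.coe_pow, ← ha, pow_orderOf_eq_one,
            OneMemClass.coe_one], inv_one, one_zpow]
      refine mul_inv_eq_iff_eq_mul.mp ?_
      calc c' * j * c'⁻¹ = (a : H) ^ (-3 * l) * (c * j * c⁻¹) * ((a : H) ^ (-3 * l))⁻¹ := by rw [hc'def]; group
        _ = (a : H) ^ (-3 * l) * ((a : H) ^ l * (j * (a : H) ^ (3 * l))) := by rw [hcj]; group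
        _ = (a : H) ^ (-5 * l) * j := by rw [hjl, ← mul_assoc, ← mul_assoc, ← zpow_add, ← zpow_add]; ring_nf
        _ = j := by rw [h5, one_mul]
    obtain ⟨k, hk⟩ := hC (j : H) (by rw [Subgroup.orderOf_coe, hjo]) ⟨c', mem_centralizer_singleton_iff.mpr hfix⟩
    have hk' : c' ^ 2 ^ k = 1 := congrArg Subtype.val hk
    have hqc : q c' = q n := by
      rw [hc'def, map_mul, show q ((a : H) ^ (-3 * l)) = 1 from (QuotientGroup.eq_one_iff _).mpr (zpow_mem a.2 _),
        one_mul, hcdef, map_pow, pow_succ, hq3, one_mul]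
    refine (QuotientGroup.eq_one_iff n).mp (orderOf_eq_one_iff.mp ?_)
    refine Nat.eq_one_of_dvd_coprimes ((by norm_num : Nat.Coprime 3 2).pow_right k) ?_ (orderOf_dvd_of_pow_eq_one
      (show q n ^ 2 ^ k = 1 by rw [← hqc, ← map_pow, hk', map_one]))
    exact orderOf_dvd_of_pow_eq_one (hq3 n)
  exact ⟨F, iF, iFt, h4, ⟨((MulEquiv.subgroupCongr ((Subgroup.eq_top_iff' M).mpr hMtop)).trans Subgroup.topEquiv).symm.trans ψ⟩⟩

end CfsgLib.SuzType.L34
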