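import Cfsg.Agent.Lib.SuzType.Second.FiveZ
import Cfsg.Agent.Lib.SuzType.Second.CentT
import Cfsg.Agent.Lib.SuzType.Second.L34Recog
import Cfsg.Agent.Lib.EppoAlmost.List
import Cfsg.Agent.Lib.InvolutionDihedralEight

/-!
Groups of Suzuki sporadic type: the order of the centraliser of an element of order five of `C(z)`.
-/

set_option autoImplicit false
set_option linter.unusedSectionVars false
set_option linter.unusedVariables false

universe u

namespace CfsgLib.SuzType

open Cfsg QuadraticMap CfsgLargeExtra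
open CfsgLib.HallJankoType (mem_cent conj_fix_iff)

theorem five_fixed : ∀ k : Fin 5, k.1 ^ 5 % 5 = k.1 := by decide

/-- A Sylow subgroup of prime order. -/
theorem sylow_of_cent {G : Type u} [Group G] [Finite G] {p : ℕ} [hp : Fact p.Prime] {f : G} (hf : orderOf f = p)
    (h2 : ¬ p ^ 2 ∣ Nat.card (Subgroup.centralizer ({f} : Set G))) (P : Sylow p G) (hfP : f ∈ P) :
    (P : Subgroup G) = Subgroup.zpowers f := by
  refine le_antisymm ?_ (Subgroup.zpowers_le.mpr hfP)
  by_contra hle
  haveI := P.isPGroup'.isNilpotent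
  have hlt : (Subgroup.zpowers f).subgroupOf (P : Subgroup G) < ⊤ := lt_top_iff_ne_top.mpr fun e => hle
    (Subgroup.subgroupOf_eq_top.mp e)
  obtain ⟨⟨n, hnP⟩, hnN, hnS⟩ := SetLike.exists_of_lt (normalizerCondition_of_isNilpotent _ hlt)
  have hnf : n * f * n⁻¹ ∈ Subgroup.zpowers f :=
    (Subgroup.mem_normalizer_iff.mp hnN ⟨f, hfP⟩).mp (Subgroup.mem_zpowers f)
  obtain ⟨k, hk, hke⟩ := zpowers_cases hf hnf
  obtain ⟨a, ha⟩ := P.isPGroup' ⟨n, hnP⟩
  have hn1 : n ^ p ^ a = 1 := congrArg Subtype.val ha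
  have hk1 : k ≡ 1 [MOD p] := by
    have h := conj_pow_pow hke (p ^ a)
    rw [hn1, one_mul, inv_one, mul_one] at h
    nth_rewrite 1 [← pow_one f] at h
    rw [pow_eq_pow_iff_modEq, hf] at h
    have hfer : ∀ j : ℕ, k ^ p ^ j ≡ k [MOD p] := fun j => by
      induction j with
      | zero => rw [pow_zero, pow_one]
      | succ j ih =>
        rw [pow_succ, pow_mul]
        refine (ih.pow p).trans ?_
        rw [← ZMod.natCast_eq_natCast_iff, Nat.cast_pow, ZMod.pow_card]
    exact ((hfer a).symm.trans h.symm)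
  have hcomm : n * f = f * n := by
    refine conj_fix_iff.mp (hke.trans ?_)
    conv_rhs => rw [← pow_one f]
    rw [pow_eq_pow_iff_modEq, hf]
    exact hk1
  set L : Subgroup G := (P : Subgroup G) ⊓ Subgroup.centralizer ({f} : Set G)
  obtain ⟨e, he⟩ := IsPGroup.iff_card.mp (P.isPGroup'.to_le (inf_le_left : L ≤ (P : Subgroup G)))
  have hlt2 : Nat.card (Subgroup.zpowers f) < Nat.card L := by
    have hle' : Subgroup.zpowers f ≤ L := le_inf (Subgroup.zpowers_le.mpr hfP) (Subgroup.zpowers_le.mpr (mem_cent.mpr rfl))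
    refine lt_of_le_of_ne (Nat.le_of_dvd Nat.card_pos (Subgroup.card_dvd_of_le hle')) fun e' => ?_
    have := Subgroup.eq_of_le_of_card_ge hle' (le_of_eq e'.symm)
    exact hnS (show n ∈ Subgroup.zpowers f from this.symm ▸ (⟨hnP, mem_cent.mpr hcomm⟩ : n ∈ L))
  rw [Nat.card_zpowers, hf, he] at hlt2
  have he2 : 2 ≤ e := by
    by_contra hh
    have : p ^ e ≤ p ^ 1 := Nat.pow_le_pow_right hp.out.pos (by omega)
    rw [pow_one] at this
    omega
  exact h2 ((pow_dvd_pow p he2).trans (he ▸ Subgroup.card_dvd_of_le (inf_le_right : L ≤ _)))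

variable {G : Type u} [Group G] [Finite G] {z x t w : G} {Q : Subgroup G} {π : G → V} {M : G → O6}

namespace Base

variable (B : Base z x t w Q) (h : ST z Q π M)
include B h

/-- The elements of order five of `K` are not conjugate into `C(z)`. -/
theorem not_conj_K {b g : G} (hb : b ∈ Kg t w) (hbo : orderOf b = 5) (hg : g * b * g⁻¹ * z = z * (g * b * g⁻¹)) :
    False := by
  obtain ⟨-, -, -, -, -, -, htt, ht1, -⟩ := B.cfg.rels
  have hgo : orderOf (g * b * g⁻¹) = 5 := by
    rw [show g * b * g⁻¹ = MulAut.conj g b from rfl, MulEquiv.orderOf_eq, hbo]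
  have := (h.shape hg hgo).invol_conj h hgo (y := g * t * g⁻¹)
    (by rw [show g * t * g⁻¹ * (g * t * g⁻¹) = g * (t * t) * g⁻¹ by group, htt]; group)
    (fun e => ht1 (conj_eq_one_iff.mp e))
    (by rw [show g * t * g⁻¹ * (g * b * g⁻¹) = g * (t * b) * g⁻¹ by group, ← (mem_Kg.mp hb).1]; group)
  exact B.cfg.types.2.2.1 (this.trans (isConj_iff.mpr ⟨g⁻¹, by group⟩))

/-- Five divides the order of the centraliser twice. -/
theorem sq_dvd_cent {f : G} (hf : f * z = z * f) (hfo : orderOf f = 5) :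
    25 ∣ Nat.card (Subgroup.centralizer ({f} : Set G)) := by
  by_contra hn
  haveI : Fact (Nat.Prime 5) := ⟨by norm_num⟩
  obtain ⟨b, hb, hbo⟩ := B.exists_mem_K (Or.inl rfl : (5 : ℕ) = 5 ∨ (5 : ℕ) = 7)
  obtain ⟨P, hP⟩ :=
    (IsPGroup.of_card (G := Subgroup.zpowers f) (n := 1) (by rw [Nat.card_zpowers, hfo, pow_one])).exists_le_sylow
  obtain ⟨R, hR⟩ :=
    (IsPGroup.of_card (G := Subgroup.zpowers b) (n := 1) (by rw [Nat.card_zpowers, hbo, pow_one])).exists_le_sylow
  have hPe := sylow_of_cent hfo (by norm_num; exact hn) P (hP (Subgroup.mem_zpowers f))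
  obtain ⟨g, hg⟩ := MulAction.exists_smul_eq G R P
  have hmem : g * b * g⁻¹ ∈ Subgroup.zpowers f := by
    rw [← hPe, ← hg, Sylow.coe_subgroup_smul]
    exact Subgroup.smul_mem_pointwise_smul _ (MulAut.conj g) _ (hR (Subgroup.mem_zpowers b))
  obtain ⟨i, hi⟩ := Subgroup.mem_zpowers_iff.mp hmem
  exact B.not_conj_K h hb hbo (g := g) (by rw [← hi]; exact Commute.zpow_left hf i)

/-- The order of the centraliser. -/
theorem card_centZ {f : G} (hf : f * z = z * f) (hfo : orderOf f = 5) :
    Nat.card (Subgroup.centralizer ({f} : Set G)) = 600 ∨ Nat.card (Subgroup.centralizer ({f} : Set G)) = 1800 := by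
  classical
  obtain ⟨δ, hinj, hzr, hδ, hC⟩ := h.shape hf hfo
  let W := Subgroup.centralizer ({f} : Set G)
  let ff : W := ⟨f, mem_cent.mpr rfl⟩
  set N := Subgroup.zpowers ff with hN
  haveI : N.Normal := ⟨fun n hn v => by
    obtain ⟨k, rfl⟩ := Subgroup.mem_zpowers_iff.mp hn
    rw [conj_fix_iff.mpr (Commute.zpow_right (Subtype.ext (mem_cent.mp v.2) : Commute v ff) k)]
    exact hn⟩
  let π' := QuotientGroup.mk' N
  have hff : orderOf ff = 5 := by rw [Subgroup.orderOf_mk, hfo]
  have hNc : Nat.card N = 5 := by rw [hN, Nat.card_zpowers, hff]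
  have hN5 : ∀ v ∈ N, v ^ 5 = 1 := fun v hv => by
    obtain ⟨i, rfl⟩ := Subgroup.mem_zpowers_iff.mp hv
    rw [← zpow_natCast, ← zpow_mul, mul_comm, zpow_mul, zpow_natCast, ← hff, pow_orderOf_eq_one, one_zpow]
  have hodd : ∀ v ∈ N, ∀ k : ℕ, v ^ 2 ^ k = 1 → v = 1 := fun v hv k hk =>
    CIT.eq_one_of_odd_pow_two ((show Odd 5 by decide).of_dvd_nat (orderOf_dvd_of_pow_eq_one (hN5 v hv))) hk
  let ε : DihedralGroup 4 →* W ⧸ N :=
    π'.comp (δ.codRestrict W fun a => mem_cent.mpr (hδ a).2)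
  have hεi : Function.Injective ε := by
    rw [← MonoidHom.ker_eq_bot_iff, Subgroup.eq_bot_iff_forall]
    intro a ha
    refine hinj ?_
    rw [map_one]
    exact congrArg Subtype.val (hodd _ ((QuotientGroup.eq_one_iff _).mp (MonoidHom.mem_ker.mp ha)) 2 (by
      rw [← map_pow, (show ∀ a : DihedralGroup 4, a ^ 2 ^ 2 = 1 by decide +kernel) a, map_one]))
  -- lifting commutations
  have lift : ∀ c y : W, y * y = 1 → π' c * π' y = π' y * π' c → c * y = y * c := by
    intro c y hy e
    have hm : c * y * c⁻¹ * y⁻¹ ∈ N := (QuotientGroup.eq_one_iff _).mp (by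
      show π' (c * y * c⁻¹ * y⁻¹) = 1
      rw [map_mul, map_mul, map_mul, map_inv, map_inv, e, mul_inv_cancel_right, mul_inv_cancel])
    have h5 : (c * y * c⁻¹ * y⁻¹) ^ 5 = 1 := hN5 _ hm
    have hcomm : Commute (c * y * c⁻¹ * y⁻¹) y := by
      obtain ⟨i, hi⟩ := Subgroup.mem_zpowers_iff.mp hm
      rw [← hi]
      exact Commute.zpow_left (Subtype.ext (mem_cent.mp y.2).symm : Commute ff y) i
    have h2 : (c * y * c⁻¹ * y⁻¹) ^ 2 ^ 1 = 1 := by
      have e2 : (c * y * c⁻¹ * y⁻¹ * y) ^ 2 = 1 := by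
        rw [inv_mul_cancel_right, conj_pow, pow_two y, hy, mul_one, mul_inv_cancel]
      rwa [hcomm.mul_pow, pow_two y, hy, mul_one] at e2
    exact mul_inv_eq_iff_eq_mul.mp (mul_inv_eq_one.mp (hodd _ hm 1 h2))
  have hCIT : CIT.IsCIT (W ⧸ N) := by
    intro i hi
    obtain ⟨v, rfl⟩ := QuotientGroup.mk'_surjective N i
    -- an involution over it
    have hv2 : v * v ∈ N := (QuotientGroup.eq_one_iff _).mp (by
      show π' (v * v) = 1
      rw [map_mul, ← pow_two, ← hi, pow_orderOf_eq_one])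
    set y := v ^ 5 with hy
    have hyy : y * y = 1 := by rw [hy, ← pow_add, show 5 + 5 = 2 * 5 from rfl, pow_mul, pow_two]; exact hN5 _ hv2
    have hπy : π' y = π' v := by
      rw [hy, map_pow, show (5 : ℕ) = 2 * 2 + 1 from rfl, pow_add, pow_mul, ← hi, pow_orderOf_eq_one, one_pow, one_mul,
        pow_one]
    have hy1 : (y : G) ≠ 1 := fun e => by
      rw [show y = 1 from Subtype.ext e, map_one] at hπy
      rw [show QuotientGroup.mk' N v = 1 from hπy.symm, orderOf_one] at hi
      omega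
    obtain ⟨g, hg⟩ := isConj_iff.mp ((h.shape hf hfo).invol_conj h hfo (congrArg Subtype.val hyy) hy1 (mem_cent.mp y.2))
    obtain ⟨δy, -, -, hδy, hCy⟩ := (h.conjBy g).shape (f := f) (by rw [hg]; exact (mem_cent.mp y.2).symm) hfo
    rintro ⟨q, hq⟩
    obtain ⟨c, rfl⟩ := QuotientGroup.mk'_surjective N q
    have hcy := congrArg Subtype.val (lift c y hyy (by rw [hπy]; exact mem_cent.mp hq))
    obtain ⟨a, i, e⟩ := hCy (c : G) (by rw [hg]; exact hcy) (mem_cent.mp c.2)
    refine ⟨2, Subtype.ext ?_⟩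
    show π' c ^ 2 ^ 2 = 1
    have hc : c = ⟨δy a, mem_cent.mpr (hδy a).2⟩ * ff ^ i := Subtype.ext (by simpa [ff] using e)
    have h1 : π' (ff ^ i) = 1 := (QuotientGroup.eq_one_iff _).mpr (zpow_mem (Subgroup.mem_zpowers ff) i)
    rw [hc, map_mul, h1, mul_one, ← map_pow,
      show (⟨δy a, mem_cent.mpr (hδy a).2⟩ : W) ^ 2 ^ 2 = 1 from Subtype.ext (by
        rw [SubmonoidClass.coe_pow]
        show δy a ^ 2 ^ 2 = 1
        rw [← map_pow, (show ∀ a : DihedralGroup 4, a ^ 2 ^ 2 = 1 by decide +kernel) a, map_one]), map_one]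
  let zW : W := ⟨z, mem_cent.mpr hf.symm⟩
  have hεz : ε (DihedralGroup.r 2) = π' zW := congrArg π' (Subtype.ext hzr)
  have hεrange : ε.range = Subgroup.centralizer ({π' zW} : Set (W ⧸ N)) := by
    apply le_antisymm
    · rintro _ ⟨a, rfl⟩
      refine mem_cent.mpr ?_
      rw [← hεz, ← map_mul, ← map_mul]
      exact congrArg ε ((show ∀ b : DihedralGroup 4, b * DihedralGroup.r 2 = DihedralGroup.r 2 * b by
        decide +kernel) a)
    · intro v hv
      obtain ⟨c, rfl⟩ := QuotientGroup.mk'_surjective N v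
      have hcz := congrArg Subtype.val (lift c zW (Subtype.ext h.zz) (mem_cent.mp hv))
      obtain ⟨a, i, e⟩ := hC (c : G) hcz (mem_cent.mp c.2)
      refine ⟨a, ?_⟩
      show π' ⟨δ a, _⟩ = π' c
      rw [show c = ⟨δ a, mem_cent.mpr (hδ a).2⟩ * ff ^ i from Subtype.ext (by simpa [ff] using e), map_mul,
        show π' (ff ^ i) = 1 from (QuotientGroup.eq_one_iff _).mpr (zpow_mem (Subgroup.mem_zpowers ff) i), mul_one]
  have hCiso : Nonempty (Subgroup.centralizer ({π' zW} : Set (W ⧸ N)) ≃* DihedralGroup 4) :=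
    ⟨((MonoidHom.ofInjective hεi).trans (MulEquiv.subgroupCongr hεrange)).symm⟩
  have hoz : orderOf (π' zW) = 2 := by
    rw [← hεz, orderOf_injective ε hεi]
    exact orderOf_eq_prime (hp := ⟨Nat.prime_two⟩) (by decide) (by decide)
  have hcard : Nat.card W = 5 * Nat.card (W ⧸ N) := by rw [← hNc, ← N.index_eq_card, N.card_mul_index]
  have h5 : 5 ∣ Nat.card (W ⧸ N) := by
    have := B.sq_dvd_cent h hf hfo
    change 25 ∣ Nat.card W at this
    omega
  rcases CfsgLib.InvolutionDihedralEight.classify (π' zW) hoz hCiso with e | e | e | e | e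
  · exfalso
    have hO : Odd (Nat.card (oddCore (W ⧸ N))) := by
      rw [← Nat.not_even_iff_odd, even_iff_two_dvd]
      exact fun hd => (Nat.prime_two.coprime_iff_not_dvd.mp (CfsgLib.card_pPrimeCore_coprime 2).symm) hd
    haveI : (oddCore (W ⧸ N)).Normal := (inferInstance : (pPrimeCore 2 (W ⧸ N)).Normal)
    have hsr : ε (DihedralGroup.sr 0) * ε (DihedralGroup.r 2) = ε (DihedralGroup.r 2) * ε (DihedralGroup.sr 0) := by
      rw [← map_mul, ← map_mul]; exact congrArg ε (by decide)
    have hbot := L34.odd_triv hCIT hO (u := ε (DihedralGroup.r 2)) (v := ε (DihedralGroup.sr 0))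
      (by rw [hεz, hoz]) (by rw [orderOf_injective ε hεi]; exact orderOf_eq_prime (hp := ⟨Nat.prime_two⟩) (by decide) (by decide))
      hsr.symm (fun e' => absurd (hεi e') (by decide))
      (fun o ho => Subgroup.Normal.conj_mem inferInstance o ho _) (fun o ho => Subgroup.Normal.conj_mem inferInstance o ho _)
    rw [hbot, sup_bot_eq] at e
    have := Nat.card_congr hCiso.some.toEquiv
    rw [DihedralGroup.nat_card, e, Subgroup.card_top] at this
    omega
  · have := Nat.card_congr e.some.toEquiv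
    rw [Nat.card_perm, Nat.card_fin] at this
    rw [this] at h5
    norm_num [Nat.factorial] at h5
  · have := Nat.card_congr e.some.toEquiv
    rw [Nat.card_perm, Nat.card_fin] at this
    norm_num [Nat.factorial] at this
    left
    show Nat.card W = 600
    omega
  · exfalso
    have := Nat.card_congr e.some.toEquiv
    have h2 := SLCard.card_units_mul_card_SL (F := ZMod 2) (n := 3) (by norm_num)
    rw [Matrix.card_GL_field, Fin.prod_univ_three, ZMod.card] at h2
    norm_num [Fin.val_zero, Fin.val_one, Fin.val_two, ZMod.card] at h2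
    rw [this, Nat.card_eq_fintype_card, h2] at h5
    norm_num at h5
  · have := Nat.card_congr e.some.toEquiv
    rw [nat_card_alternatingGroup, Nat.card_fin] at this
    norm_num [Nat.factorial] at this
    right
    show Nat.card W = 1800
    omega

end Base

end CfsgLib.SuzType
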