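import Cfsg.Agent.Lib.SuzType.Second.Transfer

/-!
Groups of Suzuki sporadic type: the group-theoretic content of a frame with a turning element.
-/

set_option autoImplicit false
set_option linter.unusedSectionVars false
set_option linter.unusedVariables false

universe u

namespace CfsgLib.SuzType

open QuadraticMap
open CfsgLargeExtra
open CfsgLib.HallJankoType (mem_cent conj_fix_iff)

theorem small_perp : ∀ v : V, bf e0 v = 0 → bf e1 v = 0 → bf f1 v = 0 → qf v = 0 → v = 0 ∨ v = e0 := by decide +kernel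

theorem basis_eqs : bf e1 d0 = 0 ∧ bf e1 d1 = 0 ∧ bf f1 d0 = 0 ∧ bf f1 d1 = 0 ∧ bf e0 e1 = 0 ∧ bf e0 f1 = 0 ∧
    bf e0 (e1 + f1) = 0 ∧ bf (e1 + f1) d0 = 0 ∧ bf (e1 + f1) d1 = 0 := by decide +kernel

variable {G : Type u} [Group G] [Finite G]

/-- A conjugate of `z`, its point, and the four group `{1, t, w, t w}`. -/
def Cfg (z x t w : G) : Prop :=
  ∃ (s a b : G) (Q Q' : Subgroup G) (π π' : G → V) (M M' : G → O6) (F : Fr z x s t a b Q Q' π π' M M'),
    ∃ r, F.Turn r ∧ r * t * r⁻¹ = w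

theorem HasW.cfg {z y t w : G} {Q : Subgroup G} (h : HasW z Q y t w) : ∃ p, Cfg y p t w := by
  obtain ⟨R, -, p, s, a, b, R', π, π', M, M', F, r, hr, e⟩ := h
  exact ⟨p, s, a, b, R, R', π, π', M, M', F, r, hr, e⟩

namespace Cfg

variable {z x t w : G} (C : Cfg z x t w)
include C

theorem symm : Cfg x z t w := by
  obtain ⟨s, a, b, Q, Q', π, π', M, M', F, r, hr, e⟩ := C
  obtain ⟨s', a', b', π2, M2, F'⟩ := F.exists_symm
  exact ⟨_, _, _, _, _, _, _, _, _, F', r, F.turn_symm F' hr, e⟩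

theorem shift : Cfg z (x * z) t w := by
  obtain ⟨s, a, b, Q, Q', π, π', M, M', F, r, hr, e⟩ := C
  obtain ⟨a', b', π2, π2', M2, M2', F'⟩ := F.exists_shift
  exact ⟨_, _, _, _, _, _, _, _, _, F', r, F.turn_shift F' hr, e⟩

/-- The elementary relations. -/
theorem rels : z * z = 1 ∧ x * x = 1 ∧ z ≠ 1 ∧ x ≠ 1 ∧ x ≠ z ∧ z * x = x * z ∧ t * t = 1 ∧ t ≠ 1 ∧ w * w = 1 ∧
    t * w = w * t ∧ w ≠ 1 ∧ w ≠ t ∧ t * z = z * t ∧ t * x = x * t ∧ w * z = z * w ∧ w * x = x * w := by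
  obtain ⟨s, a, b, Q, Q', π, π', M, M', F, r, hr, rfl⟩ := C
  obtain ⟨-, e2, e3, hco⟩ := F.turn_mem hr
  have ht1 : t ≠ 1 := fun e => F.t_not_Q (e ▸ one_mem _)
  exact ⟨F.pr.h.zz, F.pr.xx, F.pr.h.es.ne, F.pr.x1, F.pr.ne, F.pr.zx, F.tt, ht1, e3, e2,
    fun e => ht1 (conj_eq_one_iff.mp e), hr.2.2.2.1, F.tz, F.tx, (F.co_comm hco).1, (F.co_comm hco).2⟩

/-- The types of the involutions. -/
theorem types : IsConj z x ∧ IsConj z (x * z) ∧ ¬ IsConj z t ∧ IsConj t w ∧ IsConj t (t * w) ∧ ¬ IsConj z (z * t) := by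
  obtain ⟨s, a, b, Q, Q', π, π', M, M', F, r, hr, rfl⟩ := C
  obtain ⟨e1, -, -, -⟩ := F.turn_mem hr
  have hx := F.pr.h.isConj_S F.pr.memS
  refine ⟨hx, ?_, F.t_not_conj, isConj_iff.mpr ⟨r, rfl⟩, ?_, ?_⟩
  · exact hx.trans (isConj_iff.mpr ⟨s, F.s_x⟩)
  · rw [← e1]; exact (isConj_iff.mpr ⟨r, rfl⟩ : IsConj t _).trans (isConj_iff.mpr ⟨r, rfl⟩)
  · have hco := F.co_mul (F.U_mem_co F.pr.zU) F.co_t
    have hzt : z * t * (z * t) = 1 := by
      rw [show z * t * (z * t) = z * (t * z) * t by group, F.tz, ← mul_assoc, F.pr.h.zz, one_mul, F.tt]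
    have h1 : z * t ≠ 1 := fun e => F.t_not_conj (by
      rw [show t = z⁻¹ * (z * t) by group, e, mul_one, inv_eq_of_mul_eq_one_right F.pr.h.zz])
    rw [F.co_type hco hzt h1, zero_add, zero_add, std_facts.2.2.2.2.2.2.2.2.1]
    exact one_ne_zero

theorem comm_w {c : G} (hz : c * z = z * c) (hx : c * x = x * c) (ht : c * t = t * c) : c * w = w * c := by
  obtain ⟨s, a, b, Q, Q', π, π', M, M', F, r, hr, rfl⟩ := C
  exact F.turn_comm hr hz hx ht

theorem comm_x {c : G} (hz : c * z = z * c) (ht : c * t = t * c) (hw : c * w = w * c) : c * x = x * c := by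
  obtain ⟨s, a, b, Q, Q', π, π', M, M', F, r, hr, rfl⟩ := C
  exact F.x_of_w hr hz ht hw

theorem pow_four {c : G} (hz : c * z = z * c) (hx : c * x = x * c) (ht : c * t = t * c) : c ^ 4 = 1 := by
  obtain ⟨s, a, b, Q, Q', π, π', M, M', F, r, hr, rfl⟩ := C
  obtain ⟨A, D, hco, -⟩ := F.co_of_cent hz hx ht
  exact F.co_four_pow hco

theorem image_x {c : G} (hz : c * z = z * c) (ht : c * t = t * c) : c * x * c⁻¹ = x ∨ c * x * c⁻¹ = x * z := by
  obtain ⟨s, a, b, Q, Q', π, π', M, M', F, r, hr, rfl⟩ := C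
  exact (F.point_cases hz ht).2

theorem pow_eight {c : G} (hz : c * z = z * c) (ht : c * t = t * c) : c ^ 8 = 1 := by
  obtain ⟨hzz, -⟩ := C.rels
  have h2 : c * c * x * (c * c)⁻¹ = x := by
    rw [show c * c * x * (c * c)⁻¹ = c * (c * x * c⁻¹) * c⁻¹ by group]
    rcases C.image_x hz ht with e | e
    · rw [e, e]
    · rw [e, show c * (x * z) * c⁻¹ = c * x * c⁻¹ * (c * z * c⁻¹) by group, e, conj_fix_iff.mpr hz, mul_assoc, hzz,
        mul_one]
  rw [show (8 : ℕ) = 2 * 4 from rfl, pow_mul, pow_two]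
  exact C.pow_four (Commute.mul_left hz hz) (conj_fix_iff.mp h2) (Commute.mul_left ht ht)

theorem image_w {c : G} (hz : c * z = z * c) (ht : c * t = t * c) (hx : c * x * c⁻¹ ≠ x) :
    c * w * c⁻¹ = t * w := by
  obtain ⟨s, a, b, Q, Q', π, π', M, M', F, r, hr, rfl⟩ := C
  exact F.outer_w hr hz ht hx

theorem exists_outer : ∃ c, c * z = z * c ∧ c * t = t * c ∧ c * x * c⁻¹ = x * z ∧ c * w * c⁻¹ = t * w := by
  obtain ⟨s, a, b, Q, Q', π, π', M, M', F, r, hr, rfl⟩ := C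
  obtain ⟨c, h1, h2, h3⟩ := F.exists_outer
  exact ⟨c, h1, h2, h3, F.outer_w hr h1 h2 fun e => F.pr.h.es.ne (left_eq_mul.mp (e.symm.trans h3))⟩

/-- The conjugates of `z` central in `C(z, x, t)`. -/
theorem center_cases {y : G} (hyz : y * z = z * y) (hyx : y * x = x * y) (hyt : y * t = t * y) (hy : IsConj z y)
    (hc : ∀ c, c * z = z * c → c * x = x * c → c * t = t * c → c * y = y * c) : y = z ∨ y = x ∨ y = x * z := by
  obtain ⟨s, a, b, Q, Q', π, π', M, M', F, r, hr, rfl⟩ := C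
  obtain ⟨g, hg⟩ := isConj_iff.mp hy
  have hyy : y * y = 1 := hg ▸ (F.pr.h.es.cj g).zz
  have hy1 : y ≠ 1 := hg ▸ (F.pr.h.es.cj g).ne
  obtain ⟨A, D, hco, -⟩ := F.co_of_cent hyz hyx hyt
  have hb := (F.co_type hco hyy hy1).mp hy
  obtain ⟨hqA, hqD⟩ := (F.co_sq hco).mp hyy
  rw [hb, add_zero] at hqA hqD
  obtain ⟨e10, e11, g10, g11, b5, b0f, -⟩ := basis_eqs
  have key : ∀ v : V, bf e0 v = 0 → bf v d0 = 0 → bf v d1 = 0 → bf v A = 0 ∧ bf v D = 0 := by
    intro v hv h0 h1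
    obtain ⟨p, hp⟩ := F.co_exists hv (bf_zero_right e0)
    obtain ⟨q, hq⟩ := F.co_exists (bf_zero_right e0) hv
    have hpt : p * t = t * p := (F.co_commute hp F.co_t).mpr (by simp [bf_zero_left, h0, h1])
    have hqt : q * t = t * q := (F.co_commute hq F.co_t).mpr (by simp [bf_zero_left, h0, h1])
    have c1 := (F.co_commute hp hco).mp (hc p (F.co_comm hp).1 (F.co_comm hp).2 hpt)
    have c2 := (F.co_commute hq hco).mp (hc q (F.co_comm hq).1 (F.co_comm hq).2 hqt)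
    simp only [bf_zero_left, add_zero, zero_add] at c1 c2
    revert c1 c2
    generalize bf v A = i, bf v D = j
    revert i j
    decide
  obtain ⟨-, -, -, -, -, -, -, hA, hD, -, -⟩ := id hco
  obtain ⟨k1, k2⟩ := key e1 b5 e10 e11
  obtain ⟨k3, k4⟩ := key f1 b0f g10 g11
  have hU : y ∈ F.pr.U := F.co_zero hco
    (by rcases small_perp A hA k1 k3 hqA with e | e <;> [exact Or.inl e; exact Or.inr (by rw [e, zero_add])])
    (by rcases small_perp D hD k2 k4 hqD with e | e <;> [exact Or.inl e; exact Or.inr (by rw [e, zero_add])])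
  rcases hU with e | e | e | e
  · exact absurd e hy1
  · exact Or.inl e
  · exact Or.inr (Or.inl e)
  · exact Or.inr (Or.inr (by rw [e, F.pr.zx]))

end Cfg

/-- The base configuration: all conjugates of `z` in `C(z, x, t)` read the same four group. -/
structure Base (z x t w : G) (Q : Subgroup G) : Prop where
  es : ES Q z
  cfg : Cfg z x t w
  self : HasW z Q z t w
  all : ∀ y : G, y * z = z * y → y * x = x * y → y * t = t * y → IsConj z y → HasW z Q y t w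

theorem ST.exists_base {z : G} {Q : Subgroup G} {π : G → V} {M : G → O6} (h : ST z Q π M) :
    ∃ x t w, Base z x t w Q := by
  obtain ⟨g, hg, hne⟩ := h.fused
  have P : Pr z (g * z * g⁻¹) Q (cj g Q) π (fun q => π (g⁻¹ * q * g)) M (fun q => M (g⁻¹ * q * g)) :=
    ⟨h, h.conjBy g, hg, h.symm_mem hg, hne⟩
  obtain ⟨s, hs, hsp, -⟩ := P.exists_s
  obtain ⟨t, ht⟩ := P.exists_typ hs hsp
  obtain ⟨a, b, g', -, F⟩ := P.exists_fr hs hsp ht
  obtain ⟨r, hr⟩ := F.exists_turn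
  exact ⟨g * z * g⁻¹, t, r * t * r⁻¹, h.es, ⟨_, _, _, _, _, _, _, _, _, F, r, hr, rfl⟩,
    ⟨Q, At.self, _, _, _, _, _, _, _, _, _, F, r, hr, rfl⟩,
    fun y h1 h2 h3 h4 => F.hasW_cent At.self ⟨g, rfl, rfl⟩ hr h1 h2 h3 h4⟩

end CfsgLib.SuzType
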