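import Cfsg.Agent.Lib.SuzType.Second.Std

/-!
Groups of Suzuki sporadic type: coordinates on the product of the two parts of a frame.
-/

set_option autoImplicit false
set_option linter.unusedSectionVars false
set_option linter.unusedVariables false

universe u

namespace CfsgLib.SuzType

open QuadraticMap
open CfsgLargeExtra
open CfsgLib.HallJankoType (mem_cent conj_fix_iff)

theorem bf_e0_e0 : bf e0 e0 = 0 := f1_facts.2.2.2.2.2.2.1

theorem qf_e0 : qf e0 = 0 := std_facts.1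

theorem F2_add_self (c : F2) : c + c = 0 := (show ∀ c : F2, c + c = 0 by decide) c

variable {G : Type u} [Group G] [Finite G] {z x s t a b : G} {Q Q' : Subgroup G} {π π' : G → V} {M M' : G → O6}

omit [Finite G] in
theorem uv_cases (i j : F2) (hzz : z * z = 1) (hxx : x * x = 1) (hz1 : z ≠ 1) (hx1 : x ≠ 1) (hne : z ≠ x) :
    ((if i = 0 then 1 else z) * (if j = 0 then 1 else x) = 1 ↔ i = 0 ∧ j = 0) := by
  rcases F2_cases i with rfl | rfl <;> rcases F2_cases j with rfl | rfl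
  · simp
  · simp [hx1]
  · simp [hz1]
  · refine iff_of_false (fun e => hne ?_) (by simp)
    simp only [if_neg (one_ne_zero (α := F2))] at e
    rw [eq_inv_of_mul_eq_one_left e, inv_eq_of_mul_eq_one_right hxx]

namespace Fr

variable (F : Fr z x s t a b Q Q' π π' M M')
include F

omit [Finite G] in
/-- The element `y` has coordinates `A`, `D` modulo `e0`. -/
def Co (_F : Fr z x s t a b Q Q' π π' M M') (y : G) (A D : V) : Prop :=
  ∃ c d, c ∈ Q ∧ c * x = x * c ∧ d ∈ Q' ∧ d * z = z * d ∧ y = c * d ∧ bf e0 A = 0 ∧ bf e0 D = 0 ∧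
    Eqp e0 A (π c) ∧ Eqp e0 D (_F.pr.dl s d)

theorem π_perp {c : G} (hc : c ∈ Q) (hcx : c * x = x * c) : bf e0 (π c) = 0 := by
  rw [bf_comm, ← F.px]; exact (F.pr.comm_x hc).mp hcx

theorem dl_perp' {d : G} (hd : d ∈ Q') (hdz : d * z = z * d) : bf e0 (F.pr.dl s d) = 0 := by
  rw [bf_comm, ← F.px]; exact F.pr.dl_perp F.hs hd hdz

theorem co_mk {c d : G} (hc : c ∈ Q) (hcx : c * x = x * c) (hd : d ∈ Q') (hdz : d * z = z * d) :
    F.Co (c * d) (π c) (F.pr.dl s d) :=
  ⟨c, d, hc, hcx, hd, hdz, rfl, F.π_perp hc hcx, F.dl_perp' hd hdz, Eqp.refl _ _, Eqp.refl _ _⟩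

theorem co_t : F.Co t d0 d1 := by
  obtain ⟨-, -, -, -, -, -, b6, b7, -⟩ := std_facts
  exact ⟨a, b, F.ha, F.hax, F.hb, F.hbz, F.te, b6, b7, F.ca, F.cb⟩

theorem co_congr {y : G} {A A' D D' : V} (h : F.Co y A D) (hA : Eqp e0 A A') (hD : Eqp e0 D D') : F.Co y A' D' := by
  obtain ⟨c, d, h1, h2, h3, h4, h5, h6, h7, h8, h9⟩ := h
  refine ⟨c, d, h1, h2, h3, h4, h5, ?_, ?_, hA.symm.trans h8, hD.symm.trans h9⟩
  · rcases hA with e | e <;> rw [e]
    · exact h6
    · rw [bf_add_right, h6, bf_e0_e0, add_zero]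
  · rcases hD with e | e <;> rw [e]
    · exact h7
    · rw [bf_add_right, h7, bf_e0_e0, add_zero]

theorem co_comm {y : G} {A D : V} (h : F.Co y A D) : y * z = z * y ∧ y * x = x * y := by
  obtain ⟨c, d, hc, hcx, hd, hdz, rfl, -⟩ := h
  exact ⟨Commute.mul_left (F.pr.h.es.comm c hc) hdz, Commute.mul_left hcx (F.pr.h'.es.comm d hd)⟩

/-- Elements of `C(z, x)` trivial on the perpendicular space modulo `e0` have coordinates. -/
theorem exists_co {y : G} (hyz : y * z = z * y) (hyx : y * x = x * y)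
    (h : ∀ v, bf e0 v = 0 → Eqp e0 v ((M y).1 v)) : ∃ A D, F.Co y A D := by
  obtain ⟨c, d, hc, hcx, hd, hdz, rfl⟩ := F.pr.decompose F.hs F.hsp hyz hyx fun v hv => by
    rw [F.px] at hv ⊢
    exact h v (by rw [bf_comm]; exact hv)
  exact ⟨_, _, F.co_mk hc hcx hd hdz⟩

theorem co_exists {A D : V} (hA : bf e0 A = 0) (hD : bf e0 D = 0) : ∃ y, F.Co y A D := by
  obtain ⟨c, hc, rfl⟩ := F.pr.h.π_surj A
  obtain ⟨d, hd, hdz, hv⟩ := F.pr.dl_surj F.hs F.hsp (v := D) (by rw [F.px, bf_comm]; exact hD)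
  refine ⟨c * d, c, d, hc, (F.pr.comm_x hc).mpr (by rw [F.px, bf_comm]; exact hA), hd, hdz, rfl, hA, hD, Eqp.refl _ _,
    F.px ▸ hv⟩

theorem π_U {u : G} (hu : u ∈ F.pr.U) : Eqp e0 0 (π u) := by
  rcases (F.pr.mem_U_iff.mp hu).2 with e | e
  · exact Or.inl e
  · exact Or.inr (by rw [e, F.px, zero_add])

theorem U_Q' {u : G} (hu : u ∈ F.pr.U) : u ∈ Q' ∧ u * z = z * u := F.pr.U_mem' hu

/-- The coordinates are unique modulo `e0`. -/
theorem co_unique {y : G} {A A' D D' : V} (h : F.Co y A D) (h' : F.Co y A' D') : Eqp e0 A A' ∧ Eqp e0 D D' := by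
  obtain ⟨c, d, hc, hcx, hd, hdz, rfl, -, -, eA, eD⟩ := h
  obtain ⟨c', d', hc', hcx', hd', hdz', e, -, -, eA', eD'⟩ := h'
  have e2 : c'⁻¹ * c = d' * d⁻¹ := by
    rw [eq_mul_inv_iff_mul_eq, mul_assoc, e, inv_mul_cancel_left]
  have hu : c'⁻¹ * c ∈ F.pr.U :=
    F.pr.inter (mul_mem (inv_mem hc') hc) (e2 ▸ mul_mem hd' (inv_mem hd))
  obtain ⟨huQ', huz⟩ := F.U_Q' hu
  constructor
  · refine eA.trans (Eqp.trans ?_ eA'.symm)
    have := (Eqp.refl e0 (π c')).add (F.π_U hu)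
    rw [add_zero, ← F.pr.h.π_mul c' hc' _ (mul_mem (inv_mem hc') hc), mul_inv_cancel_left] at this
    exact this.symm
  · refine eD.trans (Eqp.trans ?_ eD'.symm)
    have h1 := F.pr.dl_mul F.hs huQ' huz hd hdz
    have h2 := (F.pr.dl_U F.hs hu).add (Eqp.refl (π x) (F.pr.dl s d))
    rw [zero_add] at h2
    have h3 := h2.trans h1
    rw [show c'⁻¹ * c * d = d' by rw [e2, inv_mul_cancel_right], F.px] at h3
    exact h3

theorem co_zero {y : G} {A D : V} (h : F.Co y A D) (hA : Eqp e0 0 A) (hD : Eqp e0 0 D) : y ∈ F.pr.U := by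
  obtain ⟨c, d, hc, hcx, hd, hdz, rfl, -, -, eA, eD⟩ := h
  refine mul_mem (F.pr.mem_U_iff.mpr ⟨hc, ?_⟩) (F.pr.dl_inj F.hs F.hsp hd hdz (F.px ▸ hD.trans eD))
  rcases hA.trans eA with e | e
  · exact Or.inl e
  · exact Or.inr (by rw [e, F.px, zero_add])

theorem co_mul {y y' : G} {A A' D D' : V} (h : F.Co y A D) (h' : F.Co y' A' D') :
    F.Co (y * y') (A + A') (D + D') := by
  obtain ⟨c, d, hc, hcx, hd, hdz, rfl, hA, hD, eA, eD⟩ := h
  obtain ⟨c', d', hc', hcx', hd', hdz', rfl, hA', hD', eA', eD'⟩ := h'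
  have hu := F.pr.comm_mem hc' hcx' hd hdz
  rw [← F.pr.comm_swap hc' hcx' hd hdz] at hu
  obtain ⟨huQ, hux, -⟩ := F.pr.U_le hu
  set u := d * c' * d⁻¹ * c'⁻¹
  refine ⟨c * (u * c'), d * d', mul_mem hc (mul_mem huQ hc'), Commute.mul_left hcx (Commute.mul_left hux hcx'),
    mul_mem hd hd', Commute.mul_left hdz hdz', by simp only [u]; group, by rw [bf_add_right, hA, hA', add_zero],
    by rw [bf_add_right, hD, hD', add_zero], ?_, ?_⟩
  · rw [F.pr.h.π_mul c hc _ (mul_mem huQ hc'), F.pr.h.π_mul u huQ c' hc']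
    have := eA.add ((F.π_U hu).add eA')
    rwa [zero_add] at this
  · exact (eD.add eD').trans (F.px ▸ F.pr.dl_mul F.hs hd hdz hd' hdz')

/-- Conjugation by an element of `C(z, x)` acts on the coordinates through `M`. -/
theorem co_conj {g y : G} {A D : V} (hgz : g * z = z * g) (hgx : g * x = x * g) (h : F.Co y A D) :
    F.Co (g * y * g⁻¹) ((M g).1 A) ((M g).1 D) := by
  obtain ⟨c, d, hc, hcx, hd, hdz, rfl, hA, hD, eA, eD⟩ := h
  have hfix : (M g).1 e0 = e0 := F.px ▸ F.pr.fix_c hgz hgx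
  obtain ⟨hb1, hbz1⟩ := F.pr.conj_mem_B hgz hgx hd hdz
  refine ⟨g * c * g⁻¹, g * d * g⁻¹, F.pr.h.nor_mem hgz hc,
    Commute.mul_left (Commute.mul_left hgx hcx) (Commute.inv_left hgx), hb1, hbz1, by group,
    by rw [← hfix, bf_map, hA], by rw [← hfix, bf_map, hD], ?_, ?_⟩
  · rw [F.pr.h.M_act g hgz c hc]
    have := eA.map (M g)
    rwa [hfix] at this
  · have h1 := eD.map (M g)
    rw [hfix] at h1
    exact h1.trans (F.px ▸ F.pr.dl_conj F.hs F.hsp hgz hgx hd hdz)

/-- Conjugation by `s` adds the second coordinate to the first. -/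
theorem co_s {y : G} {A D : V} (h : F.Co y A D) : F.Co (s * y * s⁻¹) (A + D) D := by
  obtain ⟨c, d, hc, hcx, hd, hdz, rfl, hA, hD, eA, eD⟩ := h
  set q := s * d * s⁻¹ * d⁻¹ with hq
  have hqQ : q ∈ Q := by
    rw [hq, show s * d * s⁻¹ * d⁻¹ = s * (d * s⁻¹ * d⁻¹) by group]
    exact mul_mem F.hs (F.pr.h.nor_mem hdz (inv_mem F.hs))
  have hqx : q * x = x * q := (F.pr.comm_x hqQ).mpr (F.pr.dl_perp F.hs hd hdz)
  have hc' : s * c * s⁻¹ ∈ Q := mul_mem (mul_mem F.hs hc) (inv_mem F.hs)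
  have hπc : π (s * c * s⁻¹) = π c := by
    rw [F.pr.h.π_mul _ (mul_mem F.hs hc) _ (inv_mem F.hs), F.pr.h.π_mul s F.hs c hc, F.pr.h.π_inv F.hs,
      add_comm (π s) (π c), add_assoc, V_add_self, add_zero]
  refine ⟨s * c * s⁻¹ * q, d, mul_mem hc' hqQ,
    Commute.mul_left ((F.pr.comm_x hc').mpr (by rw [hπc]; exact (F.pr.comm_x hc).mp hcx)) hqx, hd, hdz,
    by rw [hq]; group, by rw [bf_add_right, hA, hD, add_zero], hD, ?_, eD⟩
  rw [F.pr.h.π_mul _ hc' _ hqQ, hπc]
  exact eA.add eD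

theorem bf'_dl {d d' : G} (hd : d ∈ Q') (hdz : d * z = z * d) (hd' : d' ∈ Q') (hdz' : d' * z = z * d') :
    bf (π' d) (π' d') = bf (F.pr.dl s d) (F.pr.dl s d') := by
  have key : ∀ {e : G}, e ∈ Q' → e * z = z * e → qf (π' e) = qf (F.pr.dl s e) := fun {e} he hez => by
    have h1 := F.pr.sq_B F.hs F.hsp he hez
    rw [F.pr.h'.sq e he] at h1
    rcases F2_cases (qf (π' e)) with u | u <;> rcases F2_cases (qf (F.pr.dl s e)) with v | v <;> rw [u, v]
    · exact absurd (h1.mp u) (by rw [v]; exact one_ne_zero)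
    · exact absurd (h1.mpr v) (by rw [u]; exact one_ne_zero)
  have h1 := key (mul_mem hd hd') (Commute.mul_left hdz hdz')
  rw [F.pr.h'.π_mul d hd d' hd', qf_add, key hd hdz, key hd' hdz',
    (show Eqp e0 (F.pr.dl s d + F.pr.dl s d') (F.pr.dl s (d * d')) from
      F.px ▸ F.pr.dl_mul F.hs hd hdz hd' hdz').qf_eq qf_e0 (by
      rw [bf_add_left, bf_comm (F.pr.dl s d) e0, bf_comm (F.pr.dl s d') e0, F.dl_perp' hd hdz,
        F.dl_perp' hd' hdz', add_zero]), qf_add] at h1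
  exact add_left_cancel h1

/-- The conjugate of one element of the product by another. -/
theorem co_conj_val {y y' : G} {A A' D D' : V} (h : F.Co y A D) (h' : F.Co y' A' D') :
    y * y' * y⁻¹ = y' * ((if bf A A' + bf D A' + bf A D' = 0 then 1 else z) *
      (if bf D D' + bf D A' + bf A D' = 0 then 1 else x)) := by
  obtain ⟨c, d, hc, hcx, hd, hdz, rfl, hA, hD, eA, eD⟩ := h
  obtain ⟨c', d', hc', hcx', hd', hdz', rfl, hA', hD', eA', eD'⟩ := h'
  have P := F.pr
  rw [← F.eqp_bf eA hA', ← F.eqp_bf' eA' (F.π_perp hc hcx), ← F.eqp_bf eD hA', ← F.eqp_bf' eA' (F.dl_perp' hd hdz),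
    ← F.eqp_bf eA hD', ← F.eqp_bf' eD' (F.π_perp hc hcx), ← F.eqp_bf eD hD', ← F.eqp_bf' eD' (F.dl_perp' hd hdz)]
  have h1 := P.h.conj_Q hc hc'
  have h2 : d * c' * d⁻¹ = c' * (if bf (π c') (P.dl s d) = 0 then 1 else z * x) := by
    rw [← P.comm_eq F.hs F.hsp hc' hcx' hd hdz, ← P.comm_swap hc' hcx' hd hdz]
    have hu := P.comm_mem hc' hcx' hd hdz
    rw [← P.comm_swap hc' hcx' hd hdz] at hu
    rw [← P.U_central hu (P.h.es.comm c' hc') hcx']
    group
  have h3 : c * d' * c⁻¹ = d' * (if bf (π c) (P.dl s d') = 0 then 1 else z * x) := by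
    rw [← P.comm_eq F.hs F.hsp hc hcx hd' hdz',
      ← P.U_central (P.comm_mem hc hcx hd' hdz') hdz' (P.h'.es.comm d' hd')]
    group
  have h4 := P.h'.conj_Q hd hd'
  rw [F.bf'_dl hd hdz hd' hdz'] at h4
  have hw : ∀ {g : G}, g * z = z * g → g * x = x * g → ∀ r : F2, g * (if r = 0 then 1 else z * x) * g⁻¹ =
      (if r = 0 then 1 else z * x) := fun {g} h1 h2 r => by
    refine conj_fix_iff.mpr ?_
    split_ifs
    · simp
    · exact Commute.mul_right (show Commute g z from h1) (show Commute g x from h2)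
  have hcz := P.h.es.comm c hc
  have key : c * d * (c' * d') * (c * d)⁻¹ = c' * d' *
      ((if bf (π c) (π c') = 0 then 1 else z) * (if bf (π c') (P.dl s d) = 0 then 1 else z * x) *
        (if bf (π c) (P.dl s d') = 0 then 1 else z * x) * (if bf (P.dl s d) (P.dl s d') = 0 then 1 else x)) := by
    calc c * d * (c' * d') * (c * d)⁻¹ = c * (d * c' * d⁻¹ * (d * d' * d⁻¹)) * c⁻¹ := by group
      _ = c * (c' * (if bf (π c') (P.dl s d) = 0 then 1 else z * x) *
            (d' * (if bf (P.dl s d) (P.dl s d') = 0 then 1 else x))) * c⁻¹ := by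
          rw [h2, h4]; split_ifs <;> simp
      _ = c * c' * c⁻¹ * (c * (if bf (π c') (P.dl s d) = 0 then 1 else z * x) * c⁻¹) * (c * d' * c⁻¹) *
            (c * (if bf (P.dl s d) (P.dl s d') = 0 then 1 else x) * c⁻¹) := by group
      _ = c' * (if bf (π c) (π c') = 0 then 1 else z) * (if bf (π c') (P.dl s d) = 0 then 1 else z * x) *
            (d' * (if bf (π c) (P.dl s d') = 0 then 1 else z * x)) *
            (if bf (P.dl s d) (P.dl s d') = 0 then 1 else x) := by
          rw [h1, hw hcz hcx, h3]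
          congr 1
          · split_ifs <;> simp
          · refine conj_fix_iff.mpr ?_
            split_ifs
            · simp
            · exact hcx
      _ = _ := by
          have hcen : ∀ u : G, u ∈ P.U → u * d' = d' * u :=
            fun u hu => P.U_central hu hdz' (P.h'.es.comm d' hd')
          have e2 : (if bf (π c) (π c') = 0 then 1 else z) * (if bf (π c') (P.dl s d) = 0 then 1 else z * x) ∈ P.U :=
            mul_mem (by split_ifs <;> first | exact one_mem _ | exact P.zU)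
              (by split_ifs <;> first | exact one_mem _ | exact mul_mem P.zU P.xU)
          rw [mul_assoc c' _ (if bf (π c') (P.dl s d) = 0 then 1 else z * x), mul_assoc c' _ (d' * _),
            ← mul_assoc _ d', hcen _ e2]
          group
  rw [key, bf_comm (π c') (P.dl s d)]
  have hz := P.h.zz
  congr 1
  generalize bf (π c) (π c') = i, bf (P.dl s d) (π c') = j, bf (π c) (P.dl s d') = k,
    bf (P.dl s d) (P.dl s d') = l
  have hzx : x * z = z * x := P.zx.symm
  have c1 : ∀ w : G, z * (z * w) = w := fun w => by rw [← mul_assoc, hz, one_mul]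
  have c2 : ∀ w : G, x * (x * w) = w := fun w => by rw [← mul_assoc, P.xx, one_mul]
  have c3 : ∀ w : G, x * (z * w) = z * (x * w) := fun w => by rw [← mul_assoc, hzx, mul_assoc]
  rcases F2_cases i with rfl | rfl <;> rcases F2_cases j with rfl | rfl <;> rcases F2_cases k with rfl | rfl <;>
    rcases F2_cases l with rfl | rfl <;>
    simp [mul_assoc, c1, c2, c3, hz, P.xx, hzx, (show (1 : F2) + 1 = 0 by decide)]

/-- Two elements of the product commute when the two forms vanish. -/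
theorem co_commute {y y' : G} {A A' D D' : V} (h : F.Co y A D) (h' : F.Co y' A' D') :
    y * y' = y' * y ↔ bf A A' + bf D A' + bf A D' = 0 ∧ bf D D' + bf D A' + bf A D' = 0 := by
  rw [← uv_cases _ _ F.pr.h.zz F.pr.xx F.pr.h.es.ne F.pr.x1 (fun e => F.pr.ne e.symm)]
  have := F.co_conj_val h h'
  constructor
  · intro e
    rw [e, mul_inv_cancel_right, left_eq_mul] at this
    exact this
  · intro e
    rw [e, mul_one] at this
    exact mul_inv_eq_iff_eq_mul.mp this

/-- Squares in the product. -/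
theorem co_sq {y : G} {A D : V} (h : F.Co y A D) :
    y * y = 1 ↔ qf A + bf A D = 0 ∧ qf D + bf A D = 0 := by
  obtain ⟨c, d, hc, hcx, hd, hdz, rfl, hA, hD, eA, eD⟩ := h
  have P := F.pr
  rw [← eA.qf_eq qf_e0 (by rw [bf_comm]; exact hA), ← eD.qf_eq qf_e0 (by rw [bf_comm]; exact hD),
    ← F.eqp_bf eA hD, ← F.eqp_bf' eD (F.π_perp hc hcx), P.sq_ab hc hcx hd hdz, P.comm_eq F.hs F.hsp hc hcx hd hdz]
  have ea : c * c = if qf (π c) = 0 then 1 else z := by
    split_ifs with h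
    · exact (P.h.sq c hc).mpr h
    · exact (P.h.es.sq c hc).resolve_left fun e => h ((P.h.sq c hc).mp e)
  have eb : d * d = if qf (P.dl s d) = 0 then 1 else x := by
    split_ifs with h
    · exact (P.sq_B F.hs F.hsp hd hdz).mpr h
    · exact (P.h'.es.sq d hd).resolve_left fun e => h ((P.sq_B F.hs F.hsp hd hdz).mp e)
  rw [ea, eb, ← uv_cases (qf (π c) + bf (π c) (P.dl s d)) (qf (P.dl s d) + bf (π c) (P.dl s d)) P.h.zz P.xx
    P.h.es.ne P.x1 (fun e => P.ne e.symm)]
  refine iff_of_eq (congrArg (· = 1) ?_)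
  generalize bf (π c) (P.dl s d) = i, qf (π c) = j, qf (P.dl s d) = k
  have hzx : x * z = z * x := P.zx.symm
  have c1 : ∀ w : G, z * (z * w) = w := fun w => by rw [← mul_assoc, P.h.zz, one_mul]
  have c2 : ∀ w : G, x * (x * w) = w := fun w => by rw [← mul_assoc, P.xx, one_mul]
  have c3 : ∀ w : G, x * (z * w) = z * (x * w) := fun w => by rw [← mul_assoc, hzx, mul_assoc]
  rcases F2_cases i with rfl | rfl <;> rcases F2_cases j with rfl | rfl <;> rcases F2_cases k with rfl | rfl <;>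
    simp [mul_assoc, c1, c2, c3, P.h.zz, P.xx, hzx, (show (1 : F2) + 1 = 0 by decide)]

/-- An involution of the product is conjugate to `z` exactly when its coordinates are perpendicular. -/
theorem co_type {y : G} {A D : V} (h : F.Co y A D) (hyy : y * y = 1) (hy1 : y ≠ 1) :
    IsConj z y ↔ bf A D = 0 := by
  obtain ⟨hq1, hq2⟩ := (F.co_sq h).mp hyy
  obtain ⟨c, d, hc, hcx, hd, hdz, rfl, hA, hD, eA, eD⟩ := h
  have hbf : bf (π c) (F.pr.dl s d) = bf A D := by
    rw [F.eqp_bf eA (F.dl_perp' hd hdz), F.eqp_bf' eD hA]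
  constructor
  · intro hconj
    by_contra h0
    have h1 := bf_eq_one h0
    refine F.pr.not_conj F.hs F.hsp (t := c * d) ⟨c, d, hc, hcx, hd, hdz, rfl, ?_, ?_, hbf.trans h1⟩ hconj
    · rw [eA.qf_eq qf_e0 (by rw [bf_comm]; exact hA)]
      rw [h1] at hq1
      exact (show ∀ q : F2, q + 1 = 0 → q = 1 by decide) _ hq1
    · rw [eD.qf_eq qf_e0 (by rw [bf_comm]; exact hD)]
      rw [h1] at hq2
      exact (show ∀ q : F2, q + 1 = 0 → q = 1 by decide) _ hq2
  · intro h0
    refine (F.pr.invol_cases F.hs F.hsp hc hcx hd hdz hyy hy1).resolve_right ?_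
    rintro ⟨c', d', hc', hcx', hd', hdz', e, -, -, hcd⟩
    obtain ⟨u1, u2⟩ := F.co_unique (F.co_mk hc' hcx' hd' hdz') (e ▸ F.co_mk hc hcx hd hdz)
    rw [← F.eqp_bf u1 (F.dl_perp' hd' hdz'), ← F.eqp_bf' u2 (F.π_perp hc hcx), hbf, h0] at hcd
    exact zero_ne_one hcd

end Fr

end CfsgLib.SuzType
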