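import Cfsg.Agent.Lib.SuzType.Second.Std

/-!
An element of order five of the derived orthogonal group, and its centraliser.
-/

set_option autoImplicit false
set_option linter.unusedSectionVars false
set_option linter.unusedVariables false

namespace CfsgLib.SuzType

open QuadraticMap

/-- The singular vector paired with `e0`. -/
def f0 : V := Pi.single (.inl (.inr 0)) 1

theorem five_forms : qf d1 = 1 ∧ qf d0 = 1 ∧ qf (f0 + d1) = 1 ∧ qf (e0 + d1) = 1 := by decide +kernel

/-- The formula for a transvection. -/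
def tf (a v : V) : V := v + bf v a • a

/-- The formula for the element of order five. -/
def sfun (v : V) : V := tf d1 (tf d0 (tf (f0 + d1) (tf (e0 + d1) v)))

/-- The element of order five. -/
noncomputable def sg : O6 :=
  tr d1 five_forms.1 * tr d0 five_forms.2.1 * (tr (f0 + d1) five_forms.2.2.1 * tr (e0 + d1) five_forms.2.2.2)

theorem sg_mem : sg ∈ Om := mul_mem (tr_mul_mem _ _ _ _) (tr_mul_mem _ _ _ _)

theorem O6_mul (g h : O6) (v : V) : (g * h).1 v = g.1 (h.1 v) := rfl

theorem sg_apply (v : V) : sg.1 v = sfun v := by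
  simp only [sg, O6_mul, tr_apply, sfun, tf]

theorem sg_pow_apply (v : V) : ∀ n : ℕ, (sg ^ n).1 v = sfun^[n] v
  | 0 => rfl
  | n + 1 => by rw [pow_succ', O6_mul, sg_pow_apply v n, sg_apply, Function.iterate_succ_apply']

theorem sfun_five : ∀ v : V, sfun^[5] v = v := by decide +kernel

theorem sfun_fixed : ∀ v : V, sfun v = v → v = 0 ∨ v = e1 ∨ v = f1 ∨ v = e1 + f1 := by decide +kernel

/-- The formula for the swap. -/
def swapFun (v : V) : V := v + bf v (e1 + f1) • (e1 + f1)

theorem sfun_facts : sfun e1 = e1 ∧ sfun f1 = f1 ∧ sfun e0 ≠ e0 ∧ qf (e1 + f1) = 1 ∧ e1 ≠ f1 ∧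
    (∀ i : Fin 5, swapFun (sfun^[i.1] e0) = sfun^[i.1] e0) ∧ swapFun e1 = f1 ∧ swapFun f1 = e1 := by
  decide +kernel

theorem e0_image : ∃ u : V, sfun u + u = e0 := by decide +kernel

theorem sfun_image : ∀ v : V, qf (sfun v + v) = 0 → sfun v + v ≠ 0 → ∃ i : Fin 5, sfun v + v = sfun^[i.1] e0 := by
  decide +kernel

set_option synthInstance.maxSize 1024 in
theorem sfun_separate : ∀ v : V, (∀ i : Fin 5, bf v (sfun^[i.1] e0) = 0) → bf v e1 = 0 → bf v f1 = 0 → v = 0 := by
  decide +kernel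

theorem sg_pow_five : sg ^ 5 = 1 := Subtype.ext (LinearEquiv.ext fun v => by
  rw [sg_pow_apply, sfun_five]; rfl)

theorem sg_ne_one : sg ≠ 1 := fun e => sfun_facts.2.2.1 (by rw [← sg_apply, e]; rfl)

theorem orderOf_sg : orderOf sg = 5 := by
  haveI : Fact (Nat.Prime 5) := ⟨by norm_num⟩
  exact orderOf_eq_prime sg_pow_five sg_ne_one

/-- An isometry fixing the separating vectors is trivial. -/
theorem eq_one_of_fix {c : O6} (h : ∀ i : Fin 5, c.1 (sfun^[i.1] e0) = sfun^[i.1] e0) (h1 : c.1 e1 = e1)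
    (h2 : c.1 f1 = f1) : c = 1 := by
  refine Subtype.ext (LinearEquiv.ext fun v => ?_)
  have key : ∀ b : V, c.1 b = b → bf (c.1 v + v) b = 0 := fun b hb => by
    rw [bf_add_left]
    nth_rewrite 1 [← hb]
    rw [bf_map]
    exact (show ∀ a : F2, a + a = 0 by decide) _
  have := sfun_separate (c.1 v + v) (fun i => key _ (h i)) (key _ h1) (key _ h2)
  show c.1 v = v
  calc c.1 v = c.1 v + v + v := by rw [add_assoc, V_add_self, add_zero]
    _ = v := by rw [this, zero_add]

/-- The centraliser of the element of order five. -/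
theorem cent_sg {c : O6} (hc : c ∈ Om) (h : c * sg = sg * c) : ∃ i : ℕ, c = sg ^ i := by
  have hs : ∀ v : V, c.1 (sfun v) = sfun (c.1 v) := fun v => by
    rw [← sg_apply, ← sg_apply, ← O6_mul, ← O6_mul, h]
  obtain ⟨u, hu⟩ := e0_image
  have hcu : c.1 e0 = sfun (c.1 u) + c.1 u := by rw [← hu, map_add, hs]
  obtain ⟨i, hi⟩ := sfun_image (c.1 u) (by rw [← hcu, c.2]; exact std_facts.1)
    (by rw [← hcu]; exact fun e => std_facts.2.2.2.2.2.2.2.2.2.2.2.2.2.1 (c.1.map_eq_zero_iff.mp e))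
  rw [← hcu] at hi
  set d : O6 := (sg ^ i.1)⁻¹ * c with hd
  have hdm : d ∈ Om := mul_mem (inv_mem (pow_mem sg_mem _)) hc
  have hdc : d * sg = sg * d := (Commute.mul_left ((Commute.self_pow sg i.1).symm.inv_left) h : Commute d sg)
  have hds : ∀ v : V, d.1 (sfun v) = sfun (d.1 v) := fun v => by
    rw [← sg_apply, ← sg_apply, ← O6_mul, ← O6_mul, hdc]
  have hd0 : d.1 e0 = e0 := by
    rw [hd, O6_mul, hi, ← sg_pow_apply, ← O6_mul, inv_mul_cancel]
    rfl
  have hdi : ∀ j : Fin 5, d.1 (sfun^[j.1] e0) = sfun^[j.1] e0 := by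
    intro j
    obtain ⟨n, hn⟩ : ∃ n, n = j.1 := ⟨_, rfl⟩
    rw [← hn]
    clear hn
    induction n with
    | zero => exact hd0
    | succ n ih => rw [Function.iterate_succ_apply', hds, ih]
  obtain ⟨s1, s2, -, hq, hne, hsw, hsw1, hsw2⟩ := sfun_facts
  have inj : ∀ {p q : V}, d.1 p = d.1 q → p = q := fun h => d.1.injective h
  have img : ∀ v : V, sfun v = v → qf v = 0 → v ≠ 0 → d.1 v = e1 ∨ d.1 v = f1 := by
    intro v hv hqv hv0
    rcases sfun_fixed (d.1 v) (by rw [← hds, hv]) with e | e | e | e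
    · exact absurd (d.1.map_eq_zero_iff.mp e) hv0
    · exact Or.inl e
    · exact Or.inr e
    · have := congrArg qf e
      rw [d.2, hqv, hq] at this
      exact absurd this zero_ne_one
  have he1 : e1 ≠ 0 := std_facts.2.2.2.2.2.2.2.2.2.2.2.2.2.2.1
  rcases img e1 s1 std_facts.2.1 he1 with g1 | g1
  · have g2 : d.1 f1 = f1 := (img f1 s2 f1_facts.1 f1_facts.2.2.2.2.2.2.2.2.2.2.2.1).resolve_left
      fun e => hne (inj (g1.trans e.symm))
    refine ⟨i.1, ?_⟩
    have := eq_one_of_fix hdi g1 g2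
    rwa [hd, inv_mul_eq_one, eq_comm] at this
  · exfalso
    have g2 : d.1 f1 = e1 := (img f1 s2 f1_facts.1 f1_facts.2.2.2.2.2.2.2.2.2.2.2.1).resolve_right
      fun e => hne (inj (g1.trans e.symm))
    have := eq_one_of_fix (c := swap * d) (fun j => by rw [O6_mul, hdi, swap_apply]; exact hsw j)
      (by rw [O6_mul, g1, swap_apply]; exact hsw2) (by rw [O6_mul, g2, swap_apply]; exact hsw1)
    rw [mul_eq_one_iff_eq_inv] at this
    exact swap_not_mem (this ▸ inv_mem hdm)

end CfsgLib.SuzType
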