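import Cfsg.Agent.Lib.SuzType.Second.Coord

/-!
Groups of Suzuki sporadic type: the centralizer of a frame, the elements of order three turning the second
involution, and the four group they define.
-/

set_option autoImplicit false
set_option linter.unusedSectionVars false
set_option linter.unusedVariables false

universe u

namespace CfsgLib.SuzType

open QuadraticMap
open CfsgLargeExtra
open CfsgLib.HallJankoType (mem_cent conj_fix_iff)

theorem d_facts : bf d0 d0 = 0 ∧ bf d1 d1 = 0 ∧ bf d1 d0 = 1 ∧ qf (d0 + d1) = 1 ∧ bf e0 (d0 + d1) = 0 := by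
  decide +kernel

theorem eqp_small {m : V} (h : m = 0 ∨ m = e0 ∨ m = e1 ∨ m = e1 + e0 ∨ m = f1 ∨ m = f1 + e0) :
    Eqp e0 0 m ∨ Eqp e0 e1 m ∨ Eqp e0 f1 m := by
  rcases h with e | e | e | e | e | e
  · exact Or.inl (Or.inl e)
  · exact Or.inl (Or.inr (by rw [e, zero_add]))
  · exact Or.inr (Or.inl (Or.inl e))
  · exact Or.inr (Or.inl (Or.inr e))
  · exact Or.inr (Or.inr (Or.inl e))
  · exact Or.inr (Or.inr (Or.inr e))

variable {G : Type u} [Group G] [Finite G] {z x s t a b : G} {Q Q' : Subgroup G} {π π' : G → V} {M M' : G → O6}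

namespace Fr

variable (F : Fr z x s t a b Q Q' π π' M M')
include F

/-- An element commuting with `t` has coordinates satisfying two equations. -/
theorem co_cent_eq {y : G} {A D : V} (h : F.Co y A D) (hyt : y * t = t * y) :
    bf A d0 + bf D d0 + bf A d1 = 0 ∧ bf D d1 + bf D d0 + bf A d1 = 0 :=
  (F.co_commute h F.co_t).mp hyt

theorem M_fix {y : G} (hyz : y * z = z * y) (hyx : y * x = x * y) : (M y).1 e0 = e0 :=
  F.px ▸ F.pr.fix_c hyz hyx

theorem co_triv {y : G} {A D : V} (h : F.Co y A D) : ∀ v, bf e0 v = 0 → Eqp e0 v ((M y).1 v) := by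
  obtain ⟨c, d, hc, hcx, hd, hdz, rfl, -⟩ := h
  intro v hv
  rw [F.pr.M_typ F.hs hc hdz]
  exact F.px ▸ F.pr.perp_cases hd hdz (by rw [F.px, bf_comm]; exact hv)

/-- `C(z, x, t)` consists of elements with coordinates. -/
theorem co_of_cent {y : G} (hyz : y * z = z * y) (hyx : y * x = x * y) (hyt : y * t = t * y) :
    ∃ A D, F.Co y A D ∧ bf A d0 + bf D d0 + bf A d1 = 0 ∧ bf D d1 + bf D d0 + bf A d1 = 0 := by
  have hc := F.co_conj hyz hyx F.co_t
  rw [conj_fix_iff.mpr hyt] at hc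
  obtain ⟨h0, h1⟩ := F.co_unique F.co_t hc
  rcases F.stab_cases (F.M_fix hyz hyx) h0 h1 with ⟨-, h⟩ | ⟨h, -⟩
  · obtain ⟨A, D, hco⟩ := F.exists_co hyz hyx h
    exact ⟨A, D, hco, F.co_cent_eq hco hyt⟩
  · exact absurd (F.pr.h.M_mem y hyz) h

theorem U_mem_co {u : G} (hu : u ∈ F.pr.U) : F.Co u 0 0 := by
  obtain ⟨hQ, hx, -⟩ := F.pr.U_le hu
  refine ⟨u, 1, hQ, hx, one_mem _, by simp, (mul_one u).symm, bf_zero_right _, bf_zero_right _, F.π_U hu, Or.inl ?_⟩
  show π (s * 1 * s⁻¹ * 1⁻¹) = 0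
  simp [F.pr.h.π_one]

theorem U_comm_t {u : G} (hu : u ∈ F.pr.U) : u * t = t * u := F.pr.U_central hu F.tz F.tx

theorem co_mul_U {y u : G} {A D : V} (h : F.Co y A D) (hu : u ∈ F.pr.U) : F.Co (y * u) A D := by
  have := F.co_mul h (F.U_mem_co hu)
  rwa [add_zero, add_zero] at this

theorem co_four_pow {y : G} {A D : V} (h : F.Co y A D) : y ^ 4 = 1 := by
  have h2 := F.co_mul h h
  rw [V_add_self, V_add_self] at h2
  have hu := F.co_zero h2 (Or.inl rfl) (Or.inl rfl)
  have := (F.pr.U_le hu).2.2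
  rw [pow_succ, pow_succ, pow_succ, pow_one, mul_assoc (y * y), this]

theorem t_perp {v : V} (hv : qf (v + (M t).1 v) = 0) : bf v (π x) = 0 := by
  have hMt : M t = M b := by rw [F.te, F.pr.M_typ F.hs F.ha F.hbz]
  rw [hMt] at hv
  have hperp : ∀ w, bf w (π x) = 0 → w + (M b).1 w = 0 ∨ w + (M b).1 w = e0 := fun w hw => by
    rw [F.pr.act F.hs F.hsp F.hb F.hbz hw, ← add_assoc, V_add_self, zero_add, F.px]
    rcases F2_cases (bf w (F.pr.dl s b)) with e | e <;> rw [e] <;> simp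
  rcases F2_cases (bf v (π x)) with h0 | h1
  · exact h0
  · exfalso
    have hw : bf (v + π s) (π x) = 0 := by rw [bf_add_left, h1, F.hsp]; exact F2_add_self _
    have e : v + (M b).1 v = F.pr.dl s b + (v + π s + (M b).1 (v + π s)) := by
      rw [F.pr.dl_eq F.hs F.hbz, map_add,
        show π s + (M b).1 (π s) + (v + π s + ((M b).1 v + (M b).1 (π s))) =
          v + (M b).1 v + (π s + π s) + ((M b).1 (π s) + (M b).1 (π s)) by abel, V_add_self, V_add_self, add_zero,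
        add_zero]
    have hd : qf (F.pr.dl s b) = 1 := by
      rw [F.cb.qf_eq qf_e0 (by rw [bf_comm]; exact std_facts.2.2.2.2.2.2.2.1)]; exact std_facts.2.2.2.1
    rw [e] at hv
    rcases hperp _ hw with e' | e' <;> rw [e'] at hv
    · rw [add_zero, hd] at hv
      exact one_ne_zero hv
    · rw [qf_add, hd, qf_e0, bf_comm, F.perp_b, add_zero, add_zero] at hv
      exact one_ne_zero hv

theorem t_img_cases {v : V} (hv : bf v (π x) = 0) : v + (M t).1 v = 0 ∨ v + (M t).1 v = e0 := by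
  rw [F.te, F.pr.M_typ F.hs F.ha F.hbz, F.pr.act F.hs F.hsp F.hb F.hbz hv, ← add_assoc, V_add_self, zero_add, F.px]
  rcases F2_cases (bf v (F.pr.dl s b)) with e | e <;> rw [e] <;> simp

theorem t_img {v : V} (hv : qf (v + (M t).1 v) = 0) : v + (M t).1 v = 0 ∨ v + (M t).1 v = e0 :=
  F.t_img_cases (F.t_perp hv)

theorem t_d0 : (M t).1 d0 = d0 + e0 := by
  obtain ⟨-, -, -, -, -, -, b6, b7, b8, -⟩ := std_facts
  rw [F.te, F.pr.M_typ F.hs F.ha F.hbz, F.pr.act F.hs F.hsp F.hb F.hbz (by rw [F.px, bf_comm]; exact b6), F.px,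
    F.eqp_bf' F.cb b6, b8, one_smul]

/-- `C(z, t)` fixes the point of `t`. -/
theorem point_cases {c : G} (hcz : c * z = z * c) (hct : c * t = t * c) :
    (M c).1 e0 = e0 ∧ (c * x * c⁻¹ = x ∨ c * x * c⁻¹ = x * z) := by
  obtain ⟨-, -, -, -, -, -, b6, b7, b8, -, -, -, -, n0, -, -⟩ := std_facts
  have hMt : M t = M b := by rw [F.te, F.pr.M_typ F.hs F.ha F.hbz]
  have h1 : (M t).1 d0 = d0 + e0 := by
    rw [hMt, F.pr.act F.hs F.hsp F.hb F.hbz (by rw [F.px, bf_comm]; exact b6), F.px,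
      F.eqp_bf' F.cb b6, b8, one_smul]
  have hcm : (M t).1 ((M c).1 d0) = (M c).1 ((M t).1 d0) := by
    have := LinearEquiv.congr_fun (congrArg Subtype.val (show M c * M t = M t * M c by
      rw [← F.pr.h.M_mul _ _ hcz F.tz, ← F.pr.h.M_mul _ _ F.tz hcz, hct])) d0
    exact this.symm
  have e : (M c).1 e0 = (M c).1 d0 + (M t).1 ((M c).1 d0) := by
    rw [hcm, ← map_add, h1, ← add_assoc, V_add_self, zero_add]
  have hfix : (M c).1 e0 = e0 := by
    rcases F.t_img (v := (M c).1 d0) (by rw [← e]; exact ((M c).2 e0).trans qf_e0) with h | h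
    · exact absurd ((M c).1.map_eq_zero_iff.mp (e.trans h)) n0
    · exact e.trans h
  refine ⟨hfix, F.pr.h.π_eq F.pr.hx (F.pr.h.nor_mem hcz F.pr.hx) ?_⟩
  rw [F.pr.h.M_act c hcz x F.pr.hx, F.px, hfix]

theorem s_x : s * x * s⁻¹ = x * z := by
  rw [F.pr.h.conj_Q F.hs F.pr.hx, if_neg (by rw [F.hsp]; exact one_ne_zero)]

/-- An element of `C(z, t)` moving `x`. -/
theorem outer {c : G} (hcz : c * z = z * c) (hct : c * t = t * c) (hcx : c * x * c⁻¹ ≠ x) :
    c * x * c⁻¹ = x * z ∧ Eqp e0 (d0 + d1) ((M c).1 d0) ∧ Eqp e0 d1 ((M c).1 d1) ∧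
      Eqp e0 f1 ((M c).1 e1) ∧ Eqp e0 e1 ((M c).1 f1) := by
  obtain ⟨-, -, -, q3, -, -, b6, b7, b8, -⟩ := std_facts
  obtain ⟨h0, h1⟩ := F.point_cases hcz hct
  have hxz := h1.resolve_left hcx
  refine ⟨hxz, ?_⟩
  have hsz := F.pr.h.es.comm s F.hs
  have hc2 : s * c * x = x * (s * c) := by
    refine conj_fix_iff.mp ?_
    rw [show s * c * x * (s * c)⁻¹ = s * (c * x * c⁻¹) * s⁻¹ by group, hxz,
      show s * (x * z) * s⁻¹ = s * x * s⁻¹ * (s * z * s⁻¹) by group, F.s_x, conj_fix_iff.mpr hsz, mul_assoc,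
      F.pr.h.zz, mul_one]
  have hc2z : s * c * z = z * (s * c) := Commute.mul_left hsz hcz
  have hM : M (s * c) = M c := by rw [F.pr.h.M_mul _ _ hsz hcz, F.pr.h.M_Q F.hs, one_mul]
  have hco := F.co_conj hc2z hc2 F.co_t
  rw [hM, show s * c * t * (s * c)⁻¹ = s * (c * t * c⁻¹) * s⁻¹ by group, conj_fix_iff.mpr hct] at hco
  obtain ⟨g0, g1⟩ := F.co_unique (F.co_s F.co_t) hco
  refine ⟨g0, g1, ?_⟩
  set k : O6 := tr d1 q3 * M c with hk
  have hk1 : ∀ v, k.1 v = (M c).1 v + bf ((M c).1 v) d1 • d1 := fun v => tr_apply d1 q3 _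
  have hk0 : k.1 e0 = e0 := by rw [hk1, h0, b7, zero_smul, add_zero]
  have hmap : ∀ {u v : V}, Eqp e0 u ((M c).1 v) → Eqp e0 (u + bf u d1 • d1) (k.1 v) := fun {u v} h => by
    have e : (tr d1 q3).1 e0 = e0 := by rw [tr_apply, b7, zero_smul, add_zero]
    have := h.map (tr d1 q3)
    rw [e, tr_apply, tr_apply] at this
    rw [hk1]
    exact this
  rcases F.stab_cases hk0 (by
      have := hmap g0
      rwa [bf_add_left, b8, bf_self, add_zero, one_smul, add_assoc, V_add_self, add_zero] at this) (by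
      have := hmap g1
      rwa [bf_self, zero_smul, add_zero] at this) with ⟨hm, -⟩ | ⟨-, a1, a2⟩
  · exact absurd (by simpa [hk] using mul_mem hm (inv_mem (F.pr.h.M_mem c hcz))) (tr_not_mem d1 q3)
  · obtain ⟨-, -, -, -, bd1f, be1d1, -⟩ := f1_facts
    have hback : ∀ {u v : V}, bf u d1 = 0 → Eqp e0 u (k.1 v) → Eqp e0 u ((M c).1 v) := fun {u v} hu h => by
      have hu' : bf (k.1 v) d1 = 0 := by rw [F.eqp_bf h b7, hu]
      have hd : bf ((M c).1 v) d1 = 0 := by
        rw [hk1, bf_add_left] at hu'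
        rcases F2_cases (bf ((M c).1 v) d1) with e | e
        · exact e
        · rw [e, one_smul, bf_self, add_zero] at hu'
          exact absurd hu' one_ne_zero
      rw [hk1, hd, zero_smul, add_zero] at h
      exact h
    exact ⟨hback (by rw [bf_comm]; exact bd1f) a1, hback be1d1 a2⟩

/-- Involutions of `Q` commuting with `x` and `t`. -/
theorem e_coord {e : G} (he : e ∈ Q) (hee : e * e = 1) (hex : e * x = x * e) (het : e * t = t * e) :
    Eqp e0 0 (π e) ∨ Eqp e0 e1 (π e) ∨ Eqp e0 f1 (π e) := by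
  have hco : F.Co e (π e) 0 := ⟨e, 1, he, hex, one_mem _, by simp, (mul_one e).symm, F.π_perp he hex,
    bf_zero_right _, Eqp.refl _ _, Or.inl (by show π (s * 1 * s⁻¹ * 1⁻¹) = 0; simp [F.pr.h.π_one])⟩
  obtain ⟨h1, h2⟩ := F.co_cent_eq hco het
  rw [bf_zero_left, bf_zero_left, zero_add, zero_add] at h2
  rw [bf_zero_left, h2, add_zero, add_zero] at h1
  exact eqp_small (perp_split _ (F.π_perp he hex) (by rw [bf_comm]; exact h1) (by rw [bf_comm]; exact h2)
    ((F.pr.h.sq e he).mp hee))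

theorem small_ne {m : V} (h : Eqp e0 e1 m ∨ Eqp e0 f1 m) : ¬ Eqp e0 0 m := by
  obtain ⟨-, -, -, -, -, b5, -⟩ := std_facts
  obtain ⟨-, bf0, bef, -⟩ := f1_facts
  intro h0
  rcases h with h | h
  · have e := F.eqp_bf (h.trans h0.symm) (w := f1) bf0
    rw [bf_zero_left, bef] at e
    exact zero_ne_one e
  · have e := F.eqp_bf (h.trans h0.symm) (w := e1) b5
    rw [bf_zero_left, bf_comm, bef] at e
    exact zero_ne_one e

/-- An element of `C(z, t)` centralising such an involution outside `U` fixes `x`. -/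
theorem x_of_e {c e : G} (hcz : c * z = z * c) (hct : c * t = t * c) (he : e ∈ Q) (hee : e * e = 1)
    (hex : e * x = x * e) (het : e * t = t * e) (heU : e ∉ F.pr.U) (hce : c * e = e * c) : c * x = x * c := by
  by_contra hcx
  obtain ⟨-, -, -, he1, hf1⟩ := F.outer hcz hct fun h => hcx (conj_fix_iff.mp h)
  have hfix : (M c).1 (π e) = π e := by rw [← F.pr.h.M_act c hcz e he, conj_fix_iff.mpr hce]
  have hne : ¬ Eqp e0 0 (π e) := fun h => heU (F.pr.mem_U_iff.mpr ⟨he, by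
    rcases h with h | h
    · exact Or.inl h
    · exact Or.inr (by rw [h, F.px, zero_add])⟩)
  have hfe : ∀ {u : V}, Eqp e0 u (π e) → Eqp e0 ((M c).1 u) (π e) := fun {u} h => by
    have := h.map (M c)
    rwa [(F.point_cases hcz hct).1, hfix] at this
  have h12 : ¬ Eqp e0 e1 f1 := by
    rintro (e | e)
    · exact f1_facts.2.2.2.2.2.2.2.2.2.2.2.2.2.1 e
    · exact f1_facts.2.2.2.2.2.2.2.2.2.2.2.2.2.2 e
  rcases F.e_coord he hee hex het with h | h | h
  · exact hne h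
  · exact h12 (h.trans ((he1.trans (hfe h)).symm))
  · exact h12 ((hf1.trans (hfe h)).trans h.symm)

omit [Finite G] in
/-- An element of order three turning `t`. -/
def Turn (_F : Fr z x s t a b Q Q' π π' M M') (r : G) : Prop :=
  r ^ 3 = 1 ∧ r * z = z * r ∧ r * x = x * r ∧ r * t * r⁻¹ ≠ t ∧
    t * (r * t * r⁻¹) * (r * (r * t * r⁻¹) * r⁻¹) = 1

end Fr

end CfsgLib.SuzType
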