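import Cfsg.Agent.Lib.SuzType.Second.Unique

/-!
Groups of Suzuki sporadic type: the four group attached to a conjugate of `z` and a commuting conjugate of `t`.
-/

set_option autoImplicit false
set_option linter.unusedSectionVars false
set_option linter.unusedVariables false

universe u

namespace CfsgLib.SuzType

open QuadraticMap
open CfsgLargeExtra
open CfsgLib.HallJankoType (mem_cent conj_fix_iff)

variable {G : Type u} [Group G] [Finite G] {z x s t a b : G} {Q Q' : Subgroup G} {π π' : G → V} {M M' : G → O6}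

omit [Finite G] in
theorem cj_cj (g k : G) (R : Subgroup G) : cj g (cj k R) = cj (g * k) R := by
  ext a
  rw [mem_cj, mem_cj, mem_cj, show (g * k)⁻¹ * a * (g * k) = k⁻¹ * (g⁻¹ * a * g) * k by group]

omit [Finite G] in
theorem cj_one (R : Subgroup G) : cj (1 : G) R = R := by
  ext a
  rw [mem_cj]
  simp

omit [Finite G] in
theorem inv_conj_cancel (g a : G) : g⁻¹ * (g * a * g⁻¹) * g = a := by group

theorem Pr.conjBy (P : Pr z x Q Q' π π' M M') (g : G) :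
    Pr (g * z * g⁻¹) (g * x * g⁻¹) (cj g Q) (cj g Q') (fun q => π (g⁻¹ * q * g)) (fun q => π' (g⁻¹ * q * g))
      (fun q => M (g⁻¹ * q * g)) (fun q => M' (g⁻¹ * q * g)) :=
  ⟨P.h.conjBy g, P.h'.conjBy g, conj_mem_cj P.hx, conj_mem_cj P.hz, fun e => P.ne (by
    have := congrArg (fun q => g⁻¹ * q * g) e
    simpa [mul_assoc] using this)⟩

theorem Fr.conjBy (F : Fr z x s t a b Q Q' π π' M M') (g : G) :
    Fr (g * z * g⁻¹) (g * x * g⁻¹) (g * s * g⁻¹) (g * t * g⁻¹) (g * a * g⁻¹) (g * b * g⁻¹) (cj g Q) (cj g Q')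
      (fun q => π (g⁻¹ * q * g)) (fun q => π' (g⁻¹ * q * g)) (fun q => M (g⁻¹ * q * g))
      (fun q => M' (g⁻¹ * q * g)) := by
  have hcon : ∀ {p q : G}, p * q = q * p → g * p * g⁻¹ * (g * q * g⁻¹) = g * q * g⁻¹ * (g * p * g⁻¹) := fun {p q} e => by
    rw [show g * p * g⁻¹ * (g * q * g⁻¹) = g * (p * q) * g⁻¹ by group, e]; group
  refine ⟨F.pr.conjBy g, conj_mem_cj F.hs, ?_, ?_, conj_mem_cj F.ha, hcon F.hax, conj_mem_cj F.hb, hcon F.hbz,
    by rw [F.te]; group, ?_, ?_⟩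
  · show bf (π (g⁻¹ * (g * s * g⁻¹) * g)) (π (g⁻¹ * (g * x * g⁻¹) * g)) = 1
    rw [inv_conj_cancel, inv_conj_cancel]; exact F.hsp
  · show π (g⁻¹ * (g * x * g⁻¹) * g) = e0
    rw [inv_conj_cancel]; exact F.px
  · show Eqp e0 d0 (π (g⁻¹ * (g * a * g⁻¹) * g))
    rw [inv_conj_cancel]; exact F.ca
  · show Eqp e0 d1 (π (g⁻¹ * (g * s * g⁻¹ * (g * b * g⁻¹) * (g * s * g⁻¹)⁻¹ * (g * b * g⁻¹)⁻¹) * g))
    rw [show g⁻¹ * (g * s * g⁻¹ * (g * b * g⁻¹) * (g * s * g⁻¹)⁻¹ * (g * b * g⁻¹)⁻¹) * g = s * b * s⁻¹ * b⁻¹ by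
      group]
    exact F.cb

theorem Fr.turn_conj {F : Fr z x s t a b Q Q' π π' M M'} {r : G} (h : F.Turn r) (g : G) :
    (F.conjBy g).Turn (g * r * g⁻¹) ∧
      g * r * g⁻¹ * (g * t * g⁻¹) * (g * r * g⁻¹)⁻¹ = g * (r * t * r⁻¹) * g⁻¹ := by
  obtain ⟨h3, hrz, hrx, hne, hp⟩ := h
  have hcon : ∀ {p q : G}, p * q = q * p → g * p * g⁻¹ * (g * q * g⁻¹) = g * q * g⁻¹ * (g * p * g⁻¹) := fun {p q} e => by
    rw [show g * p * g⁻¹ * (g * q * g⁻¹) = g * (p * q) * g⁻¹ by group, e]; group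
  have e : g * r * g⁻¹ * (g * t * g⁻¹) * (g * r * g⁻¹)⁻¹ = g * (r * t * r⁻¹) * g⁻¹ := by group
  refine ⟨⟨by rw [conj_pow, h3, mul_one, mul_inv_cancel], hcon hrz, hcon hrx, ?_, ?_⟩, e⟩
  · rw [e]
    exact fun e' => hne (mul_left_cancel (mul_right_cancel e'))
  · rw [e, show g * t * g⁻¹ * (g * (r * t * r⁻¹) * g⁻¹) * (g * r * g⁻¹ * (g * (r * t * r⁻¹) * g⁻¹) * (g * r * g⁻¹)⁻¹) =
      g * (t * (r * t * r⁻¹) * (r * (r * t * r⁻¹) * r⁻¹)) * g⁻¹ by group, hp]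
    group

/-- `w` belongs to the four group at `(y, t)`, read in the extraspecial group `R` at `y`. -/
def Loc (y : G) (R : Subgroup G) (t w : G) : Prop :=
  ∃ (p s a b : G) (R' : Subgroup G) (π π' : G → V) (M M' : G → O6) (F : Fr y p s t a b R R' π π' M M'),
    ∃ r, F.Turn r ∧ r * t * r⁻¹ = w

theorem Loc.conjBy {y t w : G} {R : Subgroup G} (h : Loc y R t w) (g : G) :
    Loc (g * y * g⁻¹) (cj g R) (g * t * g⁻¹) (g * w * g⁻¹) := by
  obtain ⟨p, s, a, b, R', π, π', M, M', F, r, hr, rfl⟩ := h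
  exact ⟨_, _, _, _, _, _, _, _, _, F.conjBy g, _, (Fr.turn_conj hr g).1, (Fr.turn_conj hr g).2⟩

/-- Two frames at `z` for the same second involution have the same point, up to `z`. -/
theorem Fr.point_unique (F : Fr z x s t a b Q Q' π π' M M') {x2 s2 a2 b2 : G} {Q2 : Subgroup G}
    {π2 π2' : G → V} {M2 M2' : G → O6} (F2 : Fr z x2 s2 t a2 b2 Q Q2 π2 π2' M2 M2') : x2 = x ∨ x2 = x * z := by
  obtain ⟨q, hq, hqd⟩ := F2.pr.h.π_surj d0
  obtain ⟨c, hc⟩ : ∃ c, c = q * t * q⁻¹ * t⁻¹ := ⟨_, rfl⟩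
  have hcQ : c ∈ Q := by
    rw [hc, show q * t * q⁻¹ * t⁻¹ = q * (t * q⁻¹ * t⁻¹) by group]
    exact mul_mem hq (F.pr.h.nor_mem F.tz (inv_mem hq))
  have h2 : π2 c = π2 x2 := by
    rw [hc, show π2 (q * t * q⁻¹ * t⁻¹) = F2.pr.dl q t from rfl, F2.pr.dl_eq hq F.tz, hqd, F2.t_d0, ← add_assoc,
      V_add_self, zero_add, F2.px]
  have h1 : π c = π q + (M t).1 (π q) := by
    rw [hc, show π (q * t * q⁻¹ * t⁻¹) = F.pr.dl q t from rfl, F.pr.dl_eq hq F.tz]
  have hcc : c * c = 1 := by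
    rw [F2.pr.h.sq c hcQ, h2, F2.px]; exact qf_e0
  have hc0 := (F.pr.h.sq c hcQ).mp hcc
  rw [h1] at hc0
  rcases F.t_img hc0 with e | e
  · exfalso
    rw [← h1] at e
    rcases F.pr.h.π_ker c hcQ e with e' | e'
    · exact F2.pr.p_ne (by rw [← h2, e', F2.pr.h.π_one])
    · exact F2.pr.p_ne (by rw [← h2, e', F2.pr.h.π_z])
  · rw [← h1, ← F.px] at e
    have hzz := F.pr.h.zz
    rcases F.pr.h.π_eq F.pr.hx hcQ e.symm with e' | e' <;>
      rcases F2.pr.h.π_eq hcQ F2.pr.hx h2 with e'' | e''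
    · exact Or.inl (e''.trans e')
    · exact Or.inr (by rw [e'', e'])
    · exact Or.inr (e''.trans e')
    · exact Or.inl (by rw [e'', e', mul_assoc, hzz, mul_one])

theorem Loc.unique {y t w w' : G} {R : Subgroup G} (h : Loc y R t w) (h' : Loc y R t w') :
    w' = w ∨ w' = t * w := by
  obtain ⟨p, s, a, b, R', π, π', M, M', F, r, hr, rfl⟩ := h
  obtain ⟨p2, s2, a2, b2, R2, π2, π2', M2, M2', F2, r', hr', rfl⟩ := h'
  refine F.turn_unique hr ⟨hr'.1, hr'.2.1, ?_, hr'.2.2.2⟩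
  rcases F.point_unique F2 with e | e
  · exact e ▸ hr'.2.2.1
  · have : Commute r' p2 := hr'.2.2.1
    have e2 : p = p2 * y := by rw [e, mul_assoc, F.pr.h.zz, mul_one]
    rw [e2]
    exact Commute.mul_right this hr'.2.1

/-- `R` is the extraspecial group at `y`, for the base pair `(z, Q)`. -/
def At (z : G) (Q : Subgroup G) (y : G) (R : Subgroup G) : Prop := ∃ g, g * z * g⁻¹ = y ∧ cj g Q = R

omit [Finite G] in
theorem At.self : At z Q z Q := ⟨1, by simp, cj_one Q⟩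

omit [Finite G] in
theorem At.conjBy {y : G} {R : Subgroup G} (h : At z Q y R) (k : G) : At z Q (k * y * k⁻¹) (cj k R) := by
  obtain ⟨g, rfl, rfl⟩ := h
  exact ⟨k * g, by group, (cj_cj k g Q).symm⟩

theorem At.unique (hE : ES Q z) {y : G} {R R' : Subgroup G} (h : At z Q y R) (h' : At z Q y R') : R = R' := by
  obtain ⟨g, hg, rfl⟩ := h
  obtain ⟨g', hg', rfl⟩ := h'
  exact hE.cj_congr (hg.trans hg'.symm)

/-- `w` belongs to the four group at `(y, t)`. -/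
def HasW (z : G) (Q : Subgroup G) (y t w : G) : Prop := ∃ R, At z Q y R ∧ Loc y R t w

theorem HasW.conjBy {y t w : G} (h : HasW z Q y t w) (k : G) :
    HasW z Q (k * y * k⁻¹) (k * t * k⁻¹) (k * w * k⁻¹) := by
  obtain ⟨R, hR, hL⟩ := h
  exact ⟨cj k R, hR.conjBy k, hL.conjBy k⟩

theorem HasW.unique (hE : ES Q z) {y t w w' : G} (h : HasW z Q y t w) (h' : HasW z Q y t w') :
    w' = w ∨ w' = t * w := by
  obtain ⟨R, hR, hL⟩ := h
  obtain ⟨R', hR', hL'⟩ := h'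
  rw [hR'.unique hE hR] at hL'
  exact hL.unique hL'

/-- An element centralising `y`, `t` and the four group has order dividing four and fixes the point. -/
theorem HasW.pow_four {y t w c : G} (h : HasW z Q y t w) (hy : c * y = y * c) (ht : c * t = t * c)
    (hw : c * w = w * c) : c ^ 4 = 1 := by
  obtain ⟨R, -, p, s, a, b, R', π, π', M, M', F, r, hr, rfl⟩ := h
  obtain ⟨A, D, hco, -⟩ := F.co_of_cent hy (F.x_of_w hr hy ht hw) ht
  exact F.co_four_pow hco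

end CfsgLib.SuzType
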