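import Cfsg.Agent.Lib.SuzType.Second.Rep
import Cfsg.Agent.Lib.SuzType.Second.L34Recog

/-!
Groups of Suzuki sporadic type: `C(t, w) / ⟨t, w⟩` is `PSL₃` over four elements.
-/

set_option autoImplicit false
set_option linter.unusedSectionVars false
set_option linter.unusedVariables false

universe u

namespace CfsgLib.SuzType

open CfsgLargeExtra
open CfsgLib.HallJankoType (mem_cent conj_fix_iff)

variable {G : Type u} [Group G] [Finite G]

/-- The four group inside its centraliser. -/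
def Wg (t w : G) : Subgroup (Kg t w) := (Subgroup.closure ({t, w} : Set G)).subgroupOf (Kg t w)

instance Wg_normal (t w : G) : (Wg t w).Normal := ⟨fun n hn k => by
  have h : (k : G) * n * (k : G)⁻¹ = n := by
    refine conj_fix_iff.mpr ?_
    refine Subgroup.closure_induction (p := fun y _ => (k : G) * y = y * k) ?_ ?_ ?_ ?_ hn
    · rintro y (rfl | rfl)
      exacts [(mem_Kg.mp k.2).1, (mem_Kg.mp k.2).2]
    · simp
    · exact fun a b _ _ ha hb => Commute.mul_right ha hb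
    · exact fun a _ ha => Commute.inv_right ha
  have : k * n * k⁻¹ = n := Subtype.ext h
  rwa [this]⟩

namespace Cfg

variable {z x t w : G} (C : Cfg z x t w)
include C

theorem InW_mul {a b : G} (ha : InW t w a) (hb : InW t w b) : InW t w (a * b) := by
  obtain ⟨-, -, -, -, -, -, htt, -, hww, htw, -⟩ := C.rels
  have e1 : ∀ c, t * (t * c) = c := fun c => by rw [← mul_assoc, htt, one_mul]
  have e2 : ∀ c, w * (t * c) = t * (w * c) := fun c => by rw [← mul_assoc, ← htw, mul_assoc]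
  unfold InW
  rcases ha with rfl | rfl | rfl | rfl <;> rcases hb with rfl | rfl | rfl | rfl <;>
    simp only [one_mul, mul_one, mul_assoc, e1, e2, htt, hww, ← htw, true_or, or_true]

theorem mem_Wg {v : Kg t w} : v ∈ Wg t w ↔ InW t w (v : G) := by
  rw [Wg, Subgroup.mem_subgroupOf]
  constructor
  · refine fun h => Subgroup.closure_induction (p := fun y _ => InW t w y) ?_ (Or.inl rfl) ?_ ?_ h
    · rintro y (rfl | rfl)
      exacts [Or.inr (Or.inl rfl), Or.inr (Or.inr (Or.inl rfl))]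
    · exact fun a b _ _ ha hb => C.InW_mul ha hb
    · exact fun a _ ha => by rwa [inv_eq_of_mul_eq_one_right (C.InW_sq ha)]
  · rintro (h | h | h | h) <;> rw [h]
    exacts [one_mem _, Subgroup.subset_closure (Or.inl rfl), Subgroup.subset_closure (Or.inr rfl),
      mul_mem (Subgroup.subset_closure (Or.inl rfl)) (Subgroup.subset_closure (Or.inr rfl))]

theorem mk_eq {a b : Kg t w} :
    QuotientGroup.mk' (Wg t w) a = QuotientGroup.mk' (Wg t w) b ↔ InW t w ((a : G)⁻¹ * b) := by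
  rw [QuotientGroup.mk'_apply, QuotientGroup.mk'_apply, QuotientGroup.eq, C.mem_Wg]
  simp

theorem card_Wg : Nat.card (Wg t w) = 4 := by
  obtain ⟨-, -, -, -, -, -, htt, ht1, hww, htw, hw1, hwt, -⟩ := C.rels
  classical
  have hc : (Wg t w : Set (Kg t w)).ncard = 4 := by
    rw [← Set.ncard_image_of_injective _ Subtype.val_injective]
    have hset : Subtype.val '' (Wg t w : Set (Kg t w)) = {1, t, w, t * w} := by
      ext y
      simp only [Set.mem_image, Set.mem_insert_iff, Set.mem_singleton_iff, SetLike.mem_coe]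
      constructor
      · rintro ⟨v, hv, rfl⟩; exact C.mem_Wg.mp hv
      · intro hy
        have hyK : y ∈ Kg t w := C.Sg_le (C.InW_mem hy)
        exact ⟨⟨y, hyK⟩, C.mem_Wg.mpr hy, rfl⟩
    rw [hset, Set.ncard_eq_succ]
    refine ⟨1, {t, w, t * w}, ?_, rfl, ?_⟩
    · simp only [Set.mem_insert_iff, Set.mem_singleton_iff]
      rintro (h | h | h)
      · exact ht1 h.symm
      · exact hw1 h.symm
      · exact hwt ((eq_inv_of_mul_eq_one_left h.symm).trans (inv_eq_of_mul_eq_one_right hww)).symm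
    · rw [Set.ncard_eq_three]
      exact ⟨t, w, t * w, fun h => hwt h.symm, fun h => hw1 (left_eq_mul.mp h), fun h => ht1 (right_eq_mul.mp h), rfl⟩
  exact (Nat.card_coe_set_eq _).trans hc

end Cfg

namespace Base

variable {z x t w : G} {Q : Subgroup G} (B : Base z x t w Q)
include B

theorem lift {v : Kg t w} (hv : orderOf (QuotientGroup.mk' (Wg t w) v) = 2) :
    ∃ y : Kg t w, IsConj z (y : G) ∧ QuotientGroup.mk' (Wg t w) y = QuotientGroup.mk' (Wg t w) v := by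
  have h2 : InW t w ((v : G) * v) := by
    have := (QuotientGroup.eq_one_iff (N := Wg t w) (v * v)).mp (by
      rw [← QuotientGroup.mk'_apply, map_mul, ← pow_two, ← hv, pow_orderOf_eq_one])
    exact B.cfg.mem_Wg.mp this
  have hn : ¬ InW t w (v : G) := fun h => by
    rw [show QuotientGroup.mk' (Wg t w) v = 1 from (QuotientGroup.eq_one_iff v).mpr (B.cfg.mem_Wg.mpr h),
      orderOf_one] at hv
    omega
  have h4 : ((v : G)) ^ 2 ^ 2 = 1 := by
    rw [show (2 : ℕ) ^ 2 = 2 * 2 from rfl, pow_mul, pow_two, pow_two]; exact B.cfg.InW_sq h2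
  have hP : IsPGroup 2 (Subgroup.zpowers (v : G)) := fun ⟨q, hq⟩ => ⟨2, Subtype.ext (by
    obtain ⟨i, rfl⟩ := Subgroup.mem_zpowers_iff.mp hq
    show ((v : G) ^ i) ^ 2 ^ 2 = 1
    rw [← zpow_natCast, ← zpow_mul, mul_comm, zpow_mul, zpow_natCast, h4, one_zpow])⟩
  obtain ⟨k, hk, hkS⟩ := B.cfg.conj_Sg hP (Subgroup.zpowers_le.mpr v.2)
  have hkc : ∀ {u}, InW t w u → k * u * k⁻¹ = u := fun hu => conj_fix_iff.mpr (B.cfg.InW_central hu hk).symm
  have hkc' : ∀ {u}, InW t w u → k⁻¹ * u * k = u := fun {u} hu => by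
    conv_lhs => rw [← hkc hu]
    group
  obtain ⟨a, ha, hac⟩ := B.cfg.z_rep (hkS v (Subgroup.mem_zpowers _))
    (by rwa [show k * (v : G) * k⁻¹ * (k * v * k⁻¹) = k * (v * v) * k⁻¹ by group, hkc h2])
    (fun h => hn (by
      have := hkc' h
      rw [show k⁻¹ * (k * (v : G) * k⁻¹) * k = v by group] at this
      rwa [this]))
  have haK : a ∈ Kg t w := B.cfg.Sg_le (B.cfg.InW_mem ha)
  refine ⟨v * ⟨a, haK⟩, ?_, B.cfg.mk_eq.mpr ?_⟩
  · refine hac.trans (isConj_iff.mpr ⟨k⁻¹, ?_⟩)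
    show k⁻¹ * (k * (v : G) * k⁻¹ * a) * k⁻¹⁻¹ = (v : G) * a
    rw [show k⁻¹ * (k * (v : G) * k⁻¹ * a) * k⁻¹⁻¹ = v * (k⁻¹ * a * k) by group, hkc' ha]
  · rw [Subgroup.coe_mul, mul_inv_rev, mul_assoc, inv_mul_cancel, mul_one, inv_eq_of_mul_eq_one_right (B.cfg.InW_sq ha)]
    exact ha

theorem uniq {y y' : G} (hy : y ∈ Kg t w) (hy' : y' ∈ Kg t w) (hc : IsConj z y) (hc' : IsConj z y')
    (h : InW t w (y⁻¹ * y')) : y = y' := by
  obtain ⟨k, hk, rfl⟩ := (B.hasW_K hy hc).2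
  by_contra hne
  refine B.cfg.not_conj_mul h (fun e => hne (inv_mul_eq_one.mp e)) (hc'.trans (isConj_iff.mpr ⟨k⁻¹, ?_⟩))
  have hfix : k⁻¹ * ((k * z * k⁻¹)⁻¹ * y') * k = (k * z * k⁻¹)⁻¹ * y' := by
    conv_lhs => rw [← conj_fix_iff.mpr (B.cfg.InW_central h hk).symm]
    group
  rw [← hfix]; group

theorem uniq' {y y' : Kg t w} (hc : IsConj z (y : G)) (hc' : IsConj z (y' : G))
    (h : QuotientGroup.mk' (Wg t w) y = QuotientGroup.mk' (Wg t w) y') : y = y' :=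
  Subtype.ext (B.uniq y.2 y'.2 hc hc' (B.cfg.mk_eq.mp h))

theorem comm_lift {c y : Kg t w} (hy : IsConj z (y : G))
    (h : QuotientGroup.mk' (Wg t w) c * QuotientGroup.mk' (Wg t w) y =
      QuotientGroup.mk' (Wg t w) y * QuotientGroup.mk' (Wg t w) c) : c * y = y * c := by
  have hc' : IsConj z ((c * y * c⁻¹ : Kg t w) : G) := hy.trans (isConj_iff.mpr ⟨(c : G), rfl⟩)
  have := B.uniq' hc' hy (by rw [map_mul, map_mul, map_inv, h, mul_inv_cancel_right])
  exact mul_inv_eq_iff_eq_mul.mp this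

theorem quot_cit : CIT.IsCIT (Kg t w ⧸ Wg t w) := by
  intro i hi
  obtain ⟨v, rfl⟩ := QuotientGroup.mk'_surjective (Wg t w) i
  obtain ⟨y, hy, he⟩ := B.lift hi
  rintro ⟨q, hq⟩
  obtain ⟨c, rfl⟩ := QuotientGroup.mk'_surjective (Wg t w) q
  have hcy := congrArg Subtype.val (B.comm_lift (c := c) hy (by rw [he]; exact mem_cent.mp hq))
  exact ⟨2, Subtype.ext (show QuotientGroup.mk' (Wg t w) c ^ 4 = 1 by
    rw [← map_pow, show c ^ 4 = 1 from Subtype.ext (B.pow_four_K y.2 hy c.2 hcy), map_one])⟩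

theorem orderOf_mk {y : Kg t w} (hy : IsConj z (y : G)) : orderOf (QuotientGroup.mk' (Wg t w) y) = 2 := by
  obtain ⟨h2, -, hnW⟩ := conj_z_props B.cfg hy
  refine orderOf_eq_prime ?_ fun h => ?_
  · rw [pow_two, ← map_mul, show y * y = 1 from Subtype.ext h2, map_one]
  · rcases B.cfg.mem_Wg.mp ((QuotientGroup.eq_one_iff y).mp h) with e | e | e | e
    · exact (conj_z_props B.cfg hy).2.1 e
    · exact hnW (Or.inl e)
    · exact hnW (Or.inr (Or.inl e))
    · exact hnW (Or.inr (Or.inr e))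

/-- The quotient is `PSL₃` over four elements. -/
theorem quot_L34 : CIT.L34Type (Kg t w ⧸ Wg t w) := by
  classical
  haveI : Fact (Nat.Prime 2) := ⟨Nat.prime_two⟩
  let π := QuotientGroup.mk' (Wg t w)
  obtain ⟨hzz, hxx, -, -, hne, hzx, -⟩ := B.cfg.rels
  obtain ⟨cx, cxz, -⟩ := B.cfg.types
  obtain ⟨P1, hP1⟩ := (B.cfg.Sg_pgroup.of_equiv (Subgroup.subgroupOfEquivOfLe B.cfg.Sg_le).symm).exists_le_sylow
  have hP1S : ∀ a : Kg t w, a ∈ P1 ↔ (a : G) ∈ Sg z x t := fun a =>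
    ⟨fun ha => B.cfg.Sg_max ((P1 : Subgroup (Kg t w)).map (Kg t w).subtype) (P1.isPGroup'.map _)
      (Subgroup.map_subtype_le _) (fun q hq => ⟨⟨q, B.cfg.Sg_le hq⟩, hP1 hq, rfl⟩) ⟨a, ha, rfl⟩, fun ha => hP1 ha⟩
  let T : Sylow 2 (Kg t w ⧸ Wg t w) := P1.mapSurjective (QuotientGroup.mk'_surjective (Wg t w))
  have hT : ∀ a : Kg t w, π a ∈ T ↔ (a : G) ∈ Sg z x t := by
    intro a
    show π a ∈ (T : Subgroup _) ↔ _
    rw [Sylow.coe_mapSurjective]
    constructor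
    · rintro ⟨p, hp, e⟩
      have hw' := B.cfg.InW_mem (B.cfg.mk_eq.mp e)
      have := mul_mem ((hP1S p).mp hp) hw'
      rwa [mul_inv_cancel_left] at this
    · exact fun ha => ⟨a, (hP1S a).mpr ha, rfl⟩
  have mem : ∀ {a : G} (ha : a ∈ Sg z x t), π ⟨a, B.cfg.Sg_le ha⟩ ∈ T := fun {a} ha => (hT _).mpr ha
  let zk : Kg t w := ⟨z, B.cfg.Sg_le B.cfg.z_mem⟩
  let xk : Kg t w := ⟨x, B.cfg.Sg_le B.cfg.x_mem⟩
  obtain ⟨e, he, f, hf, hce, hcf, hef⟩ := B.cfg.exists_pair_S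
  let ek : Kg t w := ⟨e, B.cfg.Sg_le he⟩
  let fk : Kg t w := ⟨f, B.cfg.Sg_le hf⟩
  have hzx' : IsConj z (((zk * xk : Kg t w)) : G) := by
    show IsConj z (z * x)
    rw [hzx]; exact cxz
  have hef' : e * f ≠ f * e := fun h => by
    rw [conj_fix_iff.mpr h] at hef
    exact B.cfg.rels.2.2.1 (left_eq_mul.mp hef)
  have hfz : f * z = z * f := (mem_Sg.mp hf).1
  have hfx : f * x = x * f := (mem_Sg.mp hf).2.1
  refine L34.recognise B.quot_cit T ?_ ?_ ?_ (u := π zk) (v := π xk) (e := π ek) (f := π fk) (mem B.cfg.z_mem)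
    (mem B.cfg.x_mem) (mem he) (mem hf) ?_ (B.orderOf_mk (IsConj.refl z)) (B.orderOf_mk cx) (B.orderOf_mk hce)
    ?_ ?_ ?_ ?_ ?_ ?_
  · intro i j hi hj
    obtain ⟨p, rfl⟩ := QuotientGroup.mk'_surjective (Wg t w) i
    obtain ⟨q, rfl⟩ := QuotientGroup.mk'_surjective (Wg t w) j
    obtain ⟨y, hy, e1⟩ := B.lift hi
    obtain ⟨y', hy', e2⟩ := B.lift hj
    obtain ⟨k, hk, rfl'⟩ := (B.hasW_K y.2 hy).2
    obtain ⟨k', hk', rfl''⟩ := (B.hasW_K y'.2 hy').2
    refine isConj_iff.mpr ⟨π (⟨k', hk'⟩ * ⟨k, hk⟩⁻¹), ?_⟩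
    rw [← e1, ← e2, ← map_inv, ← map_mul, ← map_mul]
    refine congrArg π (Subtype.ext ?_)
    show k' * k⁻¹ * (y : G) * (k' * k⁻¹)⁻¹ = (y' : G)
    rw [← rfl', ← rfl'']; group
  · intro q hq
    obtain ⟨a, rfl⟩ := QuotientGroup.mk'_surjective (Wg t w) q
    have hle : Sg z x t ≤ ((Subgroup.closure {b | b ∈ (T : Subgroup (Kg t w ⧸ Wg t w)) ∧ b * b = 1}).comap π).map
        (Kg t w).subtype := by
      refine B.cfg.Sg_gen.trans ((Subgroup.closure_le _).mpr ?_)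
      rintro b (⟨hb, hbc⟩ | hb)
      · exact ⟨⟨b, B.cfg.Sg_le hb⟩, Subgroup.subset_closure ⟨mem hb, by
          rw [← pow_two, ← B.orderOf_mk (y := ⟨b, B.cfg.Sg_le hb⟩) hbc, pow_orderOf_eq_one]⟩, rfl⟩
      · have hb' : InW t w b := by rcases hb with rfl | rfl; exacts [Or.inr (Or.inl rfl), Or.inr (Or.inr (Or.inl rfl))]
        exact ⟨⟨b, B.cfg.Sg_le (B.cfg.InW_mem hb')⟩, (Subgroup.mem_comap).mpr (by
          rw [show π ⟨b, _⟩ = 1 from (QuotientGroup.eq_one_iff _).mpr (B.cfg.mem_Wg.mpr hb')]; exact one_mem _), rfl⟩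
    obtain ⟨a', ha', e'⟩ := hle ((hT a).mp hq)
    rwa [← show a' = a from Subtype.ext e']
  · intro g hg
    obtain ⟨k, rfl⟩ := QuotientGroup.mk'_surjective (Wg t w) g
    rw [← map_pow, hT]
    have hnorm : ∀ a ∈ Sg z x t, (k : G) * a * (k : G)⁻¹ ∈ Sg z x t := by
      intro a ha
      have h := hg _ (mem ha)
      rw [← map_inv, ← map_mul, ← map_mul] at h
      exact (hT _).mp h
    have hcen : ∀ {y : G}, y = z ∨ y = x ∨ y = x * z → ∀ c, c ∈ Sg z x t → c * y = y * c := fun {y} hy c hc => by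
      obtain ⟨a, b, -⟩ := mem_Sg.mp hc
      rcases hy with rfl | rfl | rfl
      exacts [a, b, Commute.mul_right b a]
    have img := fun {y : G} (hy : y ∈ Sg z x t) (hyc : IsConj z y) hc =>
      B.cfg.norm_z (y := y) (mem_Kg.mp k.2).1 hnorm hy hyc hc
    have nmul : (k : G) * (x * z) * (k : G)⁻¹ = k * x * (k : G)⁻¹ * (k * z * (k : G)⁻¹) := by group
    rw [SubmonoidClass.coe_pow]
    rcases img B.cfg.z_mem (IsConj.refl z) (hcen (Or.inl rfl)) with e0 | e0 | e0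
    · exact pow_mem (B.cfg.mem_Sg_of_K k.2 (conj_fix_iff.mp e0)) 3
    · rcases img B.cfg.x_mem cx (hcen (Or.inr (Or.inl rfl))) with e' | e' | e'
      · refine pow_mem (B.cfg.mem_Sg_of_xz k.2 (conj_fix_iff.mp ?_)) 3
        rw [nmul, e0, e', hzx]
      · exact pow_mem (B.cfg.mem_Sg_of_x k.2 (conj_fix_iff.mp e')) 3
      · refine B.cfg.mem_Sg_of_K (pow_mem k.2 3) (conj_fix_iff.mp ?_)
        rw [show (k : G) ^ 3 * z * ((k : G) ^ 3)⁻¹ = k * (k * (k * z * (k : G)⁻¹) * (k : G)⁻¹) * (k : G)⁻¹ by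
          simp [pow_succ, mul_assoc], e0, e', nmul, e0, e', mul_assoc, hzx, ← mul_assoc, hxx, one_mul]
    · rcases img B.cfg.x_mem cx (hcen (Or.inr (Or.inl rfl))) with e' | e' | e'
      · refine B.cfg.mem_Sg_of_K (pow_mem k.2 3) (conj_fix_iff.mp ?_)
        rw [show (k : G) ^ 3 * z * ((k : G) ^ 3)⁻¹ = k * (k * (k * z * (k : G)⁻¹) * (k : G)⁻¹) * (k : G)⁻¹ by
          simp [pow_succ, mul_assoc], e0, nmul, e', e0, show z * (x * z) = x by rw [← mul_assoc, hzx, mul_assoc, hzz,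
            mul_one], e']
      · exact pow_mem (B.cfg.mem_Sg_of_x k.2 (conj_fix_iff.mp e')) 3
      · exact absurd (mul_left_cancel (mul_right_cancel (e'.trans e0.symm))) hne
  · intro q hq
    obtain ⟨a, rfl⟩ := QuotientGroup.mk'_surjective (Wg t w) q
    rw [← map_mul, ← map_mul]
    exact congrArg π (Subtype.ext (mem_Sg.mp ((hT a).mp hq)).1)
  · exact fun h => hne (congrArg Subtype.val (B.uniq' (y := zk) (y' := xk) (IsConj.refl z) cx h)).symm
  · rw [← map_mul, ← map_mul]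
    exact congrArg π (Subtype.ext (mem_Sg.mp he).2.1)
  · intro h
    have he' : e = z := congrArg Subtype.val (B.uniq' (y := ek) (y' := zk) hce (IsConj.refl z) h)
    exact hef' (by rw [he', hfz])
  · intro h
    have he' : e = x := congrArg Subtype.val (B.uniq' (y := ek) (y' := xk) hce cx h)
    exact hef' (by rw [he', hfx])
  · intro h
    have he' : e = z * x := congrArg Subtype.val (B.uniq' (y := ek) (y' := zk * xk) hce hzx' (by rwa [map_mul]))
    exact hef' (by rw [he']; exact (Commute.mul_right hfz hfx).eq.symm)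
  · intro h
    exact hef' (congrArg Subtype.val (B.comm_lift (c := ek) (y := fk) hcf h))

theorem card_K : Nat.card (Kg t w) = 80640 := by
  obtain ⟨F, iF, iFt, h4, ⟨ψ⟩⟩ := B.quot_L34
  rw [← (Wg t w).card_mul_index, Subgroup.index, L34.card ψ h4, B.cfg.card_Wg]

theorem exists_mem_K {s : ℕ} (hs : s = 5 ∨ s = 7) : ∃ b ∈ Kg t w, orderOf b = s := by
  haveI : Fact s.Prime := ⟨by rcases hs with rfl | rfl <;> norm_num⟩
  obtain ⟨⟨b, hb⟩, hbo⟩ := exists_prime_orderOf_dvd_card' (G := Kg t w) s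
    (by rw [B.card_K]; rcases hs with rfl | rfl <;> norm_num)
  exact ⟨b, hb, by rwa [Subgroup.orderOf_mk] at hbo⟩

theorem InW_odd {v : G} (hv : InW t w v) {s : ℕ} (hs : Odd s) (h : v ^ s = 1) : v = 1 := by
  obtain ⟨j, rfl⟩ := hs
  rwa [pow_succ, pow_mul, pow_two, B.cfg.InW_sq hv, one_pow, one_mul] at h

theorem orderOf_bar {s : ℕ} (hs : s = 5 ∨ s = 7) (b : Kg t w) (hb : orderOf (b : G) = s) :
    orderOf (QuotientGroup.mk' (Wg t w) b) = s := by
  haveI : Fact s.Prime := ⟨by rcases hs with rfl | rfl <;> norm_num⟩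
  refine orderOf_eq_prime (by
    rw [← map_pow, show b ^ s = 1 from Subtype.ext (by rw [SubmonoidClass.coe_pow, ← hb, pow_orderOf_eq_one]; rfl),
      map_one]) fun h => ?_
  have := B.InW_odd (B.cfg.mem_Wg.mp ((QuotientGroup.eq_one_iff b).mp h))
    (show Odd s by rcases hs with rfl | rfl <;> decide) (hb ▸ pow_orderOf_eq_one (b : G))
  rw [this, orderOf_one] at hb
  rcases hs with rfl | rfl <;> omega

/-- The centraliser in `K` of an element of order five or seven. -/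
theorem cent_K {s : ℕ} (hs : s = 5 ∨ s = 7) {b c : G} (hb : b ∈ Kg t w) (hbo : orderOf b = s) (hc : c ∈ Kg t w)
    (h : c * b = b * c) : ∃ i : ℤ, ∃ v, InW t w v ∧ c = b ^ i * v := by
  obtain ⟨F, iF, iFt, h4, ⟨ψ⟩⟩ := B.quot_L34
  have h1 := L34.cent_eq ψ h4 hs (B.orderOf_bar hs ⟨b, hb⟩ hbo) (c := QuotientGroup.mk' (Wg t w) ⟨c, hc⟩)
    (by rw [← map_mul, ← map_mul]; exact congrArg _ (Subtype.ext h))
  obtain ⟨i, hi⟩ := Subgroup.mem_zpowers_iff.mp h1
  rw [← map_zpow] at hi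
  have hv := B.cfg.mk_eq.mp hi
  rw [Subgroup.coe_zpow] at hv
  exact ⟨i, _, hv, (mul_inv_cancel_left _ _).symm⟩

theorem inverted_K {b : G} (hb : b ∈ Kg t w) (hbo : orderOf b = 5) : ∃ n ∈ Kg t w, n * b * n⁻¹ = b⁻¹ := by
  obtain ⟨F, iF, iFt, h4, ⟨ψ⟩⟩ := B.quot_L34
  obtain ⟨n', -, hn⟩ := (L34.exists_normalizing ψ h4).1 (B.orderOf_bar (Or.inl rfl) ⟨b, hb⟩ hbo)
  obtain ⟨n, rfl⟩ := QuotientGroup.mk'_surjective (Wg t w) n'
  rw [← map_inv, ← map_inv, ← map_mul, ← map_mul] at hn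
  have hv := B.cfg.mk_eq.mp hn
  refine ⟨n, n.2, ?_⟩
  simp only [Subgroup.coe_mul, Subgroup.coe_inv] at hv
  have hb5 : b ^ 5 = 1 := hbo ▸ pow_orderOf_eq_one b
  have hc5 : ((n : G) * b * (n : G)⁻¹)⁻¹ ^ 5 = 1 := by rw [inv_pow, conj_pow, hb5]; group
  have hcomm : Commute ((n : G) * b * (n : G)⁻¹)⁻¹ b⁻¹ := by
    obtain ⟨v, hvW, e⟩ : ∃ v, InW t w v ∧ b⁻¹ = (n : G) * b * (n : G)⁻¹ * v := ⟨_, hv, (mul_inv_cancel_left _ _).symm⟩
    rw [e]
    exact (((Commute.refl _).mul_right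
      (show Commute _ v from (B.cfg.InW_central hvW (mul_mem (mul_mem n.2 hb) (inv_mem n.2))).symm))).inv_left
  have h5 : (((n : G) * b * (n : G)⁻¹)⁻¹ * b⁻¹) ^ 5 = 1 := by rw [hcomm.mul_pow, hc5, inv_pow, hb5, inv_one, mul_one]
  exact inv_mul_eq_one.mp (B.InW_odd hv (by decide) h5)

theorem squared_K {b : G} (hb : b ∈ Kg t w) (hbo : orderOf b = 7) : ∃ n ∈ Kg t w, n * b * n⁻¹ = b ^ 2 := by
  obtain ⟨F, iF, iFt, h4, ⟨ψ⟩⟩ := B.quot_L34
  obtain ⟨n', hn⟩ := (L34.exists_normalizing ψ h4).2 (B.orderOf_bar (Or.inr rfl) ⟨b, hb⟩ hbo)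
  obtain ⟨n, rfl⟩ := QuotientGroup.mk'_surjective (Wg t w) n'
  rw [← map_inv, ← map_pow, ← map_mul, ← map_mul] at hn
  have hv := B.cfg.mk_eq.mp hn
  refine ⟨n, n.2, ?_⟩
  simp only [Subgroup.coe_mul, Subgroup.coe_inv, SubmonoidClass.coe_pow] at hv
  have hb7 : b ^ 7 = 1 := hbo ▸ pow_orderOf_eq_one b
  have hc7 : ((n : G) * b * (n : G)⁻¹)⁻¹ ^ 7 = 1 := by rw [inv_pow, conj_pow, hb7]; group
  have hcomm : Commute ((n : G) * b * (n : G)⁻¹)⁻¹ (b ^ 2) := by
    obtain ⟨v, hvW, e⟩ : ∃ v, InW t w v ∧ b ^ 2 = (n : G) * b * (n : G)⁻¹ * v := ⟨_, hv, (mul_inv_cancel_left _ _).symm⟩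
    rw [e]
    exact (((Commute.refl _).mul_right
      (show Commute _ v from (B.cfg.InW_central hvW (mul_mem (mul_mem n.2 hb) (inv_mem n.2))).symm))).inv_left
  have h7 : (((n : G) * b * (n : G)⁻¹)⁻¹ * b ^ 2) ^ 7 = 1 := by
    rw [hcomm.mul_pow, hc7, ← pow_mul, mul_comm 2 7, pow_mul, hb7, one_pow, mul_one]
  exact inv_mul_eq_one.mp (B.InW_odd hv (by decide) h7)

/-- Subgroups of order five, and of order seven, are conjugate in `K`. -/
theorem conj_K {s : ℕ} (hs : s = 5 ∨ s = 7) {a b : G} (ha : a ∈ Kg t w) (hao : orderOf a = s) (hb : b ∈ Kg t w)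
    (hbo : orderOf b = s) : ∃ m ∈ Kg t w, m * b * m⁻¹ ∈ Subgroup.zpowers a := by
  haveI : Fact s.Prime := ⟨by rcases hs with rfl | rfl <;> norm_num⟩
  obtain ⟨m, hm⟩ := L34.conj_zpowers (p := s) (H := Kg t w) (by rw [B.card_K]; rcases hs with rfl | rfl <;> norm_num)
    (a := ⟨a, ha⟩) (b := ⟨b, hb⟩) (by rw [Subgroup.orderOf_mk, hao]) (by rw [Subgroup.orderOf_mk, hbo])
  obtain ⟨i, hi⟩ := Subgroup.mem_zpowers_iff.mp hm
  exact ⟨m, m.2, Subgroup.mem_zpowers_iff.mpr ⟨i, congrArg Subtype.val hi⟩⟩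

end Base

end CfsgLib.SuzType
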