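import Cfsg.Agent.Lib.SuzType.Second.Sylow

/-!
Groups of Suzuki sporadic type: the two-group `C(z, x, t)` modulo the four group.
-/

set_option autoImplicit false
set_option linter.unusedSectionVars false
set_option linter.unusedVariables false

universe u

namespace CfsgLib.SuzType

open QuadraticMap
open CfsgLargeExtra
open CfsgLib.HallJankoType (mem_cent conj_fix_iff)

theorem aniso_perp : ∀ v : V, bf e0 v = 0 → bf d0 v = 0 → bf d1 v = 0 → qf v = 1 →
    v = e1 + f1 ∨ v = e1 + f1 + e0 := by decide +kernel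

theorem plane_perp : ∀ v : V, bf e0 v = 0 → bf d0 v = 0 → bf d1 v = 0 →
    v = 0 ∨ v = e0 ∨ v = e1 ∨ v = e1 + e0 ∨ v = f1 ∨ v = f1 + e0 ∨ v = e1 + f1 ∨ v = e1 + f1 + e0 := by decide +kernel

theorem plane_facts : qf (e1 + f1) = 1 ∧ qf e1 = 0 ∧ qf f1 = 0 ∧ e1 + f1 ≠ 0 ∧ e1 + f1 ≠ e0 ∧
    bf (e1 + f1) (e1 + f1) = 0 := by decide +kernel

variable {G : Type u} [Group G] [Finite G]

theorem conj_z_props {z x t w y : G} (C : Cfg z x t w) (hy : IsConj z y) : y * y = 1 ∧ y ≠ 1 ∧ ¬ (y = t ∨ y = w ∨ y = t * w) := by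
  obtain ⟨g, hg⟩ := isConj_iff.mp hy
  obtain ⟨hzz, -, hz1, -⟩ := C.rels
  obtain ⟨-, -, hzt, htw, httw, -⟩ := C.types
  refine ⟨?_, fun e => hz1 (conj_eq_one_iff.mp (hg.trans e)), ?_⟩
  · rw [← hg, show g * z * g⁻¹ * (g * z * g⁻¹) = g * (z * z) * g⁻¹ by group, hzz, mul_one, mul_inv_cancel]
  · rintro (rfl | rfl | rfl)
    exacts [hzt hy, hzt (hy.trans htw.symm), hzt (hy.trans httw.symm)]

/-- Membership in the four group. -/
def InW (t w v : G) : Prop := v = 1 ∨ v = t ∨ v = w ∨ v = t * w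

namespace Cfg

variable {z x t w : G} (C : Cfg z x t w)
include C

theorem InW_mem {v : G} (hv : InW t w v) : v ∈ Sg z x t := by
  rcases hv with rfl | rfl | rfl | rfl
  exacts [one_mem _, C.t_mem, C.w_mem, mul_mem C.t_mem C.w_mem]

theorem InW_central {v c : G} (hv : InW t w v) (hc : c ∈ Kg t w) : v * c = c * v := by
  obtain ⟨h1, h2⟩ := mem_Kg.mp hc
  rcases hv with rfl | rfl | rfl | rfl
  exacts [by simp, h1.symm, h2.symm, (Commute.mul_left h1.symm h2.symm : Commute (t * w) c)]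

theorem InW_sq {v : G} (hv : InW t w v) : v * v = 1 := by
  obtain ⟨-, -, -, -, -, -, htt, -, hww, htw, -⟩ := C.rels
  rcases hv with rfl | rfl | rfl | rfl
  · exact one_mul 1
  · exact htt
  · exact hww
  · rw [show t * w * (t * w) = t * (w * t) * w by group, ← htw, ← mul_assoc, htt, one_mul, hww]

/-- Each involution of `S` modulo the four group is represented by a conjugate of `z`. -/
theorem z_rep {y : G} (hy : y ∈ Sg z x t) (hy2 : InW t w (y * y)) (hyW : ¬ InW t w y) :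
    ∃ v, InW t w v ∧ IsConj z (y * v) := by
  have C' := C
  obtain ⟨s, a, b, Q, Q', π, π', M, M', F, r, hr, hw⟩ := C
  obtain ⟨hyz, hyx, hyt⟩ := mem_Sg.mp hy
  obtain ⟨A, D, hco, q1, q2⟩ := F.co_of_cent hyz hyx hyt
  have hU : y * y ∈ F.pr.U := F.co_zero (F.co_mul hco hco) (Or.inl (V_add_self A)) (Or.inl (V_add_self D))
  obtain ⟨cx, cxz, -⟩ := C'.types
  have hyy : y * y = 1 := by
    rcases hy2 with e | e
    · exact e
    · exfalso
      rcases hU with u | u | u | u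
      · rcases e with e | e | e <;> rw [u] at e
        · exact C'.rels.2.2.2.2.2.2.2.1 e.symm
        · exact C'.rels.2.2.2.2.2.2.2.2.2.2.1 e.symm
        · exact C'.rels.2.2.2.2.2.2.2.2.2.2.2.1
            ((inv_eq_of_mul_eq_one_right e.symm).symm.trans (inv_eq_of_mul_eq_one_right F.tt))
      · exact (conj_z_props C' (IsConj.refl z)).2.2 (u ▸ e)
      · exact (conj_z_props C' cx).2.2 (u ▸ e)
      · exact (conj_z_props C' cxz).2.2 ((u.trans F.pr.zx) ▸ e)
  have hy1 : y ≠ 1 := fun e => hyW (Or.inl e)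
  rcases F2_cases (bf A D) with hb | hb
  · exact ⟨1, Or.inl rfl, by rw [mul_one]; exact (F.co_type hco hyy hy1).mpr hb⟩
  obtain ⟨hqA, hqD⟩ := (F.co_sq hco).mp hyy
  rw [hb] at hqA hqD
  have hqA' : qf A = 1 := (show ∀ q : F2, q + 1 = 0 → q = 1 by decide) _ hqA
  have hqD' : qf D = 1 := (show ∀ q : F2, q + 1 = 0 → q = 1 by decide) _ hqD
  obtain ⟨-, -, -, -, -, -, -, hA, hD, -, -⟩ := id hco
  obtain ⟨-, -, -, -, -, -, b6, b7, b8, -⟩ := std_facts
  obtain ⟨h00, h11, h10, q01, b601⟩ := d_facts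
  obtain ⟨-, -, -, hcw⟩ := F.turn_mem hr
  have mk : ∀ (v : G) (A0 D0 : V), InW t w v → F.Co v A0 D0 → bf A D0 + bf A0 D + bf A0 D0 + 1 = 0 →
      ∃ v, InW t w v ∧ IsConj z (y * v) := by
    intro v A0 D0 hv hcv h0
    have hvy : v * y = y * v := C'.InW_central hv (C'.Sg_le hy)
    have h2 : y * v * (y * v) = 1 := by
      rw [show y * v * (y * v) = y * (v * y) * v by group, hvy, ← mul_assoc, hyy, one_mul, C'.InW_sq hv]
    have h1 : y * v ≠ 1 := fun e => hyW (by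
      rw [eq_inv_of_mul_eq_one_left e, inv_eq_of_mul_eq_one_right (C'.InW_sq hv)]; exact hv)
    refine ⟨v, hv, (F.co_type (F.co_mul hco hcv) h2 h1).mpr ?_⟩
    rw [bf_add_left, bf_add_right, bf_add_right, hb]
    revert h0
    generalize bf A D0 = i, bf A0 D = j, bf A0 D0 = k
    revert i j k
    decide
  obtain ⟨i, hi⟩ : ∃ i, bf A d0 = i := ⟨_, rfl⟩
  obtain ⟨j, hj⟩ : ∃ j, bf A d1 = j := ⟨_, rfl⟩
  obtain ⟨k, hk⟩ : ∃ k, bf D d0 = k := ⟨_, rfl⟩
  obtain ⟨l, hl⟩ : ∃ l, bf D d1 = l := ⟨_, rfl⟩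
  rw [hi, hk, hj] at q1
  rw [hl, hk, hj] at q2
  obtain ⟨hkk, hll⟩ := (show ∀ i j k l : F2, i + k + j = 0 → l + k + j = 0 → k = i + j ∧ l = i by decide) i j k l q1 q2
  rw [hkk] at hk
  rw [hll] at hl
  clear q1 q2 hkk hll
  have hk' : bf d0 D = i + j := by rw [bf_comm, hk]
  have hl' : bf d1 D = i := by rw [bf_comm, hl]
  have h01 : bf d0 (d0 + d1) = 1 := by rw [bf_add_right, h00, b8, zero_add]
  have hcases : ∀ (v : G) (A0 D0 : V), InW t w v → F.Co v A0 D0 →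
      ((A0 = d1 ∧ D0 = d0 + d1) ∧ i = 1 ∧ j = 0) ∨ ((A0 = d0 + d1 ∧ D0 = d0) ∧ i = 1 ∧ j = 1) →
      ∃ v, InW t w v ∧ IsConj z (y * v) := by
    rintro v A0 D0 hv hcv (⟨⟨rfl, rfl⟩, rfl, rfl⟩ | ⟨⟨rfl, rfl⟩, rfl, rfl⟩) <;> refine mk v _ _ hv hcv ?_ <;>
      simp only [bf_add_left, bf_add_right, hi, hj, hk', hl', h00, h11, h10, b8] <;> decide
  rcases F2_cases i with rfl | rfl <;> rcases F2_cases j with rfl | rfl
  · exfalso
    rw [zero_add] at hk'
    rcases aniso_perp A hA (by rw [bf_comm, hi]) (by rw [bf_comm, hj]) hqA' with e | e <;>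
      rcases aniso_perp D hD hk' hl' hqD' with e' | e' <;>
      · have := hb
        rw [e, e'] at this
        exact absurd this (by decide +kernel)
  · refine mk t d0 d1 (Or.inr (Or.inl rfl)) F.co_t ?_
    rw [hj, hk', b8]; decide
  · rcases F.turn_co hr with hh | hh <;> rw [hw] at hh
    · exact hcases w _ _ (Or.inr (Or.inr (Or.inl rfl))) hh (Or.inl ⟨⟨rfl, rfl⟩, rfl, rfl⟩)
    · refine hcases (t * w) _ _ (Or.inr (Or.inr (Or.inr rfl))) (F.co_mul F.co_t hh) (Or.inl ⟨⟨?_, ?_⟩, rfl, rfl⟩)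
      · rw [← add_assoc, V_add_self, zero_add]
      · rw [add_comm d1 d0]
  · rcases F.turn_co hr with hh | hh <;> rw [hw] at hh
    · refine hcases (t * w) _ _ (Or.inr (Or.inr (Or.inr rfl))) (F.co_mul F.co_t hh) (Or.inr ⟨⟨rfl, ?_⟩, rfl, rfl⟩)
      rw [add_comm d0 d1, ← add_assoc, V_add_self, zero_add]
    · exact hcases w _ _ (Or.inr (Or.inr (Or.inl rfl))) hh (Or.inr ⟨⟨rfl, rfl⟩, rfl, rfl⟩)

/-- A conjugate of `z` times a nontrivial element of the four group is not conjugate to `z`. -/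
theorem not_conj_mul {v : G} (hv : InW t w v) (h1 : v ≠ 1) : ¬ IsConj z (z * v) := by
  have C' := C
  obtain ⟨s, a, b, Q, Q', π, π', M, M', F, r, hr, hw⟩ := C
  obtain ⟨h00, h11, h10, q01, b601⟩ := d_facts
  obtain ⟨-, -, -, -, -, -, b6, b7, b8, -⟩ := std_facts
  intro hc
  obtain ⟨p1, p2, -⟩ := conj_z_props C' hc
  have main : ∀ A0 D0 : V, bf A0 D0 = 1 → F.Co v A0 D0 → False := fun A0 D0 hb hcv => by
    have := (F.co_type (F.co_mul (F.U_mem_co F.pr.zU) hcv) p1 p2).mp hc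
    rw [zero_add, zero_add, hb] at this
    exact one_ne_zero this
  have hcw := F.turn_co hr
  rw [hw] at hcw
  have bA : bf d1 (d0 + d1) = 1 := by rw [bf_add_right, h10, h11, add_zero]
  have bB : bf (d0 + d1) d0 = 1 := by rw [bf_comm, bf_add_right, h00, b8, zero_add]
  rcases hv with rfl | rfl | rfl | rfl
  · exact h1 rfl
  · exact main _ _ b8 F.co_t
  · rcases hcw with hh | hh
    · exact main _ _ bA hh
    · exact main _ _ bB hh
  · rcases hcw with hh | hh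
    · refine main _ _ ?_ (F.co_mul F.co_t hh)
      rw [add_comm d0 d1, ← add_assoc, V_add_self, zero_add, add_comm d1 d0]; exact bB
    · refine main _ _ ?_ (F.co_mul F.co_t hh)
      rw [← add_assoc, V_add_self, zero_add, add_comm d1 d0]; exact bA

/-- Generation by conjugates of `z`. -/
theorem Sg_gen : Sg z x t ≤ Subgroup.closure ({a | a ∈ Sg z x t ∧ IsConj z a} ∪ {t, w}) := by
  have C' := C
  obtain ⟨s, a, b, Q, Q', π, π', M, M', F, r, hr, hw⟩ := C
  intro y hy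
  set H := Subgroup.closure ({a | a ∈ Sg z x t ∧ IsConj z a} ∪ {t, w})
  have hsub : ∀ {g}, g ∈ Sg z x t ∧ IsConj z g → g ∈ H := fun h => Subgroup.subset_closure (Or.inl h)
  have htH : t ∈ H := Subgroup.subset_closure (Or.inr (Or.inl rfl))
  have hwH : w ∈ H := Subgroup.subset_closure (Or.inr (Or.inr rfl))
  obtain ⟨cx, cxz, -⟩ := C'.types
  have hUH : ∀ u ∈ F.pr.U, u ∈ H := by
    rintro u (rfl | rfl | rfl | rfl)
    · exact one_mem _
    · exact hsub ⟨C'.z_mem, IsConj.refl _⟩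
    · exact hsub ⟨C'.x_mem, cx⟩
    · exact mul_mem (hsub ⟨C'.z_mem, IsConj.refl _⟩) (hsub ⟨C'.x_mem, cx⟩)
  obtain ⟨e10, e11, g10, g11, b5, b0f, b0ef, ef0, ef1⟩ := basis_eqs
  have inH : ∀ {g : G} {A D : V}, g ∈ Sg z x t → F.Co g A D → (∃ g', g' ∈ H ∧ ∃ A' D', F.Co g' A' D' ∧ Eqp e0 A A' ∧ Eqp e0 D D') → g ∈ H := by
    rintro g A D hg hco ⟨g', hg', A', D', hco', eA, eD⟩
    have hu : g' * g ∈ F.pr.U := F.co_zero (F.co_mul hco' hco)
      (by have := (Eqp.refl e0 A).add eA; rw [V_add_self, add_comm] at this; exact this)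
      (by have := (Eqp.refl e0 D).add eD; rw [V_add_self, add_comm] at this; exact this)
    have := mul_mem (inv_mem hg') (hUH _ hu)
    rwa [inv_mul_cancel_left] at this
  have basic : ∀ v : V, v = 0 ∨ v = e1 ∨ v = f1 → ∃ p q : G, p ∈ H ∧ q ∈ H ∧ F.Co p v 0 ∧ F.Co q 0 v := by
    intro v hv
    have hv' : bf e0 v = 0 ∧ bf v d0 = 0 ∧ bf v d1 = 0 ∧ qf v = 0 := by
      rcases hv with rfl | rfl | rfl
      · exact ⟨bf_zero_right _, bf_zero_left _, bf_zero_left _, map_zero qf⟩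
      · exact ⟨b5, e10, e11, plane_facts.2.1⟩
      · exact ⟨b0f, g10, g11, plane_facts.2.2.1⟩
    have one : ∀ A D : V, (A = v ∧ D = 0) ∨ (A = 0 ∧ D = v) → ∃ p, p ∈ H ∧ F.Co p A D := by
      intro A D hAD
      obtain ⟨hA, hD, hq, hq'⟩ : bf e0 A = 0 ∧ bf e0 D = 0 ∧ qf A = 0 ∧ qf D = 0 := by
        rcases hAD with ⟨rfl, rfl⟩ | ⟨rfl, rfl⟩
        exacts [⟨hv'.1, bf_zero_right _, hv'.2.2.2, map_zero qf⟩, ⟨bf_zero_right _, hv'.1, map_zero qf, hv'.2.2.2⟩]
      obtain ⟨p, hp⟩ := F.co_exists hA hD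
      have hb : bf A D = 0 := by rcases hAD with ⟨-, rfl⟩ | ⟨rfl, -⟩ <;> simp [bf_zero_left, bf_zero_right]
      have hpt : p * t = t * p := (F.co_commute hp F.co_t).mpr (by
        rcases hAD with ⟨rfl, rfl⟩ | ⟨rfl, rfl⟩ <;> simp [bf_zero_left, hv'.2.1, hv'.2.2.1])
      have hS : p ∈ Sg z x t := mem_Sg.mpr ⟨(F.co_comm hp).1, (F.co_comm hp).2, hpt⟩
      refine ⟨p, ?_, hp⟩
      by_cases h1 : p = 1
      · rw [h1]; exact one_mem _
      · exact hsub ⟨hS, (F.co_type hp ((F.co_sq hp).mpr ⟨by rw [hq, hb, add_zero], by rw [hq', hb, add_zero]⟩) h1).mpr hb⟩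
    obtain ⟨p, hp, hp'⟩ := one v 0 (Or.inl ⟨rfl, rfl⟩)
    obtain ⟨q, hq, hq'⟩ := one 0 v (Or.inr ⟨rfl, rfl⟩)
    exact ⟨p, q, hp, hq, hp', hq'⟩
  obtain ⟨pe, qe, hpe, hqe, cpe, cqe⟩ := basic e1 (Or.inr (Or.inl rfl))
  obtain ⟨pf, qf', hpf, hqf, cpf, cqf⟩ := basic f1 (Or.inr (Or.inr rfl))
  have left : ∀ A : V, bf e0 A = 0 → bf d0 A = 0 → bf d1 A = 0 →
      ∃ g, g ∈ H ∧ ∃ A', F.Co g A' 0 ∧ Eqp e0 A A' := by
    intro A hA h0 h1
    rcases plane_perp A hA h0 h1 with e | e | e | e | e | e | e | e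
    · exact ⟨1, one_mem _, 0, F.U_mem_co (one_mem _), Or.inl e.symm⟩
    · exact ⟨1, one_mem _, 0, F.U_mem_co (one_mem _), Or.inr (by rw [e, V_add_self])⟩
    · exact ⟨pe, hpe, e1, cpe, Or.inl e.symm⟩
    · exact ⟨pe, hpe, e1, cpe, Or.inr (by rw [e, add_assoc, V_add_self, add_zero])⟩
    · exact ⟨pf, hpf, f1, cpf, Or.inl e.symm⟩
    · exact ⟨pf, hpf, f1, cpf, Or.inr (by rw [e, add_assoc, V_add_self, add_zero])⟩
    · exact ⟨pe * pf, mul_mem hpe hpf, e1 + f1, by simpa using F.co_mul cpe cpf, Or.inl e.symm⟩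
    · exact ⟨pe * pf, mul_mem hpe hpf, e1 + f1, by simpa using F.co_mul cpe cpf,
        Or.inr (by rw [e, add_assoc, V_add_self, add_zero])⟩
  have right : ∀ A : V, bf e0 A = 0 → bf d0 A = 0 → bf d1 A = 0 →
      ∃ g, g ∈ H ∧ ∃ A', F.Co g 0 A' ∧ Eqp e0 A A' := by
    intro A hA h0 h1
    rcases plane_perp A hA h0 h1 with e | e | e | e | e | e | e | e
    · exact ⟨1, one_mem _, 0, F.U_mem_co (one_mem _), Or.inl e.symm⟩
    · exact ⟨1, one_mem _, 0, F.U_mem_co (one_mem _), Or.inr (by rw [e, V_add_self])⟩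
    · exact ⟨qe, hqe, e1, cqe, Or.inl e.symm⟩
    · exact ⟨qe, hqe, e1, cqe, Or.inr (by rw [e, add_assoc, V_add_self, add_zero])⟩
    · exact ⟨qf', hqf, f1, cqf, Or.inl e.symm⟩
    · exact ⟨qf', hqf, f1, cqf, Or.inr (by rw [e, add_assoc, V_add_self, add_zero])⟩
    · exact ⟨qe * qf', mul_mem hqe hqf, e1 + f1, by simpa using F.co_mul cqe cqf, Or.inl e.symm⟩
    · exact ⟨qe * qf', mul_mem hqe hqf, e1 + f1, by simpa using F.co_mul cqe cqf,
        Or.inr (by rw [e, add_assoc, V_add_self, add_zero])⟩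
  have zero : ∀ {g : G} {A D : V}, g ∈ Sg z x t → F.Co g A D → bf d0 A = 0 → bf d1 A = 0 → g ∈ H := by
    intro g A D hg hco hi hj
    obtain ⟨q1, q2⟩ := F.co_cent_eq hco (mem_Sg.mp hg).2.2
    rw [bf_comm A d0, hi, bf_comm A d1, hj, zero_add, add_zero] at q1
    rw [q1, bf_comm A d1, hj, add_zero, add_zero] at q2
    obtain ⟨-, -, -, -, -, -, -, hA, hD, -, -⟩ := id hco
    obtain ⟨g1, hg1, A', hco1, eA⟩ := left A hA hi hj
    obtain ⟨g2, hg2, D', hco2, eD⟩ := right D hD (by rw [bf_comm]; exact q1) (by rw [bf_comm]; exact q2)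
    exact inH hg hco ⟨g1 * g2, mul_mem hg1 hg2, _, _, F.co_mul hco1 hco2, by rwa [add_zero], by rwa [zero_add]⟩
  obtain ⟨hyz, hyx, hyt⟩ := mem_Sg.mp hy
  obtain ⟨A, D, hco, -⟩ := F.co_of_cent hyz hyx hyt
  obtain ⟨h00, h11, h10, q01, b601⟩ := d_facts
  obtain ⟨-, -, -, -, -, -, b6, b7, b8, -⟩ := std_facts
  have step : ∀ (v : G) (A0 D0 : V), v ∈ H → v ∈ Sg z x t → F.Co v A0 D0 → bf d0 A + bf d0 A0 = 0 →
      bf d1 A + bf d1 A0 = 0 → y ∈ H := by
    intro v A0 D0 hvH hvS hcv h0 h1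
    have := zero (mul_mem hy hvS) (F.co_mul hco hcv) (by rw [bf_add_right]; exact h0) (by rw [bf_add_right]; exact h1)
    have := mul_mem this (inv_mem hvH)
    rwa [mul_inv_cancel_right] at this
  have hcw := F.turn_co hr
  rw [hw] at hcw
  have bA : bf d0 d1 = 1 ∧ bf d1 d1 = 0 := ⟨b8, h11⟩
  rcases F2_cases (bf d0 A) with hi | hi <;> rcases F2_cases (bf d1 A) with hj | hj
  · exact zero hy hco hi hj
  · exact step t _ _ htH C'.t_mem F.co_t (by rw [hi, h00, add_zero]) (by rw [hj, h10]; decide)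
  · rcases hcw with hh | hh
    · exact step w _ _ hwH C'.w_mem hh (by rw [hi, b8]; decide) (by rw [hj, h11, add_zero])
    · refine step (t * w) _ _ (mul_mem htH hwH) (mul_mem C'.t_mem C'.w_mem) (F.co_mul F.co_t hh) ?_ ?_ <;>
        simp only [bf_add_right, hi, hj, h00, h10, h11, b8] <;> decide
  · rcases hcw with hh | hh
    · refine step (t * w) _ _ (mul_mem htH hwH) (mul_mem C'.t_mem C'.w_mem) (F.co_mul F.co_t hh) ?_ ?_ <;>
        simp only [bf_add_right, hi, hj, h00, h10, h11, b8] <;> decide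
    · refine step w _ _ hwH C'.w_mem hh ?_ ?_ <;> simp only [bf_add_right, hi, hj, h00, h10, h11, b8] <;> decide

/-- Two conjugates of `z` in `S` with commutator `z`. -/
theorem exists_pair_S : ∃ e ∈ Sg z x t, ∃ f ∈ Sg z x t, IsConj z e ∧ IsConj z f ∧ e * f * e⁻¹ = f * z := by
  obtain ⟨s, a, b, Q, Q', π, π', M, M', F, r, hr, hw⟩ := C
  obtain ⟨e10, e11, g10, g11, b5, b0f, -⟩ := basis_eqs
  have mk : ∀ v : V, bf e0 v = 0 → bf v d0 = 0 → bf v d1 = 0 → qf v = 0 → ¬ Eqp e0 0 v →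
      ∃ p, p ∈ Sg z x t ∧ IsConj z p ∧ F.Co p v 0 := by
    intro v hv h0 h1 hq hn
    obtain ⟨p, hp⟩ := F.co_exists hv (bf_zero_right e0)
    have hpt : p * t = t * p := (F.co_commute hp F.co_t).mpr (by simp [bf_zero_left, h0, h1])
    have hp1 : p ≠ 1 := fun e => hn (F.co_unique (e ▸ F.U_mem_co (one_mem _)) hp).1
    exact ⟨p, mem_Sg.mpr ⟨(F.co_comm hp).1, (F.co_comm hp).2, hpt⟩, (F.co_type hp ((F.co_sq hp).mpr
      ⟨by rw [hq, bf_zero_right, add_zero], by rw [bf_zero_right, map_zero, add_zero]⟩) hp1).mpr (bf_zero_right _), hp⟩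
  obtain ⟨e, he, ce, coe⟩ := mk e1 b5 e10 e11 plane_facts.2.1 (F.small_ne (Or.inl (Eqp.refl e0 e1)))
  obtain ⟨f, hf, cf, cof⟩ := mk f1 b0f g10 g11 plane_facts.2.2.1 (F.small_ne (Or.inr (Eqp.refl e0 f1)))
  refine ⟨e, he, f, hf, ce, cf, ?_⟩
  rw [F.co_conj_val coe cof]
  simp [bf_zero_left, bf_zero_right, f1_facts.2.2.1]

/-- An involution of `C(z, t)` moving `x` fixes only `z` among the conjugates of `z` in `S`. -/
theorem outer_fixed_z {c y : G} (hcz : c * z = z * c) (hct : c * t = t * c) (hcx : c * x * c⁻¹ ≠ x)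
    (hy : y ∈ Sg z x t) (hyc : IsConj z y) (hfix : c * y = y * c) : y = z := by
  have C' := C
  obtain ⟨hzz, hxx, hz1, hx1, hne, hzx, -⟩ := C.rels
  obtain ⟨p1, p2, -⟩ := conj_z_props C hyc
  obtain ⟨s, a, b, Q, Q', π, π', M, M', F, r, hr, hw⟩ := C
  obtain ⟨hxz, g0, g1, ge, gf⟩ := F.outer hcz hct hcx
  obtain ⟨hyz, hyx, hyt⟩ := mem_Sg.mp hy
  obtain ⟨A, D, hco, q1, q2⟩ := F.co_of_cent hyz hyx hyt
  have himg := F.outer_co hcz hct hcx hco
  rw [conj_fix_iff.mpr hfix] at himg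
  obtain ⟨eA, eD⟩ := F.co_unique hco himg
  have h0 := (F.point_cases hcz hct).1
  have mp : ∀ {v v' : V}, Eqp e0 v v' → Eqp e0 ((M c).1 v) ((M c).1 v') := fun {v v'} hh => by
    have := hh.map (M c)
    rwa [h0] at this
  have mp0 : ∀ {v : V}, Eqp e0 0 v → Eqp e0 0 ((M c).1 v) := fun {v} hh => by
    have := mp hh
    rwa [map_zero] at this
  have hb := (F.co_type hco p1 p2).mp hyc
  obtain ⟨hqA, hqD⟩ := (F.co_sq hco).mp p1
  rw [hb, add_zero] at hqA hqD
  obtain ⟨-, -, -, -, -, -, -, hA, hD, -, -⟩ := id hco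
  have hfin : Eqp e0 0 A ∧ Eqp e0 0 D := by
    have hcases : Eqp e0 0 A ∨ Eqp e0 0 D ∨ Eqp e0 A D := by
      rcases witt_index A D hqA hqD hA hD hb with e | e | e | e | e | e
      · exact Or.inl (Or.inl e)
      · exact Or.inl (Or.inr (by rw [e, zero_add]))
      · exact Or.inr (Or.inl (Or.inl e))
      · exact Or.inr (Or.inl (Or.inr (by rw [e, zero_add])))
      · exact Or.inr (Or.inr (Or.inl e))
      · exact Or.inr (Or.inr (Or.inr e))
    rcases hcases with e | e | e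
    · refine ⟨e, F.not_zero (M c) h0 ?_⟩
      have := (e.trans eA).add (mp0 e)
      rw [add_zero, add_comm ((M c).1 A) ((M c).1 D), add_assoc, V_add_self, add_zero] at this
      exact this
    · refine ⟨?_, e⟩
      have q2' : bf D d0 = 0 ∧ bf D d1 = 0 := by
        constructor
        · rw [F.eqp_bf e std_facts.2.2.2.2.2.2.1, bf_zero_left]
        · rw [F.eqp_bf e std_facts.2.2.2.2.2.2.2.1, bf_zero_left]
      rw [q2'.1, q2'.2, zero_add, zero_add] at q2
      rw [q2'.1, q2, add_zero, add_zero] at q1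
      have eA' : Eqp e0 A ((M c).1 A) := by
        have := eA.add (mp0 e)
        rw [add_zero, add_assoc, V_add_self, add_zero] at this
        exact this
      rcases eqp_small (perp_split A hA (by rw [bf_comm]; exact q1) (by rw [bf_comm]; exact q2) hqA) with u | u | u
      · exact u
      all_goals exfalso
      · have h2 := ((ge.trans (mp u)).trans eA'.symm).trans u.symm
        rcases h2 with h2 | h2
        · exact f1_facts.2.2.2.2.2.2.2.2.2.2.2.2.2.1 h2.symm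
        · exact F.small_ne (Or.inl (Eqp.refl e0 e1)) (by
            have := (show Eqp e0 f1 e1 from Or.inr h2)
            exact absurd this (fun h' => by
              have := F.eqp_bf h' (w := e1) basis_eqs.2.2.2.2.1
              rw [bf_self, bf_comm, f1_facts.2.2.1] at this
              exact one_ne_zero this.symm))
      · have h2 := ((gf.trans (mp u)).trans eA'.symm).trans u.symm
        have := F.eqp_bf h2 (w := e1) basis_eqs.2.2.2.2.1
        rw [bf_self, bf_comm, f1_facts.2.2.1] at this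
        exact one_ne_zero this
    · have : Eqp e0 0 A := by
        have h3 := eA.trans ((mp e).add (Eqp.refl e0 ((M c).1 D)))
        rw [V_add_self] at h3
        exact h3.symm
      exact ⟨this, this.trans e⟩
  rcases F.co_zero hco hfin.1 hfin.2 with e | e | e | e
  · exact absurd e p2
  · exact e
  · rw [e, ← conj_fix_iff, hxz] at hfix
    exact absurd (mul_eq_left.mp hfix) hz1
  · rw [e, ← conj_fix_iff, show c * (z * x) * c⁻¹ = c * z * c⁻¹ * (c * x * c⁻¹) by group, conj_fix_iff.mpr hcz,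
      hxz, ← mul_assoc] at hfix
    exact absurd (mul_eq_left.mp hfix) hz1

/-- An involution of `C(z, t)` moving `x` fixes an element of `S` outside `⟨z⟩ W`. -/
theorem outer_fixed_elem {c : G} (hcz : c * z = z * c) (hct : c * t = t * c) (hcx : c * x * c⁻¹ ≠ x) (hcc : c * c = 1) :
    ∃ y ∈ Sg z x t, c * y = y * c ∧ ¬ InW t w y ∧ ¬ InW t w (z * y) := by
  have C' := C
  obtain ⟨hzz, hxx, hz1, hx1, hne, hzx, -⟩ := C.rels
  obtain ⟨s, a, b, Q, Q', π, π', M, M', F, r, hr, hw⟩ := C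
  obtain ⟨hxz, g0, g1, ge, gf⟩ := F.outer hcz hct hcx
  obtain ⟨e10, e11, g10, g11, b5, b0f, b0ef, ef0, ef1⟩ := basis_eqs
  obtain ⟨y0, hco⟩ := F.co_exists b0ef (bf_zero_right e0)
  have hyt : y0 * t = t * y0 := (F.co_commute hco F.co_t).mpr (by simp [bf_zero_left, ef0, ef1])
  have hS : y0 ∈ Sg z x t := mem_Sg.mpr ⟨(F.co_comm hco).1, (F.co_comm hco).2, hyt⟩
  have himg := F.outer_co hcz hct hcx hco
  rw [map_zero, add_zero, map_add] at himg
  have he : Eqp e0 (e1 + f1) ((M c).1 e1 + (M c).1 f1) := by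
    have := ge.add gf
    rwa [add_comm f1 e1] at this
  have hu : y0 * (c * y0 * c⁻¹) ∈ F.pr.U := F.co_zero (F.co_mul hco himg)
    (by have := (Eqp.refl e0 (e1 + f1)).add he; rwa [V_add_self] at this) (Or.inl (add_zero _))
  obtain ⟨u, hudef⟩ : ∃ u, u = y0⁻¹ * (c * y0 * c⁻¹) := ⟨_, rfl⟩
  have hU : u ∈ F.pr.U := by
    have h2 : y0 * y0 ∈ F.pr.U := F.co_zero (F.co_mul hco hco) (Or.inl (V_add_self _)) (Or.inl (add_zero _))
    have := mul_mem (inv_mem h2) hu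
    rwa [show (y0 * y0)⁻¹ * (y0 * (c * y0 * c⁻¹)) = u by rw [hudef]; group] at this
  have hcy : c * y0 * c⁻¹ = y0 * u := by rw [hudef]; group
  have hci : c⁻¹ = c := inv_eq_of_mul_eq_one_right hcc
  have h2 : y0 * (u * (c * u * c⁻¹)) = y0 := by
    calc y0 * (u * (c * u * c⁻¹)) = y0 * u * (c * u * c⁻¹) := by group
      _ = c * y0 * c⁻¹ * (c * u * c⁻¹) := by rw [hcy]
      _ = c * (y0 * u) * c⁻¹ := by group
      _ = c * (c * y0 * c⁻¹) * c⁻¹ := by rw [hcy]
      _ = c * c * y0 * (c * c)⁻¹ := by group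
      _ = y0 := by rw [hcc]; group
  rw [mul_eq_left] at h2
  have cz : c * z * c⁻¹ = z := conj_fix_iff.mpr hcz
  have fin : ∀ y, y ∈ Sg z x t → F.Co y (e1 + f1) 0 → c * y * c⁻¹ = y →
      ∃ y ∈ Sg z x t, c * y = y * c ∧ ¬ InW t w y ∧ ¬ InW t w (z * y) := by
    intro y hy hcoy hfix
    have key : ∀ v : G, InW t w v → ∀ (u : G), u ∈ F.pr.U → u * y ≠ v := by
      intro v hv u hu e
      have hc' := F.co_mul (F.U_mem_co hu) hcoy
      rw [zero_add, zero_add, e] at hc'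
      have hcv : ∀ A0 D0 : V, F.Co v A0 D0 → Eqp e0 0 D0 ∧ Eqp e0 (e1 + f1) A0 := fun A0 D0 h' =>
        ⟨(F.co_unique hc' h').2, (F.co_unique hc' h').1⟩
      obtain ⟨h00, h11, h10, q01, b601⟩ := d_facts
      obtain ⟨-, -, -, -, -, -, b6, b7, b8, -⟩ := std_facts
      have bad : ∀ D0 : V, Eqp e0 0 D0 → bf D0 d0 = 1 ∨ bf D0 d1 = 1 → False := fun D0 h0 hh => by
        rcases hh with hh | hh
        · rw [F.eqp_bf h0 b6, bf_zero_left] at hh; exact zero_ne_one hh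
        · rw [F.eqp_bf h0 b7, bf_zero_left] at hh; exact zero_ne_one hh
      have hcw := F.turn_co hr
      rw [hw] at hcw
      rcases hv with rfl | rfl | rfl | rfl
      · obtain ⟨-, hA⟩ := hcv 0 0 (F.U_mem_co (one_mem _))
        rcases hA.symm with h' | h'
        · exact plane_facts.2.2.2.1 h'
        · exact plane_facts.2.2.2.2.1 (by rw [h', zero_add])
      · exact bad _ (hcv _ _ F.co_t).1 (Or.inl h10)
      · rcases hcw with hh | hh
        · exact bad _ (hcv _ _ hh).1 (Or.inr (by rw [bf_add_left, b8, h11, add_zero]))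
        · exact bad _ (hcv _ _ hh).1 (Or.inr b8)
      · rcases hcw with hh | hh
        · refine bad _ (hcv _ _ (F.co_mul F.co_t hh)).1 (Or.inr ?_)
          simp only [bf_add_left, b8, h11]; decide
        · refine bad _ (hcv _ _ (F.co_mul F.co_t hh)).1 (Or.inl ?_)
          simp only [bf_add_left, h10, h00]; decide
    refine ⟨y, hy, conj_fix_iff.mp hfix, fun h => key _ h 1 (one_mem _) (one_mul _), fun h => key _ h z F.pr.zU rfl⟩
  rcases hU with e | e | e | e <;> rw [e] at hcy h2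
  · exact fin y0 hS hco (by rw [hcy, mul_one])
  · refine fin (y0 * x) (mul_mem hS C'.x_mem) ?_ ?_
    · have := F.co_mul hco (F.U_mem_co F.pr.xU)
      rwa [add_zero, add_zero] at this
    · rw [show c * (y0 * x) * c⁻¹ = c * y0 * c⁻¹ * (c * x * c⁻¹) by group, hcy, hxz, mul_assoc y0 z, ← hzx,
        ← mul_assoc z z, hzz, one_mul]
  · rw [hxz, ← mul_assoc, hxx, one_mul] at h2
    exact absurd h2 hz1
  · rw [show c * (z * x) * c⁻¹ = c * z * c⁻¹ * (c * x * c⁻¹) by group, cz, hxz, ← hzx, ← mul_assoc, hzx,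
      mul_assoc x z z, hzz, mul_one, ← mul_assoc, hxx, one_mul] at h2
    exact absurd h2 hz1

end Cfg

end CfsgLib.SuzType
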