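import Cfsg.Agent.Lib.SuzType.Second.FiveOrder
import Cfsg.Agent.Lib.DihedralShape

/-!
Groups of Suzuki sporadic type: the Sylow seven-subgroups.
-/

set_option autoImplicit false
set_option linter.unusedSectionVars false
set_option linter.unusedVariables false

universe u

namespace CfsgLib.SuzType

open Cfsg QuadraticMap CfsgLargeExtra
open CfsgLib.HallJankoType (mem_cent conj_fix_iff)

theorem odd_power_five (k : Fin 5) : ∀ j : ℕ, k.1 ^ (2 * j + 1) % 5 = 1 → k.1 = 1 := by
  have step : ∀ k r : Fin 5, ((k.1 = 4 ∧ r.1 = 4) ∨ ((k.1 = 2 ∨ k.1 = 3) ∧ (r.1 = 2 ∨ r.1 = 3)) ∨ (k.1 = 0 ∧ r.1 = 0) ∨ k.1 = 1) →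
      (k.1 = 4 ∧ r.1 * (k.1 * k.1) % 5 = 4) ∨ ((k.1 = 2 ∨ k.1 = 3) ∧ (r.1 * (k.1 * k.1) % 5 = 2 ∨ r.1 * (k.1 * k.1) % 5 = 3)) ∨
        (k.1 = 0 ∧ r.1 * (k.1 * k.1) % 5 = 0) ∨ k.1 = 1 := by decide
  have inv : ∀ j : ℕ, (k.1 = 4 ∧ k.1 ^ (2 * j + 1) % 5 = 4) ∨ ((k.1 = 2 ∨ k.1 = 3) ∧ (k.1 ^ (2 * j + 1) % 5 = 2 ∨ k.1 ^ (2 * j + 1) % 5 = 3)) ∨
      (k.1 = 0 ∧ k.1 ^ (2 * j + 1) % 5 = 0) ∨ k.1 = 1 := by
    intro j
    induction j with
    | zero => have := k.2; simp only [Nat.mul_zero, Nat.zero_add, pow_one]; omega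
    | succ j ih =>
      have := step k ⟨k.1 ^ (2 * j + 1) % 5, Nat.mod_lt _ (by norm_num)⟩ ih
      rw [show 2 * (j + 1) + 1 = (2 * j + 1) + 2 by ring, pow_add, pow_two, Nat.mul_mod]
      rw [Nat.mul_mod] at this
      simpa using this
  intro j hj
  rcases inv j with ⟨-, e⟩ | ⟨-, e⟩ | ⟨-, e⟩ | e <;> omega

theorem seven_twenty_five : ∀ k : Fin 7, k.1 ^ 25 % 7 = 1 → k.1 = 1 := by decide

variable {G : Type u} [Group G] [Finite G] {z x t w : G} {Q : Subgroup G} {π : G → V} {M : G → O6}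

namespace Base

variable (B : Base z x t w Q) (h : ST z Q π M)
include B h

/-- The Sylow seven-subgroups have order seven and are spanned by conjugates of an element of `K`. -/
theorem sylow_seven (P : Sylow 7 G) :
    ∃ b g : G, b ∈ Kg t w ∧ orderOf b = 7 ∧ (P : Subgroup G) = Subgroup.zpowers (g * b * g⁻¹) := by
  haveI : Fact (Nat.Prime 7) := ⟨by norm_num⟩
  obtain ⟨b, hb, hbo⟩ := B.exists_mem_K (Or.inr rfl : (7 : ℕ) = 5 ∨ (7 : ℕ) = 7)
  obtain ⟨R, hR⟩ :=
    (IsPGroup.of_card (G := Subgroup.zpowers b) (n := 1) (by rw [Nat.card_zpowers, hbo, pow_one])).exists_le_sylow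
  obtain ⟨g, hg⟩ := MulAction.exists_smul_eq G R P
  refine ⟨b, g, hb, hbo, ?_⟩
  have hgo : orderOf (g * b * g⁻¹) = 7 := by
    rw [show g * b * g⁻¹ = MulAut.conj g b from rfl, MulEquiv.orderOf_eq, hbo]
  refine sylow_of_cent hgo (fun hd => ?_) P ?_
  · rw [HallJankoType.card_cent_conj g b] at hd
    rcases B.card_cent (Or.inr rfl) hb hbo with e | e <;> rw [e] at hd <;> norm_num at hd
  · show g * b * g⁻¹ ∈ (P : Subgroup G)
    rw [← hg, Sylow.coe_subgroup_smul]
    exact Subgroup.smul_mem_pointwise_smul _ (MulAut.conj g) _ (hR (Subgroup.mem_zpowers b))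

theorem card_sylow_seven (P : Sylow 7 G) : Nat.card (P : Subgroup G) = 7 := by
  obtain ⟨b, g, -, hbo, e⟩ := B.sylow_seven h P
  rw [e, Nat.card_zpowers, show g * b * g⁻¹ = MulAut.conj g b from rfl, MulEquiv.orderOf_eq, hbo]

/-- The centraliser of an element of order seven of `K` has order eighty-four. -/
theorem card_cent_seven {b : G} (hb : b ∈ Kg t w) (hbo : orderOf b = 7) :
    Nat.card (Subgroup.centralizer ({b} : Set G)) = 84 := by
  classical
  haveI : Fact (Nat.Prime 5) := ⟨by norm_num⟩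
  haveI : Fact (Nat.Prime 7) := ⟨by norm_num⟩
  haveI : Fact (Nat.Prime 2) := ⟨Nat.prime_two⟩
  refine (B.card_cent (Or.inr rfl) hb hbo).resolve_right fun h420 => ?_
  obtain ⟨⟨f, hfC⟩, hfo⟩ :=
    exists_prime_orderOf_dvd_card' (G := Subgroup.centralizer ({b} : Set G)) 5 (by rw [h420]; norm_num)
  rw [Subgroup.orderOf_mk] at hfo
  have hf5 : f ^ 5 = 1 := hfo ▸ pow_orderOf_eq_one f
  set W := Subgroup.centralizer ({f} : Set G) with hW
  have h7W : 7 ∣ Nat.card W := by
    have := Subgroup.orderOf_dvd_natCard W (show b ∈ W from mem_cent.mpr (mem_cent.mp hfC).symm)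
    rwa [hbo] at this
  have hWodd : ∀ n ∈ W, Odd (orderOf n) := fun n hn => by
    rw [← Nat.not_even_iff_odd, even_iff_two_dvd]
    intro hd
    obtain ⟨⟨y, hy⟩, hyo⟩ := exists_prime_orderOf_dvd_card' (G := W) 2 (hd.trans (Subgroup.orderOf_dvd_natCard _ hn))
    rw [Subgroup.orderOf_mk] at hyo
    rcases B.card_cent_five h hfo (by rw [← pow_two, ← hyo, pow_orderOf_eq_one])
      (fun e => by rw [e, orderOf_one] at hyo; omega) (mem_cent.mp hy) with e | e | e | e <;>
      rw [hW, e] at h7W <;> norm_num at h7W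
  -- a Sylow subgroup
  obtain ⟨P, hfP⟩ :=
    (IsPGroup.of_card (G := Subgroup.zpowers f) (n := 1) (by rw [Nat.card_zpowers, hfo, pow_one])).exists_le_sylow
  have hPc := B.card_sylow_five h P
  have hfP' : f ∈ (P : Subgroup G) := hfP (Subgroup.mem_zpowers f)
  haveI hPcomm : IsMulCommutative (P : Subgroup G) :=
    IsPGroup.isMulCommutative_of_card_eq_prime_sq (p := 5) (by rw [hPc]; norm_num)
  have hcomm : ∀ p ∈ (P : Subgroup G), ∀ q ∈ (P : Subgroup G), p * q = q * p := fun p hp q hq =>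
    congrArg Subtype.val (hPcomm.is_comm.comm (⟨p, hp⟩ : (P : Subgroup G)) ⟨q, hq⟩)
  have hPW : (P : Subgroup G) ≤ W := fun p hp => mem_cent.mpr (hcomm p hp f hfP')
  obtain ⟨p0, hp0P, hp0⟩ : ∃ p0 ∈ (P : Subgroup G), p0 ∉ Subgroup.zpowers f := by
    by_contra hh
    push Not at hh
    have := Subgroup.card_dvd_of_le (show (P : Subgroup G) ≤ Subgroup.zpowers f from hh)
    rw [hPc, Nat.card_zpowers, hfo] at this
    norm_num at this
  have hp25 : p0 ^ 25 = 1 := by
    have := Subgroup.orderOf_dvd_natCard _ hp0P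
    rw [hPc] at this
    exact orderOf_dvd_iff_pow_eq_one.mp this
  have hmem5 : p0 ^ 5 ∈ Subgroup.zpowers f := by
    -- the quotient by `⟨f⟩` has order five
    set N0 := (Subgroup.zpowers f).subgroupOf (P : Subgroup G)
    haveI : N0.Normal := ⟨fun n hn k => by
      have : k * n * k⁻¹ = n := by
        rw [hPcomm.is_comm.comm k n, mul_inv_cancel_right]
      rwa [this]⟩
    have hi : N0.index = 5 := by
      have := N0.card_mul_index
      rw [Nat.card_congr (Subgroup.subgroupOfEquivOfLe (Subgroup.zpowers_le.mpr hfP')).toEquiv, Nat.card_zpowers, hfo,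
        hPc] at this
      omega
    have := Subgroup.pow_index_mem N0 ⟨p0, hp0P⟩
    rw [hi] at this
    exact this
  obtain ⟨c5, hc5⟩ : ∃ c : ℕ, f ^ c = p0 ^ 5 := by
    obtain ⟨c, -, e⟩ := zpowers_cases hfo hmem5
    exact ⟨c, e.symm⟩
  have hfp : Commute p0 f := hcomm p0 hp0P f hfP'
  have red : ∀ a e : ℕ, p0 ^ a * f ^ e = p0 ^ (a % 5) * f ^ ((c5 * (a / 5) + e) % 5) := fun a e => by
    have hf_red : ∀ r : ℕ, f ^ r = f ^ (r % 5) := fun r => by
      conv_lhs => rw [← Nat.div_add_mod r 5, pow_add, pow_mul, hf5, one_pow, one_mul]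
    rw [← hf_red, pow_add, pow_mul, hc5, ← pow_mul, ← mul_assoc, ← pow_add, Nat.mod_add_div]
  have hinj : ∀ a e a' e' : ℕ, a < 5 → e < 5 → a' < 5 → e' < 5 → p0 ^ a * f ^ e = p0 ^ a' * f ^ e' → a = a' ∧ e = e' := by
    have key : ∀ d : ℕ, 0 < d → d < 5 → p0 ^ d ∉ Subgroup.zpowers f := by
      intro d hd0 hd5 hm
      have hcop : Nat.gcd d 25 = 1 := by interval_cases d <;> norm_num
      refine hp0 ?_
      have h1 : p0 ^ ((d : ℤ) * Nat.gcdA d 25 + ((25 : ℕ) : ℤ) * Nat.gcdB d 25) = p0 ^ (1 : ℤ) := by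
        rw [← Nat.gcd_eq_gcd_ab, hcop]; rfl
      rw [zpow_add, zpow_mul, zpow_mul, zpow_natCast, zpow_natCast, hp25, one_zpow, mul_one, zpow_one] at h1
      rw [← h1]
      exact zpow_mem hm _
    intro a e a' e' ha he ha' he' heq
    have haa : a = a' := by
      rcases lt_trichotomy a a' with hlt | heq' | hgt
      · exfalso
        refine key (a' - a) (by omega) (by omega) ?_
        rw [pow_sub _ hlt.le]
        have : p0 ^ a' * (p0 ^ a)⁻¹ = f ^ e * (f ^ e')⁻¹ := by
          rw [eq_mul_inv_iff_mul_eq, mul_assoc, ← (hfp.pow_pow a e').inv_left.eq.symm,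
            ← mul_assoc, ← heq, (hfp.pow_pow a e).eq, mul_inv_cancel_right]
        rw [this]
        exact mul_mem (pow_mem (Subgroup.mem_zpowers f) _) (inv_mem (pow_mem (Subgroup.mem_zpowers f) _))
      · exact heq'
      · exfalso
        refine key (a - a') (by omega) (by omega) ?_
        rw [pow_sub _ hgt.le]
        have : p0 ^ a * (p0 ^ a')⁻¹ = f ^ e' * (f ^ e)⁻¹ := by
          rw [eq_mul_inv_iff_mul_eq, mul_assoc, ← (hfp.pow_pow a' e).inv_left.eq.symm,
            ← mul_assoc, heq, (hfp.pow_pow a' e').eq, mul_inv_cancel_right]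
        rw [this]
        exact mul_mem (pow_mem (Subgroup.mem_zpowers f) _) (inv_mem (pow_mem (Subgroup.mem_zpowers f) _))
    refine ⟨haa, ?_⟩
    rw [haa] at heq
    have := mul_left_cancel heq
    rw [pow_eq_pow_iff_modEq, hfo, Nat.ModEq] at this
    omega
  have coord : ∀ p ∈ (P : Subgroup G), ∃ a e : Fin 5, p = p0 ^ a.1 * f ^ e.1 := by
    let φ : Fin 5 × Fin 5 → (P : Subgroup G) := fun q =>
      ⟨p0 ^ q.1.1 * f ^ q.2.1, mul_mem (pow_mem hp0P _) (pow_mem hfP' _)⟩
    have hφ : Function.Bijective φ := by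
      refine (Nat.bijective_iff_injective_and_card φ).mpr ⟨fun p q e => ?_, by rw [hPc]; simp⟩
      obtain ⟨e1, e2⟩ := hinj _ _ _ _ p.1.2 p.2.2 q.1.2 q.2.2 (congrArg Subtype.val e)
      exact Prod.ext (Fin.ext e1) (Fin.ext e2)
    intro p hp
    obtain ⟨⟨a, e⟩, he⟩ := hφ.2 ⟨p, hp⟩
    exact ⟨a, e, (congrArg Subtype.val he).symm⟩
  -- Burnside
  set SP : Sylow 5 W := P.subtype hPW
  have hNC : Subgroup.normalizer ((SP : Subgroup W) : Set W) ≤ Subgroup.centralizer ((SP : Subgroup W) : Set W) := by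
    intro n hn
    refine Subgroup.mem_centralizer_iff.mpr ?_
    intro q hq
    apply Subtype.ext
    show (q : G) * (n : G) = (n : G) * q
    have hnf : (n : G) * f = f * n := mem_cent.mp n.2
    have hnP : ∀ p ∈ (P : Subgroup G), (n : G) * p * (n : G)⁻¹ ∈ (P : Subgroup G) := fun p hp =>
      (Subgroup.mem_normalizer_iff.mp hn ⟨p, hPW hp⟩).mp hp
    obtain ⟨k, i, hki⟩ := coord _ (hnP p0 hp0P)
    have hnfi : ∀ e : ℕ, (n : G) * f ^ e * (n : G)⁻¹ = f ^ e := fun e => conj_fix_iff.mpr (Commute.pow_right hnf e)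
    have iter : ∀ m : ℕ, ∃ e : ℕ, (n : G) ^ m * p0 * ((n : G) ^ m)⁻¹ = p0 ^ (k.1 ^ m) * f ^ e := by
      intro m
      induction m with
      | zero => exact ⟨0, by simp⟩
      | succ m ih =>
        obtain ⟨e, he⟩ := ih
        refine ⟨i.1 * k.1 ^ m + e, ?_⟩
        rw [show (n : G) ^ (m + 1) * p0 * ((n : G) ^ (m + 1))⁻¹ = n * ((n : G) ^ m * p0 * ((n : G) ^ m)⁻¹) * (n : G)⁻¹ by
            rw [pow_succ']; group, he,
          show (n : G) * (p0 ^ (k.1 ^ m) * f ^ e) * (n : G)⁻¹ = n * p0 ^ (k.1 ^ m) * (n : G)⁻¹ * (n * f ^ e * (n : G)⁻¹) by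
            group, ← conj_pow, hki, hnfi, (hfp.pow_pow _ _).mul_pow, ← pow_mul, ← pow_mul, ← pow_succ', mul_assoc,
          ← pow_add]
    obtain ⟨j, hj⟩ := hWodd n n.2
    have hk1 : k.1 = 1 := by
      obtain ⟨e, he⟩ := iter (orderOf (n : G))
      rw [pow_orderOf_eq_one, one_mul, inv_one, mul_one, red] at he
      have := (hinj 1 0 _ _ (by norm_num) (by norm_num) (Nat.mod_lt _ (by norm_num)) (Nat.mod_lt _ (by norm_num))
        (by rw [pow_one, pow_zero, mul_one]; exact he)).1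
      exact odd_power_five k j (hj ▸ this.symm)
    rw [hk1, pow_one] at hki
    obtain ⟨r, hr, hrP⟩ : ∃ r : ℕ, ¬ 5 ∣ r ∧ (n : G) ^ r ∈ (P : Subgroup G) := by
      refine ⟨ordCompl[5] (orderOf (n : G)), Nat.not_dvd_ordCompl (by norm_num) (orderOf_pos _).ne', ?_⟩
      set r := ordCompl[5] (orderOf (n : G))
      have hn5 : (n : G) ^ (r * 5 ^ (orderOf (n : G)).factorization 5) = 1 := by
        rw [mul_comm, Nat.ordProj_mul_ordCompl_eq_self, pow_orderOf_eq_one]
      have hz5 : IsPGroup 5 (Subgroup.zpowers ((n : G) ^ r)) := fun q => ⟨(orderOf (n : G)).factorization 5, Subtype.ext (by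
        obtain ⟨i, hi⟩ := Subgroup.mem_zpowers_iff.mp q.2
        rw [SubmonoidClass.coe_pow, ← hi, ← zpow_natCast (((n : G) ^ r) ^ i), ← zpow_mul, mul_comm, zpow_mul, zpow_natCast,
          ← pow_mul, hn5, one_zpow]
        rfl)⟩
      have hnorm : (n : G) ^ r ∈ Subgroup.normalizer ((P : Subgroup G) : Set G) :=
        pow_mem (L34.mem_normalizer_of_conj hnP) r
      have hsup := IsPGroup.to_sup_of_normal_right' hz5 P.isPGroup' (Subgroup.zpowers_le.mpr hnorm)
      exact P.is_maximal' hsup le_sup_right ▸ (le_sup_left : Subgroup.zpowers ((n : G) ^ r) ≤ _) (Subgroup.mem_zpowers _)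
    have hfix : (n : G) * p0 * (n : G)⁻¹ = p0 := by
      have hm : ∀ m : ℕ, (n : G) ^ m * p0 * ((n : G) ^ m)⁻¹ = p0 * f ^ (i.1 * m) := by
        intro m
        induction m with
        | zero => simp
        | succ m ih =>
          rw [show (n : G) ^ (m + 1) * p0 * ((n : G) ^ (m + 1))⁻¹ = n * ((n : G) ^ m * p0 * ((n : G) ^ m)⁻¹) * (n : G)⁻¹ by
              rw [pow_succ']; group, ih,
            show (n : G) * (p0 * f ^ (i.1 * m)) * (n : G)⁻¹ = n * p0 * (n : G)⁻¹ * (n * f ^ (i.1 * m) * (n : G)⁻¹) by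
              group, hki, hnfi, mul_assoc, ← pow_add, mul_add, mul_one, add_comm]
      have := hm r
      rw [conj_fix_iff.mpr (hcomm _ hrP p0 hp0P), left_eq_mul, ← orderOf_dvd_iff_pow_eq_one, hfo] at this
      have hi0 : 5 ∣ i.1 := ((by norm_num : Nat.Prime 5).dvd_mul.mp this).resolve_right hr
      have : i.1 = 0 := by have := i.2; omega
      rw [hki, this, pow_zero, mul_one]
    obtain ⟨a, e, hae⟩ := coord (q : G) hq
    rw [hae]
    exact ((show Commute (n : G) p0 from conj_fix_iff.mp hfix).pow_right a.1 |>.mul_right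
      ((show Commute (n : G) f from hnf).pow_right e.1)).eq.symm
  set NK := (MonoidHom.transferSylow SP hNC).ker
  have hcompl := MonoidHom.ker_transferSylow_isComplement' SP hNC
  have hSPc : Nat.card (SP : Subgroup W) = 25 := by
    rw [show (SP : Subgroup W) = (P : Subgroup G).subgroupOf W from rfl,
      Nat.card_congr (Subgroup.subgroupOfEquivOfLe hPW).toEquiv, hPc]
  have hidx : Nat.card (W ⧸ NK) = 25 := by rw [← Subgroup.index_eq_card, hcompl.symm.index_eq_card, hSPc]
  obtain ⟨R⟩ := (inferInstance : Nonempty (Sylow 7 NK))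
  set RW := (R : Subgroup NK).map NK.subtype with hRW
  set NR := Subgroup.normalizer (RW : Set W)
  have hsurj : Function.Surjective ((QuotientGroup.mk' NK).comp NR.subtype) := by
    intro q
    obtain ⟨a, rfl⟩ := QuotientGroup.mk'_surjective NK q
    have ha : a ∈ NR ⊔ NK := by rw [Sylow.normalizer_sup_eq_top R]; trivial
    obtain ⟨n, hn, m, hm, rfl⟩ := (Subgroup.mem_sup_of_normal_right (t := NK)).mp ha
    refine ⟨⟨n, hn⟩, ?_⟩
    show QuotientGroup.mk' NK n = QuotientGroup.mk' NK (n * m)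
    rw [map_mul, show QuotientGroup.mk' NK m = 1 from (QuotientGroup.eq_one_iff m).mpr hm, mul_one]
  have h25N : 25 ∣ Nat.card NR := hidx ▸ Subgroup.card_dvd_of_surjective _ hsurj
  obtain ⟨L, hL⟩ := Sylow.exists_subgroup_card_pow_prime 5 (n := 2) (by rw [show 5 ^ 2 = 25 by norm_num]; exact h25N)
  -- the subgroup of order seven
  set RG := RW.map W.subtype
  have h7N : 7 ∣ Nat.card NK := by
    have := NK.card_mul_index
    rw [Subgroup.index_eq_card, hidx] at this
    rw [← this] at h7W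
    exact ((by norm_num : Nat.Coprime 7 25)).dvd_of_dvd_mul_right h7W
  have hR7 : 7 ∣ Nat.card (R : Subgroup NK) := by
    refine Sylow.dvd_card_of_dvd_card R h7N
  have hRGp : IsPGroup 7 RG := (R.isPGroup'.map _).map _
  obtain ⟨R', hR'⟩ := hRGp.exists_le_sylow
  obtain ⟨b', g, hb', hb'o, hR'e⟩ := B.sylow_seven h R'
  set bc := g * b' * g⁻¹
  have hbco : orderOf bc = 7 := by rw [show bc = MulAut.conj g b' from rfl, MulEquiv.orderOf_eq, hb'o]
  have hRGeq : RG = Subgroup.zpowers bc := by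
    rw [← hR'e]
    refine Subgroup.eq_of_le_of_card_ge hR' ?_
    rw [B.card_sylow_seven h R', Subgroup.card_map_of_injective W.subtype_injective,
      Subgroup.card_map_of_injective NK.subtype_injective]
    exact Nat.le_of_dvd Nat.card_pos hR7
  have hLb : ∀ l ∈ L, ((l : W) : G) * bc = bc * ((l : W) : G) := by
    intro l hl
    have hbm : bc ∈ RG := hRGeq ▸ Subgroup.mem_zpowers bc
    obtain ⟨bw, hbw, hbwe⟩ := hbm
    have hconj : ((l : W) : G) * bc * ((l : W) : G)⁻¹ ∈ Subgroup.zpowers bc := by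
      rw [← hRGeq]
      exact ⟨(l : W) * bw * (l : W)⁻¹, (Subgroup.mem_normalizer_iff.mp l.2 bw).mp hbw, by rw [← hbwe]; rfl⟩
    obtain ⟨k, hk, hke⟩ := zpowers_cases hbco hconj
    refine conj_fix_iff.mp (hke.trans ?_)
    have hl25 : ((l : W) : G) ^ 25 = 1 := by
      have hd := Subgroup.orderOf_dvd_natCard L hl
      rw [hL] at hd
      have := orderOf_dvd_iff_pow_eq_one.mp hd
      exact congrArg (fun a : NR => ((a : W) : G)) this
    have hk25 := conj_pow_pow hke 25
    rw [hl25, one_mul, inv_one, mul_one] at hk25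
    nth_rewrite 1 [← pow_one bc] at hk25
    rw [pow_eq_pow_iff_modEq, hbco, Nat.ModEq] at hk25
    rw [show k = 1 from seven_twenty_five ⟨k, hk⟩ hk25.symm, pow_one]
  have hdvd : 25 ∣ Nat.card (Subgroup.centralizer ({bc} : Set G)) := by
    let ι : NR →* G := W.subtype.comp NR.subtype
    have hι : Function.Injective ι := fun a b e => Subtype.ext (Subtype.ext e)
    have := Subgroup.card_dvd_of_le (show L.map ι ≤ Subgroup.centralizer ({bc} : Set G) by
      rintro _ ⟨l, hl, rfl⟩; exact mem_cent.mpr (hLb l hl))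
    rwa [Subgroup.card_map_of_injective hι, hL] at this
  rw [HallJankoType.card_cent_conj g b'] at hdvd
  rcases B.card_cent (Or.inr rfl) hb' hb'o with e | e <;> rw [e] at hdvd <;> norm_num at hdvd

/-- The structure of the centraliser. -/
theorem cent_seven_iso {b : G} (hb : b ∈ Kg t w) (hbo : orderOf b = 7) :
    Nonempty (Subgroup.centralizer ({b} : Set G) ≃* Multiplicative (ZMod 7) × alternatingGroup (Fin 4)) := by
  classical
  haveI : Fact (Nat.Prime 7) := ⟨by norm_num⟩
  set X := Subgroup.centralizer ({b} : Set G) with hX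
  have hXc : Nat.card X = 84 := B.card_cent_seven h hb hbo
  let bb : X := ⟨b, mem_cent.mpr rfl⟩
  have hbbo : orderOf bb = 7 := by rw [Subgroup.orderOf_mk, hbo]
  have hcenb : ∀ a : X, a * bb = bb * a := fun a => Subtype.ext (mem_cent.mp a.2)
  have hbc : Nat.card (Subgroup.zpowers bb) = 7 := by rw [Nat.card_zpowers, hbbo]
  let SP : Sylow 7 X := Sylow.ofCard (Subgroup.zpowers bb) (by
    rw [hbc, hXc, show (84 : ℕ) = 7 ^ 1 * 12 by norm_num, Nat.factorization_mul (by norm_num) (by norm_num),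
      Finsupp.add_apply, Nat.Prime.factorization_pow (by norm_num), Finsupp.single_eq_same,
      Nat.factorization_eq_zero_of_not_dvd (by norm_num : ¬ 7 ∣ 12)]
    norm_num)
  have hNC : Subgroup.normalizer ((SP : Subgroup X) : Set X) ≤ Subgroup.centralizer ((SP : Subgroup X) : Set X) := by
    intro n hn
    refine Subgroup.mem_centralizer_iff.mpr fun q hq => ?_
    obtain ⟨i, rfl⟩ := Subgroup.mem_zpowers_iff.mp (show q ∈ Subgroup.zpowers bb from hq)
    exact ((show Commute n bb from hcenb n).zpow_right i).eq.symm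
  set H := (MonoidHom.transferSylow SP hNC).ker with hH
  have hcompl := MonoidHom.ker_transferSylow_isComplement' SP hNC
  have hHc : Nat.card H = 12 := by
    have := hcompl.card_mul
    rw [show Nat.card (SP : Subgroup X) = 7 from hbc, hXc] at this
    change Nat.card H * 7 = 84 at this
    omega
  have two_mem : ∀ a : X, a * a = 1 → a ∈ H := fun a ha => by
    have hd : orderOf (MonoidHom.transferSylow SP hNC a) ∣ 2 :=
      orderOf_dvd_of_pow_eq_one (by rw [← map_pow, pow_two, ha, map_one])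
    have hd7 : orderOf (MonoidHom.transferSylow SP hNC a) ∣ 7 := by
      have := orderOf_dvd_natCard (MonoidHom.transferSylow SP hNC a)
      rwa [show Nat.card (SP : Subgroup X) = 7 from hbc] at this
    exact orderOf_eq_one_iff.mp (Nat.dvd_one.mp (Nat.dvd_gcd hd hd7 : _ ∣ Nat.gcd 2 7))
  obtain ⟨e4⟩ : Nonempty (H ≃* alternatingGroup (Fin 4)) := by
    refine CfsgLib.DihedralShape.equiv_alternating_four hHc fun T hT hT3 => ?_
    haveI : Fact (Nat.Prime 3) := ⟨Nat.prime_three⟩
    obtain ⟨⟨e, heT⟩, heo⟩ := exists_prime_orderOf_dvd_card' (G := T) 3 (by rw [hT3])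
    rw [Subgroup.orderOf_mk] at heo
    obtain ⟨-, -, -, -, -, -, htt, ht1, hww, htw, hw1, hwt, -⟩ := B.cfg.rels
    obtain ⟨hbt, hbw⟩ := mem_Kg.mp hb
    let tt : H := ⟨⟨t, mem_cent.mpr hbt.symm⟩, two_mem _ (Subtype.ext htt)⟩
    let ww : H := ⟨⟨w, mem_cent.mpr hbw.symm⟩, two_mem _ (Subtype.ext hww)⟩
    have hcases : ∀ a : H, a * e * a⁻¹ = e ∨ a * e * a⁻¹ = e * e := by
      intro a
      have hm := hT.conj_mem e heT a
      have heq : Subgroup.zpowers e = T := Subgroup.eq_of_le_of_card_ge (Subgroup.zpowers_le.mpr heT)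
        (by rw [hT3, Nat.card_zpowers, heo])
      obtain ⟨k, hk, hke⟩ := zpowers_cases heo (heq.symm ▸ hm : a * e * a⁻¹ ∈ Subgroup.zpowers e)
      interval_cases k
      · rw [pow_zero, conj_eq_one_iff] at hke
        rw [hke, orderOf_one] at heo
        omega
      · exact Or.inl (by rw [hke, pow_one])
      · exact Or.inr (by rw [hke, pow_two])
    have he3 : e * e * (e * e) = e := by
      rw [show e * e * (e * e) = e ^ 3 * e by simp [pow_succ, mul_assoc], ← heo, pow_orderOf_eq_one, one_mul]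
    have noc : ∀ v : G, InW t w v → v ≠ 1 → (((e : H) : X) : G) * v = v * (((e : H) : X) : G) → False := by
      intro v hv hv1 hcm
      have hstep : ∀ u : G, u * t = t * u → u * b = b * u → u ^ 3 = 1 → u = 1 := by
        intro u hu hub hu3
        obtain ⟨i, u', hu', rfl⟩ := B.cent_t (Or.inr rfl) hb hbo hu hub
        have hc' : Commute (b ^ i) u' := (B.cfg.InW_central hu' (zpow_mem hb i)).symm
        rw [hc'.mul_pow] at hu3
        have hu1 : u' ^ 3 = u' := by rw [pow_succ, pow_two, B.cfg.InW_sq hu', one_mul]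
        rw [hu1] at hu3
        have hbi : ((b ^ i) ^ 3) ^ 7 = 1 := by
          rw [← pow_mul, mul_comm, pow_mul, ← zpow_natCast (b ^ i) 7, ← zpow_mul, mul_comm i, zpow_mul, zpow_natCast,
            ← hbo, pow_orderOf_eq_one, one_zpow, one_pow]
        have hu'1 : u' = 1 := B.InW_odd hu' (show Odd 7 by decide) (by
          rw [eq_inv_of_mul_eq_one_right hu3, inv_pow, hbi, inv_one])
        rw [hu'1, mul_one] at hu3
        rw [hu'1, mul_one]
        have h1 : orderOf (b ^ i) ∣ Nat.gcd 3 7 := Nat.dvd_gcd (orderOf_dvd_of_pow_eq_one hu3) (by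
          have := Subgroup.orderOf_dvd_natCard _ (zpow_mem (Subgroup.mem_zpowers b) i)
          rwa [Nat.card_zpowers, hbo] at this)
        exact orderOf_eq_one_iff.mp (Nat.dvd_one.mp h1)
      obtain ⟨c, hc1, hc2, hcb⟩ := B.exists_rot_cent (Or.inr rfl) hb hbo
      -- move `v` to `t`
      have heb : (((e : H) : X) : G) * b = b * (((e : H) : X) : G) := mem_cent.mp (e : X).2
      have he3' : (((e : H) : X) : G) ^ 3 = 1 := by
        rw [← SubmonoidClass.coe_pow, ← SubmonoidClass.coe_pow, ← heo, pow_orderOf_eq_one]; rfl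
      obtain ⟨g, hgb, hgv⟩ : ∃ g : G, g * b = b * g ∧ g * v * g⁻¹ = t := by
        rcases hv with rfl | rfl | rfl | rfl
        · exact absurd rfl hv1
        · exact ⟨1, by simp, by simp⟩
        · refine ⟨c⁻¹, Commute.inv_left hcb, ?_⟩
          rw [← hc1]; group
        · refine ⟨c, hcb, ?_⟩
          rw [show c * (t * w) * c⁻¹ = c * t * c⁻¹ * (c * w * c⁻¹) by group, hc1, hc2, ← mul_assoc, ← htw, mul_assoc,
            hww, mul_one]
      have := hstep (g * (((e : H) : X) : G) * g⁻¹) (by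
          rw [← hgv, show g * (((e : H) : X) : G) * g⁻¹ * (g * v * g⁻¹) = g * ((((e : H) : X) : G) * v) * g⁻¹ by group, hcm]
          group)
        (Commute.mul_left (Commute.mul_left hgb heb) (Commute.inv_left hgb))
        (by rw [conj_pow, he3', mul_one, mul_inv_cancel])
      rw [conj_eq_one_iff] at this
      rw [show e = 1 from Subtype.ext (Subtype.ext this), orderOf_one] at heo
      omega
    have cg : ∀ a : H, a * e * a⁻¹ = e → (((e : H) : X) : G) * ((a : X) : G) = ((a : X) : G) * (((e : H) : X) : G) :=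
      fun a ha => congrArg (fun q : H => ((q : X) : G)) (mul_inv_eq_iff_eq_mul.mp ha).symm
    rcases hcases tt with e1 | e1
    · exact noc t (Or.inr (Or.inl rfl)) ht1 (cg tt e1)
    rcases hcases ww with e2 | e2
    · exact noc w (Or.inr (Or.inr (Or.inl rfl))) hw1 (cg ww e2)
    · refine noc (t * w) (Or.inr (Or.inr (Or.inr rfl))) (fun h' => hwt ?_) (cg (tt * ww) ?_)
      · exact ((eq_inv_of_mul_eq_one_left h').trans (inv_eq_of_mul_eq_one_right hww)).symm
      · rw [show tt * ww * e * (tt * ww)⁻¹ = tt * (ww * e * ww⁻¹) * tt⁻¹ by group, e2,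
          show tt * (e * e) * tt⁻¹ = tt * e * tt⁻¹ * (tt * e * tt⁻¹) by group, e1, he3]
  let ψ : Subgroup.zpowers bb × H →* X := MonoidHom.mk' (fun q => (q.1 : X) * q.2) fun p q => by
    obtain ⟨i, hi⟩ := Subgroup.mem_zpowers_iff.mp q.1.2
    have hc : Commute (p.2 : X) (q.1 : X) := hi ▸ (show Commute (p.2 : X) bb from hcenb _).zpow_right i
    show (p.1 : X) * q.1 * ((p.2 : X) * q.2) = (p.1 : X) * p.2 * ((q.1 : X) * q.2)
    rw [mul_assoc, ← mul_assoc (q.1 : X), ← hc.eq, mul_assoc, mul_assoc]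
  have hψ : Function.Bijective ψ := hcompl.symm
  have e7 : Subgroup.zpowers bb ≃* Multiplicative (ZMod 7) :=
    mulEquivOfPrimeCardEq (p := 7) hbc (by simp)
  exact ⟨(MulEquiv.ofBijective ψ hψ).symm.trans (MulEquiv.prodCongr e7 e4)⟩

/-- The normaliser. -/
theorem card_norm_seven {b : G} (hb : b ∈ Kg t w) (hbo : orderOf b = 7) :
    Nat.card (Subgroup.normalizer ((Subgroup.zpowers b : Subgroup G) : Set G)) = 504 := by
  classical
  set X := Subgroup.normalizer ((Subgroup.zpowers b : Subgroup G) : Set G)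
  set Cb := Subgroup.centralizer ((Subgroup.zpowers b : Subgroup G) : Set G) with hCb
  have hCeq : Cb = Subgroup.centralizer ({b} : Set G) := by
    refine le_antisymm (Subgroup.centralizer_le (Set.singleton_subset_iff.mpr (Subgroup.mem_zpowers b))) fun c hc => ?_
    refine Subgroup.mem_centralizer_iff.mpr fun q hq => ?_
    obtain ⟨i, rfl⟩ := Subgroup.mem_zpowers_iff.mp hq
    exact ((show Commute c b from mem_cent.mp hc).zpow_right i).eq.symm
  haveI : IsCyclic (Subgroup.zpowers b) := inferInstance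
  have key := Subgroup.card_dvd_of_injective _ (QuotientGroup.kerLift_injective (Subgroup.zpowers b).normalizerMonoidHom)
  rw [Subgroup.normalizerMonoidHom_ker, ← Subgroup.index, (inferInstance : IsCyclic (Subgroup.zpowers b)).card_mulAut,
    Nat.card_zpowers, hbo, Nat.totient_prime (by norm_num : Nat.Prime 7)] at key
  set N0 := Cb.subgroupOf X
  haveI : N0.Normal := by
    have h' : N0 = (Subgroup.zpowers b).normalizerMonoidHom.ker := (Subgroup.normalizerMonoidHom_ker _).symm
    rw [h']; infer_instance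
  have hm := N0.card_mul_index
  rw [Nat.card_congr (Subgroup.subgroupOfEquivOfLe (Subgroup.centralizer_le_normalizer _)).toEquiv, ← hCb, hCeq,
    B.card_cent_seven h hb hbo] at hm
  have mem : ∀ n : G, n * b * n⁻¹ ∈ Subgroup.zpowers b → n ∈ X := fun n hn =>
    L34.mem_normalizer_of_conj fun a ha => by
      obtain ⟨i, rfl⟩ := Subgroup.mem_zpowers_iff.mp ha
      rw [← conj_zpow]
      exact zpow_mem hn i
  have hord : ∀ (n : G) (p k : ℕ), p.Prime → n * b * n⁻¹ = b ^ k → k % 7 ≠ 1 → k ^ p % 7 = 1 → p ∣ N0.index := by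
    intro n p k hp hn hk hkp
    haveI : Fact p.Prime := ⟨hp⟩
    have hX : n ∈ X := mem n (hn ▸ pow_mem (Subgroup.mem_zpowers b) k)
    have hout : ∀ a : G, ∀ ha : a ∈ X, QuotientGroup.mk' N0 ⟨a, ha⟩ = 1 ↔ a * b * a⁻¹ = b := fun a ha => by
      rw [QuotientGroup.mk'_apply, QuotientGroup.eq_one_iff, Subgroup.mem_subgroupOf, hCeq, mem_cent]
      exact conj_fix_iff.symm
    have ho : orderOf (QuotientGroup.mk' N0 ⟨n, hX⟩) = p := by
      refine orderOf_eq_prime ?_ fun e => ?_
      · rw [← map_pow]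
        refine (hout (n ^ p) (pow_mem hX p)).mpr ?_
        rw [conj_pow_pow hn]
        conv_rhs => rw [← pow_one b]
        rw [pow_eq_pow_iff_modEq, hbo, Nat.ModEq]
        exact hkp
      · have := (hout n hX).mp e
        rw [hn] at this
        conv_rhs at this => rw [← pow_one b]
        rw [pow_eq_pow_iff_modEq, hbo, Nat.ModEq] at this
        exact hk this
    rw [Subgroup.index_eq_card, ← ho]
    exact orderOf_dvd_natCard _
  obtain ⟨n, -, hn⟩ := B.squared_K hb hbo
  obtain ⟨g, -, hg⟩ := B.inverted_t hb hbo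
  have hg' : g * b * g⁻¹ = b ^ 6 := by
    rw [hg, inv_eq_iff_mul_eq_one, ← pow_succ', show 6 + 1 = orderOf b from hbo.symm]
    exact pow_orderOf_eq_one b
  have h3 := hord n 3 2 Nat.prime_three hn (by norm_num) (by norm_num)
  have h2 := hord g 2 6 Nat.prime_two hg' (by norm_num) (by norm_num)
  have h6 : N0.index = 6 := Nat.dvd_antisymm key (Nat.Coprime.mul_dvd_of_dvd_of_dvd (by norm_num : Nat.Coprime 2 3) h2 h3)
  rw [h6] at hm
  omega

end Base

end CfsgLib.SuzType
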