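import Cfsg.Agent.Lib.SuzType.NotConj

/-!
Groups of Suzuki sporadic type, the centralizer of the second class: frames in standard position, and the
stabilizer of a frame in the isometry group.
-/

set_option autoImplicit false
set_option linter.unusedSectionVars false
set_option linter.unusedVariables false

universe u

namespace CfsgLib.SuzType

open QuadraticMap
open CfsgLargeExtra
open CfsgLib.HallJankoType (mem_cent conj_fix_iff)

/-- The singular vector paired with `e1`. -/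
def f1 : V := Pi.single (.inl (.inr 1)) 1

theorem f1_facts : qf f1 = 0 ∧ bf e0 f1 = 0 ∧ bf e1 f1 = 1 ∧ bf d0 f1 = 0 ∧ bf d1 f1 = 0 ∧ bf e1 d1 = 0 ∧
    bf e0 e0 = 0 ∧ qf (e1 + f1) = 1 ∧ bf e0 (e1 + f1) = 0 ∧ bf d0 (e1 + f1) = 0 ∧ bf d1 (e1 + f1) = 0 ∧
    f1 ≠ 0 ∧ f1 ≠ e0 ∧ f1 ≠ e1 ∧ f1 ≠ e1 + e0 := by
  decide +kernel

theorem zero_of_all : ∀ v : V, bf e0 v = 0 → bf e1 v = 0 → bf f1 v = 0 → bf d0 v = 0 → bf d1 v = 0 →
    v = 0 ∨ v = e0 := by
  decide +kernel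

set_option synthInstance.maxSize 512 in
theorem perp_split : ∀ v : V, bf e0 v = 0 → bf d0 v = 0 → bf d1 v = 0 → qf v = 0 →
    v = 0 ∨ v = e0 ∨ v = e1 ∨ v = e1 + e0 ∨ v = f1 ∨ v = f1 + e0 := by
  decide +kernel

/-- The swap of `e1` and `f1`. -/
noncomputable def swap : O6 := tr (e1 + f1) f1_facts.2.2.2.2.2.2.2.1

theorem swap_not_mem : swap ∉ Om := tr_not_mem _ _

theorem swap_apply (v : V) : swap.1 v = v + bf v (e1 + f1) • (e1 + f1) := tr_apply _ _ _

theorem swap_values : swap.1 e0 = e0 ∧ swap.1 d0 = d0 ∧ swap.1 d1 = d1 ∧ swap.1 e1 = f1 ∧ swap.1 f1 = e1 := by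
  obtain ⟨-, -, h1, -, -, -, -, h2, h3, h4, h5, -, -, -, -⟩ := f1_facts
  have he : bf e1 (e1 + f1) = 1 := by rw [bf_add_right, bf_self, h1, zero_add]
  have hf : bf f1 (e1 + f1) = 1 := by rw [bf_add_right, bf_self, bf_comm, h1, add_zero]
  refine ⟨?_, ?_, ?_, ?_, ?_⟩ <;> rw [swap_apply]
  · rw [h3, zero_smul, add_zero]
  · rw [h4, zero_smul, add_zero]
  · rw [h5, zero_smul, add_zero]
  · rw [he, one_smul, ← add_assoc, V_add_self, zero_add]
  · rw [hf, one_smul, add_comm e1 f1, ← add_assoc, V_add_self, zero_add]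

variable {G : Type u} [Group G] [Finite G] {z x : G} {Q Q' : Subgroup G} {π π' : G → V} {M M' : G → O6}

/-- New coordinates by an element of the derived orthogonal group. -/
theorem ST.move (h : ST z Q π M) {g : O6} (hg : g ∈ Om) :
    ST z Q (fun a => g.1 (π a)) (fun c => g * M c * g⁻¹) := by
  refine ⟨h.es, h.card, fun a ha b hb => ?_, fun a ha e => ?_, fun v => ?_, fun a ha => ?_, fun a ha b hb => ?_,
    fun a b ha hb => ?_, fun c hc a ha => ?_, fun c hc => ?_, fun c hc => ?_, fun k hk => ?_, h.fused⟩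
  · show g.1 (π (a * b)) = _
    rw [h.π_mul a ha b hb, map_add]
  · exact h.π_ker a ha (g.1.map_eq_zero_iff.mp e)
  · obtain ⟨a, ha, e⟩ := h.π_surj (g.1.symm v)
    exact ⟨a, ha, by show g.1 (π a) = v; rw [e, LinearEquiv.apply_symm_apply]⟩
  · rw [h.sq a ha]; exact ⟨fun e => (g.2 _).trans e, fun e => (g.2 _).symm.trans e⟩
  · rw [h.comm a ha b hb]
    exact ⟨fun e => (bf_map g _ _).trans e, fun e => (bf_map g _ _).symm.trans e⟩
  · show g * M (a * b) * g⁻¹ = _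
    rw [h.M_mul a b ha hb]; group
  · show g.1 (π (c * a * c⁻¹)) = g.1 ((M c).1 (g.1.symm (g.1 (π a))))
    rw [LinearEquiv.symm_apply_apply, h.M_act c hc a ha]
  · show g * M c * g⁻¹ = 1 ↔ c ∈ Q
    rw [conj_eq_one_iff, h.M_ker c hc]
  · exact mul_mem (mul_mem hg (h.M_mem c hc)) (inv_mem hg)
  · obtain ⟨c, hc, e⟩ := h.M_surj (g⁻¹ * k * g) (mul_mem (mul_mem (inv_mem hg) hk) hg)
    exact ⟨c, hc, by show g * M c * g⁻¹ = k; rw [e]; group⟩

theorem Pr.move (P : Pr z x Q Q' π π' M M') {g : O6} (hg : g ∈ Om) :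
    Pr z x Q Q' (fun a => g.1 (π a)) π' (fun c => g * M c * g⁻¹) M' :=
  ⟨P.h.move hg, P.h', P.hx, P.hz, P.ne⟩

theorem Eqp.cases {p v w : V} (h : Eqp p v w) : w + v = 0 ∨ w + v = p := by
  rcases h with e | e <;> rw [e]
  · exact Or.inl (V_add_self v)
  · right; rw [add_comm v p, add_assoc, V_add_self, add_zero]

/-- A frame in standard position with a second involution `t = a b`. -/
structure Fr (z x s t a b : G) (Q Q' : Subgroup G) (π π' : G → V) (M M' : G → O6) : Prop where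
  pr : Pr z x Q Q' π π' M M'
  hs : s ∈ Q
  hsp : bf (π s) (π x) = 1
  px : π x = e0
  ha : a ∈ Q
  hax : a * x = x * a
  hb : b ∈ Q'
  hbz : b * z = z * b
  te : t = a * b
  ca : Eqp e0 d0 (π a)
  cb : Eqp e0 d1 (pr.dl s b)

theorem Pr.dl_move (P : Pr z x Q Q' π π' M M') {g : O6} (hg : g ∈ Om) (s b : G) :
    (P.move hg).dl s b = g.1 (P.dl s b) := rfl

/-- A second involution gives a frame in standard position. -/
theorem Pr.exists_fr (P : Pr z x Q Q' π π' M M') {s t : G} (hs : s ∈ Q) (hsp : bf (π s) (π x) = 1)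
    (ht : P.Typ s t) :
    ∃ (a b : G) (g : O6), g ∈ Om ∧ Fr z x s t a b Q Q' (fun q => g.1 (π q)) π' (fun c => g * M c * g⁻¹) M' := by
  obtain ⟨a, b, ha, hax, hb, hbz, rfl, qa, qb, hab⟩ := ht
  obtain ⟨g, hg, g0, g1, g2⟩ := std_pair P.p_q P.p_ne qa qb (by rw [bf_comm]; exact (P.comm_x ha).mp hax)
    (by rw [bf_comm]; exact P.dl_perp hs hb hbz) hab
  exact ⟨a, b, g, hg, P.move hg, hs, (bf_map g _ _).trans hsp, g0, ha, hax, hb, hbz, rfl, Or.inl g1,
    Or.inl ((P.dl_move hg s b).trans g2)⟩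

variable {s t a b : G}

namespace Fr

variable (F : Fr z x s t a b Q Q' π π' M M')
include F

theorem eqp_bf {v v' w : V} (h : Eqp e0 v v') (hw : bf e0 w = 0) : bf v' w = bf v w := by
  rcases h with e | e <;> rw [e]
  rw [bf_add_left, hw, add_zero]

theorem eqp_bf' {v v' w : V} (h : Eqp e0 v v') (hw : bf e0 w = 0) : bf w v' = bf w v := by
  rw [bf_comm, F.eqp_bf h hw, bf_comm]

theorem s_e0 : bf (π s) e0 = 1 := F.px ▸ F.hsp

theorem perp_a : bf e0 (π a) = 0 := by rw [bf_comm, ← F.px]; exact (F.pr.comm_x F.ha).mp F.hax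

theorem perp_b : bf e0 (F.pr.dl s b) = 0 := by rw [bf_comm, ← F.px]; exact F.pr.dl_perp F.hs F.hb F.hbz

theorem typ : F.pr.Typ s t := by
  obtain ⟨-, -, q2, q3, -, -, b6, b7, b8, -⟩ := std_facts
  refine ⟨a, b, F.ha, F.hax, F.hb, F.hbz, F.te, ?_, ?_, ?_⟩
  · rw [F.ca.qf_eq (by exact std_facts.1) (by rw [bf_comm, b6]), q2]
  · rw [F.cb.qf_eq (by exact std_facts.1) (by rw [bf_comm, b7]), q3]
  · rw [F.eqp_bf F.ca F.perp_b, F.eqp_bf' F.cb b6, b8]

theorem tz : t * z = z * t := (F.pr.typ_props F.hs F.hsp F.typ).1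

theorem tx : t * x = x * t := (F.pr.typ_props F.hs F.hsp F.typ).2.1

theorem tt : t * t = 1 := (F.pr.typ_props F.hs F.hsp F.typ).2.2.1

theorem t_not_Q : t ∉ Q := (F.pr.typ_props F.hs F.hsp F.typ).2.2.2.1

/-- An isometry trivial modulo `e0` on the perpendicular space lies in the derived group. -/
theorem mem_of_triv {k : O6} (hk0 : k.1 e0 = e0) (hk : ∀ v, bf e0 v = 0 → Eqp e0 v (k.1 v)) : k ∈ Om := by
  have hperp : bf (π s + k.1 (π s)) (π x) = 0 := by
    have e := bf_map k (π s) (π x)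
    rw [F.px, hk0] at e
    rw [F.px, bf_add_left, e]
    exact (show ∀ c : F2, c + c = 0 by decide) _
  obtain ⟨b', hb', hbz', hv⟩ := F.pr.dl_surj F.hs F.hsp hperp
  have hM : k = M b' := by
    refine F.pr.eq_of_radical F.hsp (by rw [F.px, hk0]) (F.pr.fix_p hb' hbz')
      (fun v hv' => ?_) (fun v hv' => F.pr.perp_cases hb' hbz' hv') ?_
    · rw [F.px] at hv' ⊢
      exact hk v (by rw [bf_comm]; exact hv')
    · have := (Eqp.refl (π x) (π s)).add hv
      rwa [F.pr.dl_eq F.hs hbz', ← add_assoc, V_add_self, zero_add, ← add_assoc, V_add_self, zero_add] at this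
  exact hM ▸ F.pr.h.M_mem b' hbz'

/-- An isometry fixing `e0` and the four standard vectors modulo `e0` is trivial there. -/
theorem triv_of_values {k : O6} (hk0 : k.1 e0 = e0) (h1 : Eqp e0 e1 (k.1 e1)) (h2 : Eqp e0 f1 (k.1 f1))
    (h3 : Eqp e0 d0 (k.1 d0)) (h4 : Eqp e0 d1 (k.1 d1)) : ∀ v, bf e0 v = 0 → Eqp e0 v (k.1 v) := by
  intro v hv
  have hkv : bf e0 (k.1 v) = 0 := by rw [← hk0, bf_map, hv]
  have hq : ∀ q, bf e0 q = 0 → Eqp e0 q (k.1 q) → bf q (k.1 v + v) = 0 := fun q hq h => by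
    rw [bf_add_right, ← F.eqp_bf h hkv, bf_map]
    exact (show ∀ c : F2, c + c = 0 by decide) _
  obtain ⟨-, -, -, -, -, b5, b6, b7, -⟩ := std_facts
  rcases zero_of_all _ (by rw [bf_add_right, hkv, hv, add_zero]) (hq e1 b5 h1) (hq f1 f1_facts.2.1 h2)
      (hq d0 b6 h3) (hq d1 b7 h4) with e | e
  · left; rw [← add_zero (k.1 v), ← V_add_self v, ← add_assoc, e, zero_add]
  · right; rw [← add_zero (k.1 v), ← V_add_self v, ← add_assoc, e, add_comm]

/-- The isometries fixing `d0`, `d1` modulo `e0`: either trivial, or swapping `e1`, `f1` and outside `Om`. -/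
theorem stab_cases {k : O6} (hk0 : k.1 e0 = e0) (h3 : Eqp e0 d0 (k.1 d0)) (h4 : Eqp e0 d1 (k.1 d1)) :
    (k ∈ Om ∧ ∀ v, bf e0 v = 0 → Eqp e0 v (k.1 v)) ∨
      (k ∉ Om ∧ Eqp e0 f1 (k.1 e1) ∧ Eqp e0 e1 (k.1 f1)) := by
  obtain ⟨-, q1, -, -, -, b5, b6, b7, -, -, -, -, b12, -, n1, n2⟩ := std_facts
  obtain ⟨qf1, b0f, bef, bdf, bd1f, be1d1, -, -, -, -, -, nf0, nfe, -, -⟩ := f1_facts
  have himg : ∀ v, v ≠ 0 → v ≠ e0 → qf v = 0 → bf e0 v = 0 → bf d0 v = 0 → bf d1 v = 0 →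
      Eqp e0 e1 (k.1 v) ∨ Eqp e0 f1 (k.1 v) := by
    intro v hv hv0 hq hb0 hb3 hb4
    have hp : bf e0 (k.1 v) = 0 := by rw [← hk0, bf_map, hb0]
    rcases perp_split (k.1 v) hp (by rw [← F.eqp_bf h3 hp, bf_map, hb3]) (by rw [← F.eqp_bf h4 hp, bf_map, hb4])
        ((k.2 v).trans hq) with e | e | e | e | e | e
    · exact absurd (k.1.map_eq_zero_iff.mp e) hv
    · exact absurd (k.1.injective (e.trans hk0.symm)) hv0
    · exact Or.inl (Or.inl e)
    · exact Or.inl (Or.inr e)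
    · exact Or.inr (Or.inl e)
    · exact Or.inr (Or.inr e)
  have he := himg e1 n1 n2 q1 b5 (by rw [bf_comm]; exact b12) (by rw [bf_comm]; exact be1d1)
  have hf := himg f1 nf0 nfe qf1 b0f bdf bd1f
  have hne : ∀ {u : V}, bf e0 u = 0 → qf u = 0 → Eqp e0 u (k.1 e1) → Eqp e0 u (k.1 f1) → False := by
    intro u hu hqu a1 a2
    have := bf_map k e1 f1
    rw [F.eqp_bf a1 (by rw [← hk0, bf_map, b0f]), F.eqp_bf' a2 hu, bf_self, bef] at this
    exact zero_ne_one this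
  rcases he with he | he <;> rcases hf with hf | hf
  · exact (hne b5 q1 he hf).elim
  · have ht := F.triv_of_values hk0 he hf h3 h4
    exact Or.inl ⟨F.mem_of_triv hk0 ht, ht⟩
  · refine Or.inr ⟨fun hk => ?_, he, hf⟩
    obtain ⟨s0, s3, s4, s1, s2⟩ := swap_values
    have hk' : (swap * k).1 e0 = e0 := by
      show swap.1 (k.1 e0) = e0
      rw [hk0, s0]
    have hmv : ∀ {u w : V}, Eqp e0 u w → Eqp e0 (swap.1 u) (swap.1 w) := fun {u w} h => by
      have := h.map swap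
      rwa [s0] at this
    have ht := F.triv_of_values hk' (by have := hmv he; rwa [s2] at this) (by have := hmv hf; rwa [s1] at this)
      (by have := hmv h3; rwa [s3] at this) (by have := hmv h4; rwa [s4] at this)
    exact swap_not_mem (by simpa using mul_mem (F.mem_of_triv hk' ht) (inv_mem hk))
  · exact (hne b0f qf1 he hf).elim

end Fr

end CfsgLib.SuzType
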