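import Cfsg.Agent.Lib.SuzType.Second.Local

/-!
Groups of Suzuki sporadic type: every conjugate of `z` in `C(z, x, t)` defines the same four group.
-/

set_option autoImplicit false
set_option linter.unusedSectionVars false
set_option linter.unusedVariables false

universe u

namespace CfsgLib.SuzType

open QuadraticMap
open CfsgLargeExtra
open CfsgLib.HallJankoType (mem_cent conj_fix_iff)

variable {G : Type u} [Group G] [Finite G] {z x s t a b : G} {Q Q' : Subgroup G} {π π' : G → V} {M M' : G → O6}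

namespace Fr

variable (F : Fr z x s t a b Q Q' π π' M M') {r : G}
include F

theorem t_not_conj : ¬ IsConj z t := F.pr.not_conj F.hs F.hsp F.typ

theorem sz : s * z = z * s := F.pr.h.es.comm s F.hs

/-- The square of `s` is central in `C(z)`. -/
theorem s_conj_inv {y : G} (hy : y * z = z * y) : s⁻¹ * y * s = s * y * s⁻¹ := by
  have h2 : s * s * y * (s * s)⁻¹ = y := by
    refine conj_fix_iff.mpr ?_
    rcases F.pr.h.es.sq s F.hs with e | e <;> rw [e]
    · simp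
    · exact hy.symm
  calc s⁻¹ * y * s = s⁻¹ * (s * s * y * (s * s)⁻¹) * s := by rw [h2]
    _ = s * y * s⁻¹ := by group

/-- The frame with the two involutions exchanged. -/
theorem exists_symm : ∃ (s' a' b' : G) (π2 : G → V) (M2 : G → O6), Fr x z s' t a' b' Q' Q π2 π M2 M := by
  obtain ⟨s', hs', hsp', -⟩ := F.pr.symm.exists_s
  have ha' : b⁻¹ * a * b ∈ Q := by
    have := F.pr.h.nor_mem (Commute.inv_left F.hbz) F.ha
    rwa [inv_inv] at this
  have hbx : b * x = x * b := F.pr.h'.es.comm b F.hb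
  have ha'x : b⁻¹ * a * b * x = x * (b⁻¹ * a * b) :=
    Commute.mul_left (Commute.mul_left (Commute.inv_left hbx) F.hax) hbx
  have et : t = b * (b⁻¹ * a * b) := by rw [F.te]; group
  have ht1 : t ≠ 1 := fun e => F.t_not_Q (e ▸ one_mem _)
  have hzx : IsConj x z := by
    obtain ⟨g, hg⟩ := isConj_iff.mp (F.pr.h.isConj_S F.pr.memS)
    exact (isConj_iff.mpr ⟨g, hg⟩ : IsConj z x).symm
  have hT : F.pr.symm.Typ s' (b * (b⁻¹ * a * b)) := by
    refine (F.pr.symm.invol_cases hs' hsp' F.hb F.hbz ha' ha'x (by rw [← et]; exact F.tt)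
      (by rw [← et]; exact ht1)).resolve_left fun e => F.t_not_conj ?_
    rw [← et] at e
    exact hzx.symm.trans e
  rw [← et] at hT
  obtain ⟨a', b', g, -, F'⟩ := F.pr.symm.exists_fr hs' hsp' hT
  exact ⟨s', a', b', _, _, F'⟩

/-- The frame with the point moved by `z`. -/
theorem exists_shift : ∃ (a' b' : G) (π2 π2' : G → V) (M2 M2' : G → O6),
    Fr z (x * z) s t a' b' Q (cj s Q') π2 π2' M2 M2' := by
  obtain ⟨-, -, q2, q3, -, -, b6, b7, b8, -⟩ := std_facts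
  obtain ⟨h00, h11, h10, q01, b601⟩ := d_facts
  have hco : F.Co (s⁻¹ * t * s) (d0 + d1) d1 := by rw [F.s_conj_inv F.tz]; exact F.co_s F.co_t
  obtain ⟨c, d, hc, hcx, hd, hdz, e, -, -, eA, eD⟩ := hco
  have hT : F.pr.Typ s (s⁻¹ * t * s) := by
    refine ⟨c, d, hc, hcx, hd, hdz, e, ?_, ?_, ?_⟩
    · rw [eA.qf_eq qf_e0 (by rw [bf_comm]; exact b601), q01]
    · rw [eD.qf_eq qf_e0 (by rw [bf_comm]; exact b7), q3]
    · rw [F.eqp_bf eA (F.dl_perp' hd hdz), F.eqp_bf' eD b601, bf_add_left, b8, h11, add_zero]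
  obtain ⟨a', b', g, -, F0⟩ := F.pr.exists_fr F.hs F.hsp hT
  have hF := F0.conjBy s
  rw [conj_fix_iff.mpr F.sz, F.s_x, F.pr.h.es.cj_eq_self F.sz,
    show s * (s⁻¹ * t * s) * s⁻¹ = t by group, mul_inv_cancel_right] at hF
  exact ⟨_, _, _, _, _, _, hF⟩

theorem turn_symm {s' a' b' : G} {π2 : G → V} {M2 : G → O6} (F' : Fr x z s' t a' b' Q' Q π2 π M2 M)
    (h : F.Turn r) : F'.Turn r := ⟨h.1, h.2.2.1, h.2.1, h.2.2.2⟩

theorem turn_shift {a' b' : G} {Q2 : Subgroup G} {π2 π2' : G → V} {M2 M2' : G → O6}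
    (F' : Fr z (x * z) s t a' b' Q Q2 π2 π2' M2 M2') (h : F.Turn r) : F'.Turn r :=
  ⟨h.1, h.2.1, Commute.mul_right h.2.2.1 h.2.1, h.2.2.2⟩

theorem co_mem_Q {y : G} {A D : V} (h : F.Co y A D) (hD : Eqp e0 0 D) : y ∈ Q := by
  obtain ⟨c, d, hc, hcx, hd, hdz, rfl, -, -, -, eD⟩ := h
  exact mul_mem hc (F.pr.U_le (F.pr.dl_inj F.hs F.hsp hd hdz (F.px.symm ▸ hD.trans eD))).1

theorem co_mem_Q' {y : G} {A D : V} (h : F.Co y A D) (hA : Eqp e0 0 A) : y ∈ Q' := by
  obtain ⟨c, d, hc, hcx, hd, hdz, rfl, -, -, eA, -⟩ := h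
  refine mul_mem (F.pr.U_mem' (F.pr.mem_U_iff.mpr ⟨hc, ?_⟩)).1 hd
  rcases hA.trans eA with e | e
  · exact Or.inl e
  · exact Or.inr (by rw [e, F.px, zero_add])

/-- Conjugates of `z` in `C(z, x, t)`. -/
theorem z_cases {y : G} (hyz : y * z = z * y) (hyx : y * x = x * y) (hyt : y * t = t * y) (hy : IsConj z y) :
    y ∈ Q ∨ y ∈ Q' ∨ y ∈ cj s Q' := by
  obtain ⟨A, D, hco, -⟩ := F.co_of_cent hyz hyx hyt
  obtain ⟨g, hg⟩ := isConj_iff.mp hy
  have hyy : y * y = 1 := hg ▸ (F.pr.h.es.cj g).zz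
  have hy1 : y ≠ 1 := hg ▸ (F.pr.h.es.cj g).ne
  have hb := (F.co_type hco hyy hy1).mp hy
  obtain ⟨hqA, hqD⟩ := (F.co_sq hco).mp hyy
  rw [hb, add_zero] at hqA hqD
  have hAD : Eqp e0 0 A ∨ Eqp e0 0 D ∨ Eqp e0 A D := by
    obtain ⟨-, -, -, -, -, -, -, hA, hD, -, -⟩ := hco
    rcases witt_index A D hqA hqD hA hD hb with e | e | e | e | e | e
    · exact Or.inl (Or.inl e)
    · exact Or.inl (Or.inr (by rw [e, zero_add]))
    · exact Or.inr (Or.inl (Or.inl e))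
    · exact Or.inr (Or.inl (Or.inr (by rw [e, zero_add])))
    · exact Or.inr (Or.inr (Or.inl e))
    · exact Or.inr (Or.inr (Or.inr e))
  rcases hAD with e | e | e
  · exact Or.inr (Or.inl (F.co_mem_Q' hco e))
  · exact Or.inl (F.co_mem_Q hco e)
  · refine Or.inr (Or.inr (mem_cj.mpr ?_))
    rw [F.s_conj_inv hyz]
    refine F.co_mem_Q' (F.co_s hco) ?_
    have := (Eqp.refl e0 A).add e
    rwa [V_add_self] at this

/-- A turning element centralises every conjugate of `z` in `C(z, x, t)`. -/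
theorem turn_fix_all (h : F.Turn r) {y : G} (hyz : y * z = z * y) (hyx : y * x = x * y) (hyt : y * t = t * y)
    (hy : IsConj z y) : r * y = y * r := by
  obtain ⟨g, hg⟩ := isConj_iff.mp hy
  have hyy : y * y = 1 := hg ▸ (F.pr.h.es.cj g).zz
  rcases F.z_cases hyz hyx hyt hy with hq | hq | hq
  · exact F.turn_fix h hq hyy hyx hyt
  · obtain ⟨s', a', b', π2, M2, F'⟩ := F.exists_symm
    exact F'.turn_fix (F.turn_symm F' h) hq hyy hyz hyt
  · obtain ⟨a', b', π2, π2', M2, M2', F1⟩ := F.exists_shift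
    obtain ⟨s', a'', b'', π3, M3, F'⟩ := F1.exists_symm
    exact F'.turn_fix (F1.turn_symm F' (F.turn_shift F1 h)) hq hyy hyz hyt

variable {z0 : G} {Q0 : Subgroup G}

/-- The four group read at a conjugate of `z` in `Q`. -/
theorem hasW_side (hz : At z0 Q0 z Q) (h : F.Turn r) {e : G} (he : e ∈ Q) (hee : e * e = 1) (hex : e * x = x * e)
    (het : e * t = t * e) (hU : e ∉ F.pr.U) : HasW z0 Q0 e t (r * t * r⁻¹) := by
  have he1 : e ≠ 1 := fun e' => hU (e' ▸ one_mem _)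
  have hez' : e ≠ z := fun e' => hU (e' ▸ F.pr.zU)
  obtain ⟨g, rfl⟩ := isConj_iff.mp (F.pr.h.isConj_Q he hee he1)
  have he' := F.pr.h.conjBy g
  have hzQ : z ∈ cj g Q := F.pr.h.symm_mem he
  have hze : IsConj z (g * z * g⁻¹) := isConj_iff.mpr ⟨g, rfl⟩
  have htQ : t ∉ cj g Q := fun hm =>
    F.t_not_conj (hze.trans (he'.isConj_Q hm F.tt fun e' => F.t_not_Q (e' ▸ one_mem _)))
  obtain ⟨x', hx', htx', hperp⟩ := he'.exists_point het.symm F.tt htQ
  obtain ⟨k, -, P'⟩ := he'.pr_of hx'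
  obtain ⟨s', hs', hsp', -⟩ := P'.exists_s
  obtain ⟨c, d, hc, hcx, hd, hdz, hcd⟩ := P'.decompose hs' hsp' het.symm htx' hperp
  have hT : P'.Typ s' t := by
    rw [hcd]
    refine (P'.invol_cases hs' hsp' hc hcx hd hdz (by rw [← hcd]; exact F.tt)
      (by rw [← hcd]; exact fun e' => F.t_not_Q (e' ▸ one_mem _))).resolve_left fun e' => F.t_not_conj ?_
    rw [← hcd] at e'
    exact hze.trans e'
  obtain ⟨a', b', g', -, F'⟩ := P'.exists_fr hs' hsp' hT
  have hx'z : x' * z = z * x' := by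
    refine ((F'.pr.comm_x hzQ).mpr (F'.t_perp ?_)).symm
    rw [← F'.pr.h.M_act t F'.tz z hzQ, conj_fix_iff.mpr F.tz, V_add_self]
    exact map_zero qf
  have hx'e : x' * (g * z * g⁻¹) = g * z * g⁻¹ * x' := he'.es.comm x' hx'.1
  have hx'x : x' * x = x * x' := F.x_of_e hx'z htx'.symm he hee hex het hU hx'e
  have hx'c : IsConj z x' := hze.trans (he'.isConj_S hx')
  have hre : r * (g * z * g⁻¹) = g * z * g⁻¹ * r := F.turn_fix h he hee hex het
  have hrx' : r * x' = x' * r := F.turn_fix_all h hx'z hx'x htx'.symm hx'c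
  exact ⟨cj g Q, hz.conjBy g, _, _, _, _, _, _, _, _, _, F', r, ⟨h.1, hre, hrx', h.2.2.2⟩, rfl⟩

/-- Every conjugate of `z` in `C(z, x, t)` gives the same four group. -/
theorem hasW_cent (hz : At z0 Q0 z Q) (hx : At z0 Q0 x Q') (h : F.Turn r) {y : G} (hyz : y * z = z * y)
    (hyx : y * x = x * y) (hyt : y * t = t * y) (hy : IsConj z y) : HasW z0 Q0 y t (r * t * r⁻¹) := by
  obtain ⟨g, hg⟩ := isConj_iff.mp hy
  have hyy : y * y = 1 := hg ▸ (F.pr.h.es.cj g).zz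
  have hy1 : y ≠ 1 := hg ▸ (F.pr.h.es.cj g).ne
  obtain ⟨s', a', b', π2, M2, Fs⟩ := F.exists_symm
  obtain ⟨a1, b1, π1, π1', M1, M1', Fh⟩ := F.exists_shift
  obtain ⟨s1, a2, b2, π3, M3, Fhs⟩ := Fh.exists_symm
  have hs := F.turn_symm Fs h
  have hh := F.turn_shift Fh h
  have hhs := Fh.turn_symm Fhs hh
  have hxz : At z0 Q0 (x * z) (cj s Q') := by
    have := hx.conjBy s
    rwa [F.s_x] at this
  by_cases hU : y ∈ F.pr.U
  · rcases hU with e | e | e | e
    · exact absurd e hy1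
    · rw [e]; exact ⟨Q, hz, _, _, _, _, _, _, _, _, _, F, r, h, rfl⟩
    · rw [e]; exact ⟨Q', hx, _, _, _, _, _, _, _, _, _, Fs, r, hs, rfl⟩
    · rw [e, F.pr.zx]; exact ⟨_, hxz, _, _, _, _, _, _, _, _, _, Fhs, r, hhs, rfl⟩
  · have hzU := F.pr.zU
    rcases F.z_cases hyz hyx hyt hy with hq | hq | hq
    · exact F.hasW_side hz h hq hyy hyx hyt hU
    · exact Fs.hasW_side hx hs hq hyy hyz hyt fun hu => hU (F.pr.U_symm hu)
    · refine Fhs.hasW_side hxz hhs hq hyy hyz hyt fun hu => hU ?_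
      have hxU : x * z ∈ F.pr.U := mul_mem F.pr.xU F.pr.zU
      rcases hu with e | e | e | e <;> rw [e]
      · exact one_mem _
      · exact hxU
      · exact hzU
      · exact mul_mem hxU hzU

end Fr

end CfsgLib.SuzType
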