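import Cfsg.Agent.Lib.SuzType.Second.Line

/-!
Groups of Suzuki sporadic type: existence, coordinates and uniqueness of the elements turning the second involution.
-/

set_option autoImplicit false
set_option linter.unusedSectionVars false
set_option linter.unusedVariables false

universe u

namespace CfsgLib.SuzType

open QuadraticMap
open CfsgLargeExtra
open CfsgLib.HallJankoType (mem_cent conj_fix_iff)

/-- The rotation of the plane of `t`. -/
noncomputable def rotL : O6 := tr d0 std_facts.2.2.1 * tr d1 std_facts.2.2.2.1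

theorem rotL_mem : rotL ∈ Om := tr_mul_mem d0 d1 _ _

theorem rotL_values : rotL.1 e0 = e0 ∧ rotL.1 e1 = e1 ∧ rotL.1 f1 = f1 ∧ rotL.1 d0 = d1 ∧ rotL.1 d1 = d0 + d1 := by
  obtain ⟨-, -, -, -, -, -, b6, b7, b8, -, -, -, b12, -⟩ := std_facts
  obtain ⟨-, -, -, bdf, bd1f, be1d1, -⟩ := f1_facts
  obtain ⟨h00, h11, h10, -, -⟩ := d_facts
  have h : ∀ v, rotL.1 v = (v + bf v d1 • d1) + bf (v + bf v d1 • d1) d0 • d0 := fun v => by
    show (tr d0 _).1 ((tr d1 _).1 v) = _
    rw [tr_apply, tr_apply]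
  refine ⟨?_, ?_, ?_, ?_, ?_⟩ <;> rw [h]
  · rw [b7, zero_smul, add_zero, b6, zero_smul, add_zero]
  · rw [be1d1, zero_smul, add_zero, b12, zero_smul, add_zero]
  · rw [bf_comm f1 d1, bd1f, zero_smul, add_zero, bf_comm f1 d0, bdf, zero_smul, add_zero]
  · rw [b8, one_smul, bf_add_left, h00, h10, zero_add, one_smul, add_comm d0 d1, add_assoc, V_add_self, add_zero]
  · rw [h11, zero_smul, add_zero, h10, one_smul, add_comm]

variable {G : Type u} [Group G] [Finite G] {z x s t a b : G} {Q Q' : Subgroup G} {π π' : G → V} {M M' : G → O6}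

namespace Fr

variable (F : Fr z x s t a b Q Q' π π' M M')
include F

theorem eqp_fix {g : O6} (h0 : g.1 e0 = e0) {u v : V} (h : Eqp e0 u v) : Eqp e0 (g.1 u) (g.1 v) := by
  have := h.map g
  rwa [h0] at this

/-- A pre-element of order three over the rotation. -/
theorem exists_rot₀ : ∃ r : G, r ^ 3 = 1 ∧ r * z = z * r ∧ r * x = x * r ∧
    F.Co (r * t * r⁻¹) d1 (d0 + d1) ∧ F.Co (r * (r * t * r⁻¹) * r⁻¹) (d0 + d1) d0 := by
  obtain ⟨v0, -, -, v3, v4⟩ := rotL_values
  obtain ⟨c, hcz, hcx, hM⟩ := F.pr.exists_lift rotL_mem (by rw [F.px]; exact v0)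
  have e3 : rotL.1 (d0 + d1) = d0 := by
    rw [map_add, v3, v4, add_comm d0 d1, ← add_assoc, V_add_self, zero_add]
  have hc3 : M (c * c * c) = rotL * rotL * rotL := by
    rw [F.pr.h.M_mul _ _ (Commute.mul_left hcz hcz) hcz, F.pr.h.M_mul _ _ hcz hcz, hM]
  obtain ⟨A, D, hco⟩ := F.exists_co (y := c * c * c) (Commute.mul_left (Commute.mul_left hcz hcz) hcz)
    (Commute.mul_left (Commute.mul_left hcx hcx) hcx) (by
      rw [hc3]
      rcases F.stab_cases (k := rotL * rotL * rotL) (show rotL.1 (rotL.1 (rotL.1 e0)) = e0 by rw [v0, v0, v0])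
          (Or.inl (show rotL.1 (rotL.1 (rotL.1 d0)) = d0 by rw [v3, v4, e3]))
          (Or.inl (show rotL.1 (rotL.1 (rotL.1 d1)) = d1 by rw [v4, e3, v3])) with ⟨-, h⟩ | ⟨h, -⟩
      · exact h
      · exact absurd (mul_mem (mul_mem rotL_mem rotL_mem) rotL_mem) h)
  have h12 : c ^ 12 = 1 := by
    rw [show (12 : ℕ) = 3 * 4 from rfl, pow_mul, show c ^ 3 = c * c * c by rw [pow_succ, pow_two]]
    exact F.co_four_pow hco
  refine ⟨c ^ 4, by rw [← pow_mul, h12], Commute.pow_left hcz 4, Commute.pow_left hcx 4, ?_⟩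
  have step : ∀ (y : G) (A D : V), F.Co y A D → F.Co (c * y * c⁻¹) (rotL.1 A) (rotL.1 D) := fun y A D h =>
    hM ▸ F.co_conj hcz hcx h
  have e4 : ∀ y, c ^ 4 * y * (c ^ 4)⁻¹ = c * (c * (c * (c * y * c⁻¹) * c⁻¹) * c⁻¹) * c⁻¹ := fun y => by
    simp [pow_succ, mul_assoc]
  have h1 : F.Co (c ^ 4 * t * (c ^ 4)⁻¹) d1 (d0 + d1) := by
    rw [e4]
    have := step _ _ _ (step _ _ _ (step _ _ _ (step _ _ _ F.co_t)))
    simpa only [v3, v4, e3] using this
  refine ⟨h1, ?_⟩
  rw [e4]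
  have := step _ _ _ (step _ _ _ (step _ _ _ (step _ _ _ h1)))
  simpa only [v3, v4, e3] using this

theorem d_ne : ¬ Eqp e0 d1 d0 := by
  obtain ⟨h00, -, h10, -⟩ := d_facts
  intro h
  have := F.eqp_bf h (w := d0) std_facts.2.2.2.2.2.2.1
  rw [h00, h10] at this
  exact zero_ne_one this

/-- Conjugates of `t` by the product cover `t U`. -/
theorem t_surj {u : G} (hu : u ∈ F.pr.U) :
    ∃ p : G, p * z = z * p ∧ p * x = x * p ∧ p * t * p⁻¹ = t * u := by
  obtain ⟨-, -, -, -, -, -, b6, b7, b8, -⟩ := std_facts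
  obtain ⟨h00, h11, h10, -, -⟩ := d_facts
  have mk : ∀ A D : V, bf e0 A = 0 → bf e0 D = 0 → ∀ v, v = (if bf A d0 + bf D d0 + bf A d1 = 0 then 1 else z) *
      (if bf D d1 + bf D d0 + bf A d1 = 0 then 1 else x) → ∃ p : G, p * z = z * p ∧ p * x = x * p ∧ p * t * p⁻¹ = t * v := by
    intro A D hA hD v hv
    obtain ⟨p, hp⟩ := F.co_exists hA hD
    exact ⟨p, (F.co_comm hp).1, (F.co_comm hp).2, hv ▸ F.co_conj_val hp F.co_t⟩
  rcases hu with rfl | rfl | rfl | rfl
  · exact ⟨1, by simp, by simp, by simp⟩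
  · refine mk d1 0 b7 (bf_zero_right _) _ ?_
    simp [h10, h11, bf_zero_left]
  · refine mk 0 d0 (bf_zero_right _) b6 _ ?_
    simp [h00, b8, bf_zero_left]
  · refine mk d0 0 b6 (bf_zero_right _) _ ?_
    simp [h00, b8, bf_zero_left]

theorem exists_turn : ∃ r, F.Turn r := by
  obtain ⟨r, hr3, hrz, hrx, h1, h2⟩ := F.exists_rot₀
  set w := r * t * r⁻¹ with hw
  have hu : t * w * (r * w * r⁻¹) ∈ F.pr.U := by
    refine F.co_zero (F.co_mul (F.co_mul F.co_t h1) h2) (Or.inl ?_) (Or.inl ?_)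
    · rw [show d0 + d1 + (d0 + d1) = (d0 + d1) + (d0 + d1) from rfl, V_add_self]
    · rw [show d1 + (d0 + d1) + d0 = d0 + d1 + (d0 + d1) by abel, V_add_self]
  obtain ⟨p, hpz, hpx, hp⟩ := F.t_surj hu
  set u := t * w * (r * w * r⁻¹) with hudef
  have huc : ∀ {g : G}, g * z = z * g → g * x = x * g → u * g = g * u := fun h h' => F.pr.U_central hu h h'
  have hru : r * u * r⁻¹ = u := conj_fix_iff.mpr (huc hrz hrx).symm
  have hw2 := F.co_comm h1
  have huu : u * u = 1 := (F.pr.U_le hu).2.2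
  refine ⟨p⁻¹ * r * p, ?_, Commute.mul_left (Commute.mul_left (Commute.inv_left hpz) hrz) hpz,
    Commute.mul_left (Commute.mul_left (Commute.inv_left hpx) hrx) hpx, fun h => ?_, ?_⟩
  · rw [show p⁻¹ * r * p = p⁻¹ * r * p⁻¹⁻¹ by group, conj_pow, hr3]; group
  · have : r * (t * u) * r⁻¹ = t * u := by
      rw [← hp]
      calc r * (p * t * p⁻¹) * r⁻¹ = p * (p⁻¹ * r * p * t * (p⁻¹ * r * p)⁻¹) * p⁻¹ := by group
        _ = p * t * p⁻¹ := by rw [h]
    rw [show r * (t * u) * r⁻¹ = w * (r * u * r⁻¹) by rw [hw]; group, hru] at this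
    rw [mul_right_cancel this] at h1
    exact F.d_ne (F.co_unique h1 F.co_t).1
  · have e : t * (p⁻¹ * r * p * t * (p⁻¹ * r * p)⁻¹) *
        (p⁻¹ * r * p * (p⁻¹ * r * p * t * (p⁻¹ * r * p)⁻¹) * (p⁻¹ * r * p)⁻¹) =
        p⁻¹ * (p * t * p⁻¹ * (r * (p * t * p⁻¹) * r⁻¹) * (r * (r * (p * t * p⁻¹) * r⁻¹) * r⁻¹)) * p := by group
    rw [e, hp, show r * (t * u) * r⁻¹ = w * (r * u * r⁻¹) by rw [hw]; group, hru,
      show r * (w * u) * r⁻¹ = r * w * r⁻¹ * (r * u * r⁻¹) by group, hru]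
    have : t * u * (w * u) * (r * w * r⁻¹ * u) = 1 := by
      calc t * u * (w * u) * (r * w * r⁻¹ * u) = t * ((u * w) * u) * (r * w * r⁻¹ * u) := by group
        _ = t * w * (r * w * r⁻¹) * u := by
          rw [huc hw2.1 hw2.2, mul_assoc w u u, huu, mul_one, ← mul_assoc (t * w), ← hudef, huu]
        _ = 1 := by rw [← hudef, huu]
    rw [this]
    group

variable {r : G}

theorem turn_mem (h : F.Turn r) :
    r * (r * t * r⁻¹) * r⁻¹ = t * (r * t * r⁻¹) ∧ t * (r * t * r⁻¹) = r * t * r⁻¹ * t ∧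
      (r * t * r⁻¹) * (r * t * r⁻¹) = 1 ∧ F.Co (r * t * r⁻¹) ((M r).1 d0) ((M r).1 d1) := by
  obtain ⟨-, hrz, hrx, -, hp⟩ := h
  set w := r * t * r⁻¹ with hw
  have hww : w * w = 1 := by
    rw [hw, show r * t * r⁻¹ * (r * t * r⁻¹) = r * (t * t) * r⁻¹ by group, F.tt, mul_one, mul_inv_cancel]
  have h2 : (r * w * r⁻¹) * (r * w * r⁻¹) = 1 := by
    rw [show r * w * r⁻¹ * (r * w * r⁻¹) = r * (w * w) * r⁻¹ by group, hww, mul_one, mul_inv_cancel]
  have e : t * w = r * w * r⁻¹ := by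
    calc t * w = t * w * ((r * w * r⁻¹) * (r * w * r⁻¹)) := by rw [h2, mul_one]
      _ = t * w * (r * w * r⁻¹) * (r * w * r⁻¹) := by group
      _ = _ := by rw [hp, one_mul]
  refine ⟨e.symm, ?_, hww, F.co_conj hrz hrx F.co_t⟩
  have h3 : (t * w) * (t * w) = 1 := by rw [e, h2]
  calc t * w = (t * w)⁻¹ := (inv_eq_of_mul_eq_one_left h3).symm
    _ = w * t := by rw [mul_inv_rev, inv_eq_of_mul_eq_one_left hww, inv_eq_of_mul_eq_one_left F.tt]

theorem turn_inv (h : F.Turn r) : F.Turn r⁻¹ ∧ r⁻¹ * t * r⁻¹⁻¹ = t * (r * t * r⁻¹) := by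
  obtain ⟨h3, hrz, hrx, hne, hp⟩ := h
  obtain ⟨e1, e2, e3, -⟩ := F.turn_mem ⟨h3, hrz, hrx, hne, hp⟩
  set w := r * t * r⁻¹ with hw
  have e4 : r⁻¹ * t * r⁻¹⁻¹ = t * w := by
    have : r * (t * w) * r⁻¹ = t := by
      rw [show r * (t * w) * r⁻¹ = w * (r * w * r⁻¹) by rw [hw]; group, e1, ← mul_assoc, ← e2, mul_assoc, e3, mul_one]
    calc r⁻¹ * t * r⁻¹⁻¹ = r⁻¹ * (r * (t * w) * r⁻¹) * r := by rw [this, inv_inv]
      _ = t * w := by group
  refine ⟨⟨by rw [inv_pow, h3, inv_one], Commute.inv_left hrz, Commute.inv_left hrx, fun e => ?_, ?_⟩, e4⟩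
  · rw [e4, mul_eq_left] at e
    rw [hw, conj_eq_one_iff] at e
    have hq := F.t_not_Q
    rw [e] at hq
    exact hq (one_mem _)
  · rw [e4, show r⁻¹ * (t * w) * r⁻¹⁻¹ = (r⁻¹ * t * r⁻¹⁻¹) * (r⁻¹ * w * r⁻¹⁻¹) by group, e4,
      show r⁻¹ * w * r⁻¹⁻¹ = t by rw [hw]; group]
    rw [← mul_assoc t t w, F.tt, one_mul, e2, ← mul_assoc, ← mul_assoc, e3, one_mul, F.tt]

theorem not_zero {v : V} (g : O6) (h0 : g.1 e0 = e0) (h : Eqp e0 0 (g.1 v)) : Eqp e0 0 v := by
  rcases h with e | e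
  · exact Or.inl (g.1.map_eq_zero_iff.mp e)
  · exact Or.inr (g.1.injective (by rw [e, zero_add]; exact h0.symm))

theorem zero_of_eqp_add {u v : V} (h : Eqp e0 u (u + v)) : Eqp e0 0 v := by
  have := h.add (Eqp.refl e0 u)
  rwa [V_add_self, add_comm u v, add_assoc, V_add_self, add_zero] at this

/-- The coordinates of `r t r⁻¹`. -/
theorem turn_co (h : F.Turn r) : F.Co (r * t * r⁻¹) d1 (d0 + d1) ∨ F.Co (r * t * r⁻¹) (d0 + d1) d0 := by
  obtain ⟨-, -, q2, q3, -, -, b6, b7, b8, -⟩ := std_facts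
  obtain ⟨h00, h11, h10, q01, b601⟩ := d_facts
  obtain ⟨e1', e2', e3', hco⟩ := F.turn_mem h
  obtain ⟨-, hrz, hrx, -, -⟩ := h
  set g := M r
  set A := g.1 d0 with hA
  set D := g.1 d1 with hD
  have h0 : g.1 e0 = e0 := F.M_fix hrz hrx
  have hA0 : bf e0 A = 0 := by rw [hA, ← h0, bf_map, b6]
  have hD0 : bf e0 D = 0 := by rw [hD, ← h0, bf_map, b7]
  have qA : qf A = 1 := (g.2 d0).trans q2
  have qD : qf D = 1 := (g.2 d1).trans q3
  have hAD : bf A D = 1 := (bf_map g _ _).trans b8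
  have h2 := F.co_conj hrz hrx hco
  rw [e1'] at h2
  obtain ⟨gA, gD⟩ := F.co_unique (F.co_mul F.co_t hco) h2
  have qA1 : qf (d0 + A) = 1 := by
    rw [← gA.qf_eq qf_e0 (by rw [bf_comm, bf_add_right, b6, hA0, add_zero])]; exact (g.2 A).trans qA
  have qD1 : qf (d1 + D) = 1 := by
    rw [← gD.qf_eq qf_e0 (by rw [bf_comm, bf_add_right, b7, hD0, add_zero])]; exact (g.2 D).trans qD
  rw [qf_add, q2, qA] at qA1
  rw [qf_add, q3, qD] at qD1
  have hα : bf A d0 = 1 := by rw [bf_comm]; exact (show ∀ c : F2, 1 + 1 + c = 1 → c = 1 by decide) _ qA1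
  have hε : bf D d1 = 1 := by rw [bf_comm]; exact (show ∀ c : F2, 1 + 1 + c = 1 → c = 1 by decide) _ qD1
  obtain ⟨-, hc2⟩ := F.co_cent_eq hco e2'.symm
  rw [hε] at hc2
  have key : ∀ {v : V}, qf v = 0 → bf e0 v = 0 → bf d0 v = 0 → bf d1 v = 0 →
      Eqp e0 0 v ∨ Eqp e0 e1 v ∨ Eqp e0 f1 v := fun {v} h1 h2 h3 h4 => eqp_small (perp_split v h2 h3 h4 h1)
  -- a pair of singular vectors, perpendicular
  have pair : ∀ {m m' : V}, qf m = 0 → bf e0 m = 0 → bf d0 m = 0 → bf d1 m = 0 → qf m' = 0 → bf e0 m' = 0 →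
      bf d0 m' = 0 → bf d1 m' = 0 → bf m m' = 0 → Eqp e0 0 m ∨ Eqp e0 0 m' ∨ Eqp e0 m m' := by
    intro m m' a1 a2 a3 a4 b1 b2 b3 b4 hmm
    obtain ⟨-, b0f, bef, -⟩ := f1_facts
    obtain ⟨-, -, -, -, -, b5, -⟩ := std_facts
    rcases key a1 a2 a3 a4 with u | u | u
    · exact Or.inl u
    all_goals rcases key b1 b2 b3 b4 with v | v | v
    · exact Or.inr (Or.inl v)
    · exact Or.inr (Or.inr (u.symm.trans v))
    · exfalso
      rw [F.eqp_bf u b2, F.eqp_bf' v b5, bef] at hmm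
      exact one_ne_zero hmm
    · exact Or.inr (Or.inl v)
    · exfalso
      rw [F.eqp_bf u b2, F.eqp_bf' v b0f, bf_comm, bef] at hmm
      exact one_ne_zero hmm
    · exact Or.inr (Or.inr (u.symm.trans v))
  rcases F2_cases (bf A d1) with hβ | hβ
  · -- first shape
    left
    rw [hβ] at hc2
    have hγ : bf D d0 = 1 := (show ∀ c : F2, 1 + c + 0 = 0 → c = 1 by decide) _ hc2
    obtain ⟨m, hm⟩ : ∃ m, m = A + d1 := ⟨_, rfl⟩
    obtain ⟨n, hn⟩ : ∃ n, n = D + (d0 + d1) := ⟨_, rfl⟩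
    have hAm : A = d1 + m := by rw [hm, add_comm A d1, ← add_assoc, V_add_self, zero_add]
    have hDn : D = d0 + d1 + n := by rw [hn, add_comm D (d0 + d1), ← add_assoc, V_add_self, zero_add]
    have p := pair (m := m) (m' := n)
      (by rw [hm, qf_add, qA, q3, hβ]; decide) (by rw [hm, bf_add_right, hA0, b7, add_zero])
      (by rw [hm, bf_add_right, bf_comm, hα, b8]; decide) (by rw [hm, bf_add_right, bf_comm, hβ, h11, add_zero])
      (by rw [hn, qf_add, qD, q01, bf_add_right, hγ, hε]; decide)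
      (by rw [hn, bf_add_right, hD0, b601, add_zero])
      (by rw [hn, bf_add_right, bf_comm, hγ, bf_add_right, h00, b8]; decide)
      (by rw [hn, bf_add_right, bf_comm, hε, bf_add_right, h10, h11]; decide)
      (by rw [hm, hn]
          simp only [bf_add_left, bf_add_right, hAD, hα, hβ, hε, hγ, h00, h10, h11, b8, bf_comm d1 D, bf_comm d0 D]
          decide)
    have g1 : Eqp e0 (m + n) (g.1 m) := by
      have := gA.add (Eqp.refl e0 (g.1 d1))
      rw [← hD, hDn] at this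
      rw [hAm, map_add, ← hD, hDn] at this
      rw [show d0 + (d1 + m) + (d0 + d1 + n) = (d0 + d0) + (d1 + d1) + (m + n) by abel, show d0 + d1 + n + g.1 m + (d0 + d1 + n) =
          (d0 + d0) + (d1 + d1) + (n + n) + g.1 m by abel] at this
      simp only [V_add_self, add_zero, zero_add] at this
      exact this
    have g2 : Eqp e0 m (g.1 n) := by
      have := gD.add (Eqp.refl e0 (g.1 d0 + g.1 d1))
      rw [← hA, ← hD, hAm, hDn] at this
      rw [map_add, map_add, ← hA, ← hD, hAm, hDn] at this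
      rw [show d1 + (d0 + d1 + n) + (d1 + m + (d0 + d1 + n)) =
          (d0 + d0) + (d1 + d1) + (d1 + d1) + (n + n) + m by abel, show d1 + m + (d0 + d1 + n) + g.1 n + (d1 + m + (d0 + d1 + n)) =
          (d0 + d0) + (d1 + d1) + (d1 + d1) + (m + m) + (n + n) + g.1 n by abel] at this
      simp only [V_add_self, add_zero, zero_add] at this
      exact this
    suffices hz : Eqp e0 0 m ∧ Eqp e0 0 n by
      refine F.co_congr hco ?_ ?_
      · have := (Eqp.refl e0 d1).add hz.1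
        rw [add_zero, ← hAm] at this
        exact this.symm
      · have := (Eqp.refl e0 (d0 + d1)).add hz.2
        rw [add_zero, ← hDn] at this
        exact this.symm
    have hmap : ∀ {u : V}, Eqp e0 0 u → Eqp e0 0 (g.1 u) := fun {u} h => by
      have := F.eqp_fix h0 h; rwa [map_zero] at this
    rcases p with u | u | u
    · exact ⟨u, F.not_zero g h0 (u.trans g2)⟩
    · exact ⟨(hmap u).trans g2.symm, u⟩
    · have hs : Eqp e0 0 (m + n) := by
        have := (Eqp.refl e0 m).add u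
        rwa [V_add_self] at this
      have hm0 := F.not_zero g h0 (hs.trans g1)
      exact ⟨hm0, hm0.trans u⟩
  · -- second shape
    right
    rw [hβ] at hc2
    have hγ : bf D d0 = 0 := (show ∀ c : F2, 1 + c + 1 = 0 → c = 0 by decide) _ hc2
    obtain ⟨m, hm⟩ : ∃ m, m = A + (d0 + d1) := ⟨_, rfl⟩
    obtain ⟨n, hn⟩ : ∃ n, n = D + d0 := ⟨_, rfl⟩
    have hAm : A = d0 + d1 + m := by rw [hm, add_comm A (d0 + d1), ← add_assoc, V_add_self, zero_add]
    have hDn : D = d0 + n := by rw [hn, add_comm D d0, ← add_assoc, V_add_self, zero_add]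
    have p := pair (m := m) (m' := n)
      (by rw [hm, qf_add, qA, q01, bf_add_right, hα, hβ]; decide) (by rw [hm, bf_add_right, hA0, b601, add_zero])
      (by rw [hm, bf_add_right, bf_comm, hα, bf_add_right, h00, b8]; decide)
      (by rw [hm, bf_add_right, bf_comm, hβ, bf_add_right, h10, h11]; decide)
      (by rw [hn, qf_add, qD, q2, hγ]; decide)
      (by rw [hn, bf_add_right, hD0, b6, add_zero])
      (by rw [hn, bf_add_right, bf_comm, hγ, h00, add_zero])
      (by rw [hn, bf_add_right, bf_comm, hε, h10]; decide)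
      (by rw [hm, hn]
          simp only [bf_add_left, bf_add_right, hAD, hα, hβ, hε, hγ, h00, h10, h11, b8, bf_comm d1 D, bf_comm d0 D]
          decide)
    have g1 : Eqp e0 n (g.1 m) := by
      have := gA.add (Eqp.refl e0 (g.1 d0 + g.1 d1))
      rw [← hA, ← hD, hAm, hDn] at this
      rw [map_add, map_add, ← hA, ← hD, hAm, hDn] at this
      rw [show d0 + (d0 + d1 + m) + (d0 + d1 + m + (d0 + n)) =
          (d0 + d0) + (d0 + d0) + (d1 + d1) + (m + m) + n by abel, show d0 + d1 + m + (d0 + n) + g.1 m + (d0 + d1 + m + (d0 + n)) =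
          (d0 + d0) + (d0 + d0) + (d1 + d1) + (m + m) + (n + n) + g.1 m by abel] at this
      simp only [V_add_self, add_zero, zero_add] at this
      exact this
    have g2 : Eqp e0 (m + n) (g.1 n) := by
      have := gD.add (Eqp.refl e0 (g.1 d0))
      rw [← hA, hAm] at this
      rw [hDn, map_add, ← hA, hAm] at this
      rw [show d1 + (d0 + n) + (d0 + d1 + m) = (d0 + d0) + (d1 + d1) + (m + n) by abel, show d0 + d1 + m + g.1 n + (d0 + d1 + m) =
          (d0 + d0) + (d1 + d1) + (m + m) + g.1 n by abel] at this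
      simp only [V_add_self, add_zero, zero_add] at this
      exact this
    suffices hz : Eqp e0 0 m ∧ Eqp e0 0 n by
      refine F.co_congr hco ?_ ?_
      · have := (Eqp.refl e0 (d0 + d1)).add hz.1
        rw [add_zero, ← hAm] at this
        exact this.symm
      · have := (Eqp.refl e0 d0).add hz.2
        rw [add_zero, ← hDn] at this
        exact this.symm
    have hmap : ∀ {u : V}, Eqp e0 0 u → Eqp e0 0 (g.1 u) := fun {u} h => by
      have := F.eqp_fix h0 h; rwa [map_zero] at this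
    rcases p with u | u | u
    · exact ⟨u, (hmap u).trans g1.symm⟩
    · exact ⟨F.not_zero g h0 (u.trans g1), u⟩
    · have hs : Eqp e0 0 (m + n) := by
        have := (Eqp.refl e0 m).add u
        rwa [V_add_self] at this
      have hn0 := F.not_zero g h0 (hs.trans g2)
      exact ⟨hn0.trans u.symm, hn0⟩

end Fr

end CfsgLib.SuzType
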