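import Cfsg.Agent.Lib.SuzType.Second.Turn

/-!
Groups of Suzuki sporadic type: the four group defined by a turning element is unique, centralised by `C(z, x, t)`,
and moved by the elements of `C(z, t)` outside `C(x)`.
-/

set_option autoImplicit false
set_option linter.unusedSectionVars false
set_option linter.unusedVariables false

universe u

namespace CfsgLib.SuzType

open QuadraticMap
open CfsgLargeExtra
open CfsgLib.HallJankoType (mem_cent conj_fix_iff)

variable {G : Type u} [Group G] [Finite G] {z x s t a b : G} {Q Q' : Subgroup G} {π π' : G → V} {M M' : G → O6}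

omit [Finite G] in
theorem uv_inj {i j i' j' : F2} (hz1 : z ≠ 1) (hx1 : x ≠ 1) (hzz : z * z = 1) (hxx : x * x = 1) (hne : z ≠ x)
    (h : (if i = 0 then 1 else z) * (if j = 0 then 1 else x) = (if i' = 0 then 1 else z) * (if j' = 0 then 1 else x)) :
    i = i' ∧ j = j' := by
  have hp : z * x ≠ 1 := fun e => hne ((eq_inv_of_mul_eq_one_left e).trans (inv_eq_of_mul_eq_one_right hxx))
  rcases F2_cases i with rfl | rfl <;> rcases F2_cases j with rfl | rfl <;> rcases F2_cases i' with rfl | rfl <;>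
    rcases F2_cases j' with rfl | rfl <;>
    simp [hz1, hx1, Ne.symm hz1, Ne.symm hx1, hne, Ne.symm hne, hp, Ne.symm hp] at h ⊢

theorem two_classes {g : O6} (h0 : g.1 e0 = e0) {v : V} (h3 : g.1 (g.1 (g.1 v)) = v)
    (c0 : Eqp e0 e1 v ∨ Eqp e0 f1 v) (c1 : Eqp e0 e1 (g.1 v) ∨ Eqp e0 f1 (g.1 v))
    (c2 : Eqp e0 e1 (g.1 (g.1 v)) ∨ Eqp e0 f1 (g.1 (g.1 v))) : Eqp e0 v (g.1 v) := by
  have mp : ∀ {u w : V}, Eqp e0 u w → Eqp e0 (g.1 u) (g.1 w) := fun {u w} h => by
    have := h.map g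
    rwa [h0] at this
  have k1 : Eqp e0 (g.1 v) (g.1 (g.1 v)) → Eqp e0 v (g.1 v) := fun h => by
    have h' := mp h
    rw [h3] at h'
    exact (h.trans h').symm
  have k2 : Eqp e0 v (g.1 (g.1 v)) → Eqp e0 v (g.1 v) := fun h => by
    have h' := mp h
    rw [h3] at h'
    exact h'.symm
  rcases c0 with c0 | c0 <;> rcases c1 with c1 | c1 <;> rcases c2 with c2 | c2 <;>
    first
      | exact c0.symm.trans c1
      | exact k1 (c1.symm.trans c2)
      | exact k2 (c0.symm.trans c2)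

namespace Fr

variable (F : Fr z x s t a b Q Q' π π' M M') {r : G}
include F

/-- The elements of `C(z, x, t)` centralise the four group. -/
theorem turn_comm (h : F.Turn r) {y : G} (hyz : y * z = z * y) (hyx : y * x = x * y) (hyt : y * t = t * y) :
    y * (r * t * r⁻¹) = r * t * r⁻¹ * y := by
  obtain ⟨A, D, hco, q1, q2⟩ := F.co_of_cent hyz hyx hyt
  rcases F.turn_co h with hw | hw <;> rw [F.co_commute hco hw] <;> simp only [bf_add_right]
  · revert q1 q2
    generalize bf A d0 = i, bf A d1 = j, bf D d0 = k, bf D d1 = l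
    revert i j k l
    decide
  · revert q1 q2
    generalize bf A d0 = i, bf A d1 = j, bf D d0 = k, bf D d1 = l
    revert i j k l
    decide

theorem turn_eq {r' : G} (h : F.Turn r) (h' : F.Turn r') {A D : V}
    (hs' : (A = d1 ∧ D = d0 + d1) ∨ (A = d0 + d1 ∧ D = d0)) (hw : F.Co (r * t * r⁻¹) A D)
    (hw' : F.Co (r' * t * r'⁻¹) A D) : r' * t * r'⁻¹ = r * t * r⁻¹ := by
  obtain ⟨-, hrz, hrx, -, -⟩ := id h
  obtain ⟨-, hrz', hrx', -, -⟩ := id h'
  obtain ⟨e1, e2, e3, -⟩ := F.turn_mem h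
  obtain ⟨e1', -, e3', -⟩ := F.turn_mem h'
  set w := r * t * r⁻¹ with hwd
  set w' := r' * t * r'⁻¹ with hwd'
  obtain ⟨u, hudef⟩ : ∃ u, u = w * w' := ⟨_, rfl⟩
  have hu : u ∈ F.pr.U := hudef ▸ F.co_zero (F.co_mul hw hw') (Or.inl (V_add_self A)) (Or.inl (V_add_self D))
  obtain ⟨-, -, huu⟩ := F.pr.U_le hu
  have huc : ∀ {g : G}, g * z = z * g → g * x = x * g → u * g = g * u := fun a b => F.pr.U_central hu a b
  have ew' : w' = w * u := by rw [hudef, ← mul_assoc, e3, one_mul]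
  have ew : w = w' * u := by rw [ew', mul_assoc, huu, mul_one]
  obtain ⟨c, hc⟩ : ∃ c, c = r' * r⁻¹ := ⟨_, rfl⟩
  have hcz : c * z = z * c := hc ▸ Commute.mul_left hrz' (Commute.inv_left hrz)
  have hcx : c * x = x * c := hc ▸ Commute.mul_left hrx' (Commute.inv_left hrx)
  have cw : c * w * c⁻¹ = w * u := by rw [← ew', hc, hwd, hwd']; group
  have ctw : c * (t * w) * c⁻¹ = t * w := by
    rw [hc, ← e1, show r' * r⁻¹ * (r * w * r⁻¹) * (r' * r⁻¹)⁻¹ = r' * w * r'⁻¹ by group]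
    conv_lhs => rw [ew]
    rw [show r' * (w' * u) * r'⁻¹ = r' * w' * r'⁻¹ * (r' * u * r'⁻¹) by group,
      conj_fix_iff.mpr (huc hrz' hrx').symm, e1', ew', e1, ← mul_assoc, mul_assoc (t * w) u u, huu, mul_one]
  have ct : c * t * c⁻¹ = t * u := by
    have e : c * t * c⁻¹ = c * (t * w) * c⁻¹ * (c * w * c⁻¹)⁻¹ := by group
    rw [e, ctw, cw, mul_inv_rev, inv_eq_of_mul_eq_one_right huu, inv_eq_of_mul_eq_one_right e3,
      huc (F.co_comm hw).1 (F.co_comm hw).2, ← mul_assoc, mul_assoc t w w, e3, mul_one]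
  obtain ⟨g0, g1⟩ := F.co_unique (F.co_mul_U F.co_t hu) (ct ▸ F.co_conj hcz hcx F.co_t)
  obtain ⟨A', D', hco⟩ := F.exists_co hcz hcx (by
    rcases F.stab_cases (F.M_fix hcz hcx) g0 g1 with ⟨-, h⟩ | ⟨h, -⟩
    · exact h
    · exact absurd (F.pr.h.M_mem c hcz) h)
  have v1 := F.co_conj_val hco F.co_t
  have v2 := F.co_conj_val hco hw
  rw [ct] at v1
  rw [cw] at v2
  have heq := (mul_left_cancel v1).symm.trans (mul_left_cancel v2)
  obtain ⟨hi, hj⟩ := uv_inj F.pr.h.es.ne F.pr.x1 F.pr.h.zz F.pr.xx (fun e => F.pr.ne e.symm) heq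
  obtain ⟨z1, z2⟩ : bf A' d0 + bf D' d0 + bf A' d1 = 0 ∧ bf D' d1 + bf D' d0 + bf A' d1 = 0 := by
    rcases hs' with ⟨rfl, rfl⟩ | ⟨rfl, rfl⟩ <;> simp only [bf_add_right] at hi hj <;> revert hi hj <;>
      generalize bf A' d0 = i, bf A' d1 = j, bf D' d0 = k, bf D' d1 = l <;> revert i j k l <;> decide
  have hu1 := mul_left_cancel v1
  rw [z1, z2] at hu1
  rw [ew', hu1]
  simp

/-- The four group is unique. -/
theorem turn_unique {r' : G} (h : F.Turn r) (h' : F.Turn r') :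
    r' * t * r'⁻¹ = r * t * r⁻¹ ∨ r' * t * r'⁻¹ = t * (r * t * r⁻¹) := by
  obtain ⟨hi, ei⟩ := F.turn_inv h
  have e10 : d1 + (d0 + d1) = d0 := by rw [add_comm d0 d1, ← add_assoc, V_add_self, zero_add]
  have e00 : d0 + (d0 + d1) = d1 := by rw [← add_assoc, V_add_self, zero_add]
  rcases F.turn_co h with hw | hw <;> rcases F.turn_co h' with hw' | hw'
  · exact Or.inl (F.turn_eq h h' (Or.inl ⟨rfl, rfl⟩) hw hw')
  · refine Or.inr ?_
    rw [← ei]
    refine F.turn_eq hi h' (Or.inr ⟨rfl, rfl⟩) ?_ hw'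
    rw [ei]
    have := F.co_mul F.co_t hw
    rwa [e10] at this
  · refine Or.inr ?_
    rw [← ei]
    refine F.turn_eq hi h' (Or.inl ⟨rfl, rfl⟩) ?_ hw'
    rw [ei]
    have := F.co_mul F.co_t hw
    rwa [e00, add_comm d1 d0] at this
  · exact Or.inl (F.turn_eq h h' (Or.inr ⟨rfl, rfl⟩) hw hw')

/-- A turning element centralises the involutions of `Q` commuting with `x` and `t`. -/
theorem turn_fix (h : F.Turn r) {e : G} (he : e ∈ Q) (hee : e * e = 1) (hex : e * x = x * e) (het : e * t = t * e) :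
    r * e = e * r := by
  by_cases hU : e ∈ F.pr.U
  · exact (F.pr.U_central hU h.2.1 h.2.2.1).symm
  obtain ⟨h3, hrz, hrx, -, -⟩ := id h
  obtain ⟨-, ei⟩ := F.turn_inv h
  have hez : e * z = z * e := F.pr.h.es.comm e he
  have step : ∀ {e : G}, e ∈ Q → e * e = 1 → e * x = x * e → e * t = t * e →
      r * e * r⁻¹ ∈ Q ∧ r * e * r⁻¹ * (r * e * r⁻¹) = 1 ∧ r * e * r⁻¹ * x = x * (r * e * r⁻¹) ∧
        r * e * r⁻¹ * t = t * (r * e * r⁻¹) := by
    intro e he hee hex het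
    refine ⟨F.pr.h.nor_mem hrz he, ?_, Commute.mul_left (Commute.mul_left hrx hex) (Commute.inv_left hrx), ?_⟩
    · rw [show r * e * r⁻¹ * (r * e * r⁻¹) = r * (e * e) * r⁻¹ by group, hee, mul_one, mul_inv_cancel]
    · have hc : e * (t * (r * t * r⁻¹)) = t * (r * t * r⁻¹) * e :=
        Commute.mul_right het (F.turn_comm h (F.pr.h.es.comm e he) hex het)
      rw [← ei] at hc
      calc r * e * r⁻¹ * t = r * (e * (r⁻¹ * t * r⁻¹⁻¹)) * r⁻¹ := by group
        _ = r * (r⁻¹ * t * r⁻¹⁻¹ * e) * r⁻¹ := by rw [hc]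
        _ = t * (r * e * r⁻¹) := by group
  obtain ⟨q1, s1, x1, t1⟩ := step he hee hex het
  obtain ⟨q2, s2, x2, t2⟩ := step q1 s1 x1 t1
  have hne : ∀ {e : G}, e ∈ Q → e * e = 1 → e * x = x * e → e * t = t * e → e ∉ F.pr.U →
      Eqp e0 e1 (π e) ∨ Eqp e0 f1 (π e) := by
    intro e he hee hex het hU
    refine (F.e_coord he hee hex het).resolve_left fun h0 => hU (F.pr.mem_U_iff.mpr ⟨he, ?_⟩)
    rcases h0 with h0 | h0
    · exact Or.inl h0
    · exact Or.inr (by rw [h0, F.px, zero_add])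
  have hU' : ∀ {e : G}, e ∉ F.pr.U → r * e * r⁻¹ ∉ F.pr.U := fun {e} hU h' => hU (by
    have hh := F.pr.U_central h' hrz hrx
    have : e = r * e * r⁻¹ := by
      calc e = r⁻¹ * (r * e * r⁻¹ * r) := by group
        _ = r⁻¹ * (r * (r * e * r⁻¹)) := by rw [hh]
        _ = r * e * r⁻¹ := by group
    rwa [this])
  have hr3 : r * (r * r) = 1 := by rw [← h3, pow_succ, pow_two, mul_assoc]
  have he3 : r * (r * (r * e * r⁻¹) * r⁻¹) * r⁻¹ = e := by
    rw [show r * (r * (r * e * r⁻¹) * r⁻¹) * r⁻¹ = r * (r * r) * e * (r * (r * r))⁻¹ by group, hr3]; simp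
  have hπ : ∀ {e : G}, e ∈ Q → π (r * e * r⁻¹) = (M r).1 (π e) := fun {e} he => F.pr.h.M_act r hrz e he
  have hcl : Eqp e0 (π e) (π (r * e * r⁻¹)) := by
    rw [hπ he]
    refine two_classes (F.M_fix hrz hrx) ?_ (hne he hee hex het hU) ?_ ?_
    · rw [← hπ he, ← hπ q1, ← hπ q2, he3]
    · rw [← hπ he]; exact hne q1 s1 x1 t1 (hU' hU)
    · rw [← hπ he, ← hπ q1]; exact hne q2 s2 x2 t2 (hU' (hU' hU))
  obtain ⟨v, hv⟩ : ∃ v, v = e * (r * e * r⁻¹) := ⟨_, rfl⟩
  have hvU : v ∈ F.pr.U := by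
    refine hv ▸ F.pr.mem_U_iff.mpr ⟨mul_mem he q1, ?_⟩
    rw [F.pr.h.π_mul e he _ q1, F.px]
    rcases hcl with c | c <;> rw [c]
    · exact Or.inl (V_add_self _)
    · exact Or.inr (by rw [← add_assoc, V_add_self, zero_add])
  have hvv : v * v = 1 := (F.pr.U_le hvU).2.2
  have hvr : r * v * r⁻¹ = v := conj_fix_iff.mpr (F.pr.U_central hvU hrz hrx).symm
  have ev : r * e * r⁻¹ = e * v := by rw [hv, ← mul_assoc, hee, one_mul]
  have h3v : e = e * v := by
    have hst : ∀ a : G, r * (a * v) * r⁻¹ = r * a * r⁻¹ * v := fun a => by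
      rw [show r * (a * v) * r⁻¹ = r * a * r⁻¹ * (r * v * r⁻¹) by group, hvr]
    nth_rewrite 1 [← he3]
    rw [ev, hst e, ev, mul_assoc e v v, hvv, mul_one, ev]
  rw [← h3v] at ev
  exact mul_inv_eq_iff_eq_mul.mp ev

/-- Conjugation by an element of `C(z, t)` outside `C(x)`. -/
theorem outer_co {c y : G} {A D : V} (hcz : c * z = z * c) (hct : c * t = t * c) (hcx : c * x * c⁻¹ ≠ x)
    (h : F.Co y A D) : F.Co (c * y * c⁻¹) ((M c).1 A + (M c).1 D) ((M c).1 D) := by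
  obtain ⟨hxz, -⟩ := F.outer hcz hct hcx
  have hsz := F.pr.h.es.comm s F.hs
  have hc2 : s * c * x = x * (s * c) := by
    refine conj_fix_iff.mp ?_
    rw [show s * c * x * (s * c)⁻¹ = s * (c * x * c⁻¹) * s⁻¹ by group, hxz,
      show s * (x * z) * s⁻¹ = s * x * s⁻¹ * (s * z * s⁻¹) by group, F.s_x, conj_fix_iff.mpr hsz, mul_assoc,
      F.pr.h.zz, mul_one]
  have hM : M (s * c) = M c := by rw [F.pr.h.M_mul _ _ hsz hcz, F.pr.h.M_Q F.hs, one_mul]
  have hco := F.co_s (F.co_conj (Commute.mul_left hsz hcz) hc2 h)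
  rw [hM] at hco
  have hy' : c * y * c⁻¹ * z = z * (c * y * c⁻¹) :=
    Commute.mul_left (Commute.mul_left hcz (F.co_comm h).1) (Commute.inv_left hcz)
  have hs2 : s * s * (c * y * c⁻¹) * (s * s)⁻¹ = c * y * c⁻¹ := by
    refine conj_fix_iff.mpr ?_
    rcases F.pr.h.es.sq s F.hs with e | e <;> rw [e]
    · simp
    · exact hy'.symm
  rwa [show s * (s * c * y * (s * c)⁻¹) * s⁻¹ = s * s * (c * y * c⁻¹) * (s * s)⁻¹ by group, hs2] at hco

theorem d1_ne : ¬ Eqp e0 0 d1 := by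
  intro h
  have e := F.eqp_bf h (w := d0) std_facts.2.2.2.2.2.2.1
  rw [bf_zero_left, d_facts.2.2.1] at e
  exact one_ne_zero e

/-- An element of `C(z, t)` outside `C(x)` moves the four group. -/
theorem outer_w (h : F.Turn r) {c : G} (hcz : c * z = z * c) (hct : c * t = t * c) (hcx : c * x * c⁻¹ ≠ x) :
    c * (r * t * r⁻¹) * c⁻¹ = t * (r * t * r⁻¹) := by
  obtain ⟨h3, hrz, hrx, hne, hp⟩ := id h
  obtain ⟨hxz, g0, g1, -, -⟩ := F.outer hcz hct hcx
  have hcon : ∀ {p q : G}, p * q = q * p → c * p * c⁻¹ * (c * q * c⁻¹) = c * q * c⁻¹ * (c * p * c⁻¹) := fun {p q} e => by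
    rw [show c * p * c⁻¹ * (c * q * c⁻¹) = c * (p * q) * c⁻¹ by group, e]; group
  have hz' : c * r * c⁻¹ * z = z * (c * r * c⁻¹) := by
    have := hcon hrz
    rwa [conj_fix_iff.mpr hcz] at this
  have hx' : c * r * c⁻¹ * x = x * (c * r * c⁻¹) := by
    have hh := hcon hrx
    rw [hxz] at hh
    have : Commute (c * r * c⁻¹) (x * z * z) := Commute.mul_right hh hz'
    rwa [mul_assoc x z z, F.pr.h.zz, mul_one] at this
  have ht : c * t * c⁻¹ = t := conj_fix_iff.mpr hct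
  have ht' : c⁻¹ * t * c = t := by
    have := conj_fix_iff.mpr (Commute.inv_left hct)
    rwa [inv_inv] at this
  have e : c * r * c⁻¹ * t * (c * r * c⁻¹)⁻¹ = c * (r * t * r⁻¹) * c⁻¹ := by
    rw [show c * r * c⁻¹ * t * (c * r * c⁻¹)⁻¹ = c * (r * (c⁻¹ * t * c) * r⁻¹) * c⁻¹ by group, ht']
  have hT : F.Turn (c * r * c⁻¹) := by
    refine ⟨by rw [conj_pow, h3, mul_one, mul_inv_cancel], hz', hx', fun e' => hne ?_, ?_⟩
    · rw [e] at e'
      calc r * t * r⁻¹ = c⁻¹ * (c * (r * t * r⁻¹) * c⁻¹) * c := by group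
        _ = t := by rw [e', ht']
    · rw [e]
      nth_rewrite 1 [← ht]
      rw [show c * t * c⁻¹ * (c * (r * t * r⁻¹) * c⁻¹) * (c * r * c⁻¹ * (c * (r * t * r⁻¹) * c⁻¹) * (c * r * c⁻¹)⁻¹) =
        c * (t * (r * t * r⁻¹) * (r * (r * t * r⁻¹) * r⁻¹)) * c⁻¹ by group, hp]
      group
  rcases F.turn_unique h hT with u | u <;> rw [e] at u
  · exfalso
    have m0 : ∀ {v w : V}, Eqp e0 v w → Eqp e0 ((M c).1 v) ((M c).1 w) := fun {v w} hh => by
      have := hh.map (M c)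
      rwa [(F.point_cases hcz hct).1] at this
    have fin : ∀ {A D : V}, F.Co (r * t * r⁻¹) A D → Eqp e0 D ((M c).1 D) := fun {A D} hw => by
      have := F.outer_co hcz hct hcx hw
      rw [u] at this
      exact (F.co_unique hw this).2
    rcases F.turn_co h with hw | hw
    · have := fin hw
      rw [map_add] at this
      have h2 := (g0.add g1).trans this.symm
      rw [add_assoc, V_add_self, add_zero] at h2
      exact F.d1_ne (F.zero_of_eqp_add h2)
    · exact F.d1_ne (F.zero_of_eqp_add (g0.trans (fin hw).symm).symm)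
  · exact u

/-- An element of `C(z, t)` centralising the four group fixes `x`. -/
theorem x_of_w (h : F.Turn r) {c : G} (hcz : c * z = z * c) (hct : c * t = t * c)
    (hcw : c * (r * t * r⁻¹) = r * t * r⁻¹ * c) : c * x = x * c := by
  by_contra hcx
  have := F.outer_w h hcz hct fun e => hcx (conj_fix_iff.mp e)
  rw [conj_fix_iff.mpr hcw] at this
  exact F.t_not_Q (by rw [right_eq_mul.mp this]; exact one_mem _)

theorem exists_outer : ∃ c, c * z = z * c ∧ c * t = t * c ∧ c * x * c⁻¹ = x * z := by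
  obtain ⟨-, -, -, q3, -, -, b6, b7, b8, -⟩ := std_facts
  obtain ⟨s0, s3, s4, -, -⟩ := swap_values
  have hk : tr d1 q3 * swap ∈ Om :=
    (Subgroup.mul_mem_iff_of_index_two index_Om).mpr (iff_of_false (tr_not_mem _ _) swap_not_mem)
  have hval : ∀ v, (tr d1 q3 * swap).1 v = swap.1 v + bf (swap.1 v) d1 • d1 := fun v => tr_apply d1 q3 _
  obtain ⟨c0, h0z, h0x, hM⟩ := F.pr.exists_lift hk (by rw [F.px, hval, s0, b7, zero_smul, add_zero])
  have h1 := F.co_s (F.co_conj h0z h0x F.co_t)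
  rw [hM, hval, hval, s3, s4, b8, bf_self, one_smul, zero_smul, add_zero, add_assoc, V_add_self, add_zero] at h1
  have hu := F.co_zero (F.co_mul F.co_t h1) (Or.inl (V_add_self _)) (Or.inl (V_add_self _))
  obtain ⟨p, hpz, hpx, hp⟩ := F.t_surj hu
  rw [← mul_assoc, F.tt, one_mul] at hp
  have hsz := F.pr.h.es.comm s F.hs
  refine ⟨p⁻¹ * s * c0, Commute.mul_left (Commute.mul_left (Commute.inv_left hpz) hsz) h0z, ?_, ?_⟩
  · refine conj_fix_iff.mp ?_
    rw [show p⁻¹ * s * c0 * t * (p⁻¹ * s * c0)⁻¹ = p⁻¹ * (s * (c0 * t * c0⁻¹) * s⁻¹) * p by group, ← hp]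
    group
  · rw [show p⁻¹ * s * c0 * x * (p⁻¹ * s * c0)⁻¹ = p⁻¹ * (s * (c0 * x * c0⁻¹) * s⁻¹) * p by group,
      conj_fix_iff.mpr h0x, F.s_x]
    calc p⁻¹ * (x * z) * p = p⁻¹ * (x * z * p) := by group
      _ = p⁻¹ * (p * (x * z)) := by rw [(Commute.mul_right hpx hpz : Commute p (x * z)).eq]
      _ = x * z := by group

end Fr

end CfsgLib.SuzType
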